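import Groth.Agent.GrpQ80.MonoFactor
import Groth.Agent.AGF80.Orbit
import Groth.Agent.SpPts86.LocPMore
import Groth.Agent.FlatMor66.FlatDescentSource

/-!
Quotients by flat stabilizers, quotients by flat kernels, images of graphs of actions.
-/

set_option autoImplicit false
set_option backward.isDefEq.respectTransparency.types false

universe u

open CategoryTheory MonoidalCategory CartesianMonoidalCategory MonObj GrpObj AlgebraicGeometry
open CategoryTheory.Limits (pullback)

namespace Groth.Agent.GrpQ80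

section Cat

variable {C : Type*} [Category C] {A B G Q X : C}

lemma isPullback_of_mono {a b : A ⟶ G} {p : G ⟶ Q} {i : Q ⟶ X} [Mono i]
    (h : IsPullback a b (p ≫ i) (p ≫ i)) : IsPullback a b p p :=
  ⟨⟨by rw [← cancel_mono i, Category.assoc, Category.assoc, h.w]⟩,
    ⟨Limits.PullbackCone.IsLimit.mk _ (fun c => h.lift c.fst c.snd (by rw [reassoc_of% c.condition]))
      (fun _ => h.lift_fst _ _ _) (fun _ => h.lift_snd _ _ _)
      (fun c m h₁ h₂ => h.hom_ext (by rw [h.lift_fst, h₁]) (by rw [h.lift_snd, h₂]))⟩⟩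

end Cat

variable {S : Scheme.{u}}

theorem flat_fst_left {X Y Z W : Over S} {p : W ⟶ X} {q : W ⟶ Y} {f : X ⟶ Z} {g : Y ⟶ Z}
    (sq : IsPullback p q f g) [Flat p.left] : Flat (pullback.fst f.left g.left) := by
  rw [← (AlgGrp79.isPullback_left sq).isoPullback_inv_fst]; infer_instance

/-- A morphism over `S` with flat kernel pair factors as an fppf cover followed by a monomorphism. -/
theorem exists_factor_over {X Y : Over S} (f : X ⟶ Y) [LocallyOfFinitePresentation X.hom]
    [LocallyOfFiniteType Y.hom] [Flat (pullback.fst f.left f.left)] :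
    ∃ (Q : Over S) (p : X ⟶ Q) (i : Q ⟶ Y), p ≫ i = f ∧ Surjective p.left ∧ Flat p.left ∧
      LocallyOfFinitePresentation p.left ∧ Mono i ∧ LocallyOfFinitePresentation Q.hom := by
  have : LocallyOfFinitePresentation (f.left ≫ Y.hom) := by rw [Over.w]; infer_instance
  have : LocallyOfFinitePresentation f.left := SpPts86.lfp_of_comp f.left Y.hom
  obtain ⟨Q, f', f'', h1, h2, h3, h4, -, h5⟩ := exists_factor f.left
  refine ⟨Over.mk (f'' ≫ Y.hom), Over.homMk f' (by show f' ≫ f'' ≫ Y.hom = X.hom; rw [reassoc_of% h5, Over.w]),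
    Over.homMk f'' rfl, by ext; exact h5, h1, h2, h3, ?_, ?_⟩
  · have : Mono (Over.homMk f'' rfl : Over.mk (f'' ≫ Y.hom) ⟶ Y).left := h4
    exact Over.mono_of_mono_left _
  · have : LocallyOfFinitePresentation (f' ≫ f'' ≫ Y.hom) := by rw [reassoc_of% h5, Over.w]; infer_instance
    exact Unr55.locallyOfFinitePresentation_of_fppf_comp f' (f'' ≫ Y.hom)

theorem exists_quotient_stabilizer (G X : Over S) [GrpObj G]
    [LocallyOfFinitePresentation G.hom] [LocallyOfFiniteType X.hom] (a : AlgGrp.Action G X)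
    (ξ : 𝟙_ (Over S) ⟶ X) (hH : Flat (pullback (a.orbitMap ξ) ξ).hom) :
    ∃ (Q : Over S) (p : G ⟶ Q) (i : Q ⟶ X), p ≫ i = a.orbitMap ξ ∧
      Surjective p.left ∧ Flat p.left ∧ LocallyOfFinitePresentation p.left ∧ Mono i ∧
      LocallyOfFinitePresentation Q.hom ∧
      IsPullback ((G ◁ pullback.fst (a.orbitMap ξ) ξ) ≫ μ[G]) (fst G (pullback (a.orbitMap ξ) ξ)) p p := by
  let H := pullback (a.orbitMap ξ) ξ
  let j : H ⟶ G := pullback.fst (a.orbitMap ξ) ξ
  have hH' : IsPullback j (toUnit H) (a.orbitMap ξ) ξ := by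
    rw [toUnit_unique (toUnit H) (pullback.snd (a.orbitMap ξ) ξ)]; exact IsPullback.of_hasPullback _ _
  have : Mono j := AGF80.Orbit.mono_isotropy a ξ j hH'
  have sq := AGF80.Orbit.isPullback_of_stabilizer a ξ j hH'
  have : Flat (fst G H).left := inferInstanceAs (Flat (pullback.fst G.hom H.hom))
  have := flat_fst_left sq
  obtain ⟨Q, p, i, hpi, h1, h2, h3, h4, h5⟩ := exists_factor_over (a.orbitMap ξ)
  exact ⟨Q, p, i, hpi, h1, h2, h3, h4, h5, isPullback_of_mono (i := i) (by rw [hpi]; exact sq.flip)⟩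

theorem isPullback_of_kernel {G H K : Over S} [GrpObj G] [GrpObj H] (u : G ⟶ H) [IsMonHom u] (j : K ⟶ G)
    (hK : IsPullback j (toUnit K) u η[H]) :
    IsPullback (fst G K) ((G ◁ j) ≫ μ[G]) u u := by
  have : Mono j := ⟨fun a b h => hK.hom_ext h (toUnit_unique _ _)⟩
  have key : ∀ {T : Over S} (x y : T ⟶ G), x ≫ u = y ≫ u → (x⁻¹ * y) ≫ u = toUnit T ≫ η[H] := by
    intro T x y h
    rw [MonObj.mul_comp, GrpObj.inv_comp, h, inv_mul_cancel, Hom.one_def]
  refine ⟨⟨?_⟩, ⟨Limits.PullbackCone.IsLimit.mk _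
    (fun c => lift c.fst (hK.lift (c.fst⁻¹ * c.snd) (toUnit c.pt) (key _ _ c.condition))) ?_ ?_ ?_⟩⟩
  · rw [AGF80.Orbit.whiskerLeft_comp_mul, MonObj.mul_comp, Category.assoc, hK.w, comp_toUnit_assoc,
      ← Hom.one_def, _root_.mul_one]
  · intro c; simp
  · intro c
    rw [AGF80.Orbit.lift_whiskerLeft_mul, hK.lift_fst, mul_inv_cancel_left]
  · intro c m h1 h2
    ext : 1
    · simp [← h1]
    · rw [lift_snd, ← cancel_mono j, hK.lift_fst, ← h2, ← h1, AGF80.Orbit.whiskerLeft_comp_mul, MonObj.comp_mul,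
        inv_mul_cancel_left, Category.assoc]

theorem exists_quotient_kernel (G H : Over S) [GrpObj G] [GrpObj H]
    [LocallyOfFinitePresentation G.hom] [LocallyOfFiniteType H.hom] (u : G ⟶ H) [IsMonHom u]
    (hK : Flat (pullback u η[H]).hom) :
    ∃ (Q : Over S) (_ : GrpObj Q) (p : G ⟶ Q) (i : Q ⟶ H), IsMonHom p ∧ IsMonHom i ∧ p ≫ i = u ∧
      Surjective p.left ∧ Flat p.left ∧ LocallyOfFinitePresentation p.left ∧ Mono i ∧
      LocallyOfFinitePresentation Q.hom ∧ AlgGrp.IsKernel (pullback.fst u η[H]) p := by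
  let K := pullback u η[H]
  let j : K ⟶ G := pullback.fst u η[H]
  have hK' : IsPullback j (toUnit K) u η[H] := by
    rw [toUnit_unique (toUnit K) (pullback.snd u η[H])]; exact IsPullback.of_hasPullback _ _
  have : Flat (fst G K).left := inferInstanceAs (Flat (pullback.fst G.hom K.hom))
  have := flat_fst_left (isPullback_of_kernel u j hK')
  obtain ⟨Q, p, i, hpi, h1, h2, h3, h4, h5⟩ := exists_factor_over u
  have hc : AlgGrp79.IsCov p := ⟨h2, h1, h3⟩
  have := hc.epi
  have hc2 : AlgGrp79.IsCov (MonoidalCategory.tensorHom p p) := by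
    rw [MonoidalCategory.tensorHom_def]; exact (hc.whiskerRight G).comp (hc.whiskerLeft Q)
  have := hc2.epi
  obtain ⟨m, hm⟩ := hc2.desc (μ[G] ≫ p) fun T a b hab => by
    rw [← cancel_mono i, Category.assoc, Category.assoc, Category.assoc, Category.assoc, hpi, IsMonHom.mul_hom u,
      ← hpi, ← MonoidalCategory.tensorHom_comp_tensorHom, Category.assoc, reassoc_of% hab]
  obtain ⟨v, hv⟩ := hc.desc (ι[G] ≫ p) fun T a b hab => by
    rw [← cancel_mono i, Category.assoc, Category.assoc, Category.assoc, Category.assoc, hpi,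
      GrpObj.inv_hom u, ← hpi, Category.assoc, reassoc_of% hab]
  have hmi : m ≫ i = MonoidalCategory.tensorHom i i ≫ μ[H] := by
    rw [← cancel_epi (MonoidalCategory.tensorHom p p), reassoc_of% hm, hpi, IsMonHom.mul_hom u,
      MonoidalCategory.tensorHom_comp_tensorHom_assoc, hpi]
  have hvi : v ≫ i = i ≫ ι[H] := by
    rw [← cancel_epi p, reassoc_of% hv, hpi, GrpObj.inv_hom u, reassoc_of% hpi]
  have hei : (η[G] ≫ p) ≫ i = η[H] := by rw [Category.assoc, hpi, IsMonHom.one_hom]
  have hpt : ∀ {T : Over S} (a b : T ⟶ Q), (lift a b ≫ m) ≫ i = (a ≫ i) * (b ≫ i) := fun a b => by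
    rw [Category.assoc, hmi, lift_map_assoc, Hom.mul_def]
  let _ : GrpObj Q :=
    { one := η[G] ≫ p
      mul := m
      inv := v
      one_mul := by
        rw [show (η[G] ≫ p) ▷ Q = lift (fst _ Q ≫ η[G] ≫ p) (snd _ Q) by ext <;> simp, ← cancel_mono i, hpt,
          Category.assoc, hei, toUnit_unique (fst (𝟙_ (Over S)) Q) (toUnit _), ← Hom.one_def, _root_.one_mul,
          CartesianMonoidalCategory.leftUnitor_hom]
      mul_one := by
        rw [show Q ◁ (η[G] ≫ p) = lift (fst Q _) (snd Q _ ≫ η[G] ≫ p) by ext <;> simp, ← cancel_mono i, hpt,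
          Category.assoc, hei, toUnit_unique (snd Q (𝟙_ (Over S))) (toUnit _), ← Hom.one_def, _root_.mul_one,
          CartesianMonoidalCategory.rightUnitor_hom]
      mul_assoc := by
        have hmi' : m ≫ i = (fst Q Q ≫ i) * (snd Q Q ≫ i) := by
          rw [← hpt, lift_fst_snd, Category.id_comp]
        rw [show m ▷ Q = lift (fst (Q ⊗ Q) Q ≫ m) (snd (Q ⊗ Q) Q) by ext <;> simp,
          ← Category.assoc (α_ Q Q Q).hom,
          show (α_ Q Q Q).hom ≫ (Q ◁ m) =
            lift (fst (Q ⊗ Q) Q ≫ fst Q Q) (lift (fst (Q ⊗ Q) Q ≫ snd Q Q) (snd (Q ⊗ Q) Q) ≫ m) by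
              rw [show Q ◁ m = lift (fst Q _) (snd Q _ ≫ m) from CartesianMonoidalCategory.hom_ext _ _ (by simp) (by simp),
                comp_lift, associator_hom_fst, ← Category.assoc (α_ Q Q Q).hom,
                show (α_ Q Q Q).hom ≫ snd Q (Q ⊗ Q) = lift (fst (Q ⊗ Q) Q ≫ snd Q Q) (snd (Q ⊗ Q) Q) from
                  CartesianMonoidalCategory.hom_ext _ _ (by simp) (by simp)],
          ← cancel_mono i, hpt, hpt, Category.assoc, hmi', hpt, MonObj.comp_mul]
        simp only [Category.assoc]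
        exact _root_.mul_assoc _ _ _
      left_inv := by
        rw [← cancel_mono i, hpt, hvi, Category.id_comp, Category.assoc, hei, ← Hom.one_def, ← Hom.inv_def]
        exact inv_mul_cancel _
      right_inv := by
        rw [← cancel_mono i, hpt, hvi, Category.id_comp, Category.assoc, hei, ← Hom.one_def, ← Hom.inv_def]
        exact mul_inv_cancel _ }
  refine ⟨Q, inferInstance, p, i, ⟨rfl, hm.symm⟩, ⟨hei, hmi⟩, hpi, h1, h2, h3, h4, h5, ?_⟩
  refine ⟨⟨?_⟩, ⟨Limits.PullbackCone.IsLimit.mk _ (fun c => hK'.lift c.fst c.snd ?_) ?_ ?_ ?_⟩⟩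
  · rw [← cancel_mono i, Category.assoc, hpi, Category.assoc]
    show j ≫ u = toUnit K ≫ (η[G] ≫ p) ≫ i
    rw [hei, hK'.w]
  · have e := c.condition =≫ i
    rw [Category.assoc, hpi, Category.assoc] at e
    rw [e]
    congr 1
  · intro c; exact hK'.lift_fst _ _ _
  · intro c; exact hK'.lift_snd _ _ _
  · intro c m' h1' h2'
    exact hK'.hom_ext (by rw [hK'.lift_fst]; exact h1') (by rw [hK'.lift_snd]; exact h2')

/-- The kernel pair of the graph of an action is the pullback of the stabilizer of the diagonal. -/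
theorem exists_graph_kernel (G X : Over S) [GrpObj G] (a : AlgGrp.Action G X) :
    ∃ B : pullback (pullback.snd (lift a.act (snd G X)) (lift (𝟙 X) (𝟙 X))) (snd G X) ⟶ G ⊗ X,
      IsPullback (pullback.snd (pullback.snd (lift a.act (snd G X)) (lift (𝟙 X) (𝟙 X))) (snd G X)) B
        (lift a.act (snd G X)) (lift a.act (snd G X)) := by
  let D := lift a.act (snd G X)
  let Δ := lift (𝟙 X) (𝟙 X)
  let F := pullback D Δ
  let iF : F ⟶ G ⊗ X := pullback.fst D Δ
  let q : F ⟶ X := pullback.snd D Δ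
  have hwa : iF ≫ a.act = q ∧ iF ≫ snd G X = q := by
    have h : iF ≫ D = q ≫ Δ := pullback.condition
    rw [comp_lift, comp_lift, Category.comp_id] at h
    exact ⟨by simpa using congr($h ≫ fst X X), by simpa using congr($h ≫ snd X X)⟩
  let P := pullback q (snd G X)
  let n : P ⟶ F := pullback.fst q (snd G X)
  let A : P ⟶ G ⊗ X := pullback.snd q (snd G X)
  have hn : n ≫ q = A ≫ snd G X := pullback.condition
  let h : P ⟶ G := n ≫ iF ≫ fst G X
  have hfix : lift h (A ≫ snd G X) ≫ a.act = A ≫ snd G X := by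
    rw [← hn, show lift h (n ≫ q) = n ≫ iF by ext <;> simp [h, hwa.2], Category.assoc, hwa.1]
  let B : P ⟶ G ⊗ X := lift ((A ≫ fst G X) * h) (A ≫ snd G X)
  have hD : ∀ {T : Over S} (x : T ⟶ G ⊗ X),
      x ≫ D = lift (lift (x ≫ fst G X) (x ≫ snd G X) ≫ a.act) (x ≫ snd G X) := fun x => by
    rw [comp_lift, show lift (x ≫ fst G X) (x ≫ snd G X) = x by ext <;> simp]
  have hw : A ≫ D = B ≫ D := by
    rw [hD, hD, lift_fst, lift_snd, AlgGrp79.mul_act', hfix]
  have sq : IsPullback A B D D := by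
    have ht : ∀ {T : Over S} (x y : T ⟶ G ⊗ X), x ≫ D = y ≫ D →
        lift ((x ≫ fst G X)⁻¹ * (y ≫ fst G X)) (x ≫ snd G X) ≫ D = (x ≫ snd G X) ≫ Δ ∧
          x ≫ snd G X = y ≫ snd G X := by
      intro T x y e
      rw [hD, hD] at e
      have e1 := congr($e ≫ snd X X)
      have e2 := congr($e ≫ fst X X)
      simp only [lift_fst, lift_snd] at e1 e2
      refine ⟨?_, e1⟩
      have e3 : lift ((x ≫ fst G X)⁻¹ * (y ≫ fst G X)) (x ≫ snd G X) ≫ a.act = x ≫ snd G X := by
        rw [AlgGrp79.mul_act']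
        nth_rw 1 [e1]
        rw [← e2, AlgGrp79.inv_act_act]
      rw [hD, lift_fst, lift_snd, e3, comp_lift, Category.comp_id]
    refine ⟨⟨hw⟩, ⟨Limits.PullbackCone.IsLimit.mk _ (fun c => pullback.lift
      (pullback.lift (lift ((c.fst ≫ fst G X)⁻¹ * (c.snd ≫ fst G X)) (c.fst ≫ snd G X)) (c.fst ≫ snd G X)
        (ht _ _ c.condition).1) c.fst (pullback.lift_snd _ _ _)) ?_ ?_ ?_⟩⟩
    · intro c; exact pullback.lift_snd _ _ _
    · intro c
      ext : 1
      · simp [B, h, n, iF, A, MonObj.comp_mul, Limits.pullback.lift_fst_assoc, Limits.pullback.lift_snd_assoc]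
      · simp [B, A, Limits.pullback.lift_snd_assoc, (ht _ _ c.condition).2]
    · intro c m h1 h2
      have h3 : (m ≫ h) = (c.fst ≫ fst G X)⁻¹ * (c.snd ≫ fst G X) := by
        rw [← h1, ← h2]
        simp [B, MonObj.comp_mul, inv_mul_cancel_left]
      refine pullback.hom_ext ?_ (by rw [pullback.lift_snd]; exact h1)
      rw [pullback.lift_fst]
      have h4 : m ≫ n ≫ q = c.fst ≫ snd G X := by rw [hn, ← h1, Category.assoc]
      refine pullback.hom_ext ?_ (by rw [pullback.lift_snd, Category.assoc]; exact h4)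
      rw [pullback.lift_fst]
      ext : 1
      · simpa [h] using h3
      · rw [Category.assoc, Category.assoc, lift_snd, show pullback.fst D Δ ≫ snd G X = q from hwa.2]
        exact h4
  exact ⟨B, sq⟩

/-- The graph of an action has flat kernel pair iff the stabilizer of the diagonal is flat. -/
theorem flat_fst_graph_iff (G X : Over S) [GrpObj G] (a : AlgGrp.Action G X) :
    Flat (pullback.fst (lift a.act (snd G X)).left (lift a.act (snd G X)).left) ↔
      Flat (pullback.snd (lift a.act (snd G X)) (lift (𝟙 X) (𝟙 X))).left := by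
  obtain ⟨B, sq⟩ := exists_graph_kernel G X a
  let F := pullback (lift a.act (snd G X)) (lift (𝟙 X) (𝟙 X))
  let q : F ⟶ X := pullback.snd (lift a.act (snd G X)) (lift (𝟙 X) (𝟙 X))
  let P := pullback q (snd G X)
  let n : P ⟶ F := pullback.fst q (snd G X)
  let A : P ⟶ G ⊗ X := pullback.snd q (snd G X)
  have sqA : IsPullback n A q (snd G X) := IsPullback.of_hasPullback _ _
  constructor
  · intro hf
    have hA : Flat A.left := by
      rw [← (AlgGrp79.isPullback_left sq).isoPullback_hom_fst]; infer_instance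
    let σ : X ⟶ G ⊗ X := lift 1 (𝟙 X)
    have hσ : σ ≫ snd G X = 𝟙 X := lift_snd _ _
    let σ' : F ⟶ P := pullback.lift (𝟙 F) (q ≫ σ) (by rw [Category.id_comp, Category.assoc, hσ, Category.comp_id])
    have sqσ : IsPullback σ' q A σ := by
      refine IsPullback.of_right ?_ (pullback.lift_snd _ _ _) sqA
      rw [show σ' ≫ n = 𝟙 F from pullback.lift_fst _ _ _, hσ]
      exact IsPullback.of_horiz_isIso ⟨by simp⟩
    exact MorphismProperty.of_isPullback (P := @Flat) (AlgGrp79.isPullback_left sqσ) hA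
  · intro hq
    have : Flat A.left := MorphismProperty.of_isPullback (P := @Flat) (AlgGrp79.isPullback_left sqA) hq
    exact flat_fst_left sq

theorem image_graph (G X : Over S) [GrpObj G] [IsNoetherian S]
    [Flat G.hom] [LocallyOfFiniteType G.hom] [QuasiCompact G.hom] [LocallyOfFiniteType X.hom] [QuasiCompact X.hom]
    (a : AlgGrp.Action G X) :
    ((∃ (Y : Over S) (ψ : G ⊗ X ⟶ Y) (τ : Y ⟶ X ⊗ X), ψ ≫ τ = lift a.act (snd G X) ∧
        Surjective ψ.left ∧ Flat ψ.left ∧ LocallyOfFinitePresentation ψ.left ∧ Mono τ) ↔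
      Flat (pullback.snd (lift a.act (snd G X)) (lift (𝟙 X) (𝟙 X))).left) ∧
    (∀ (Y : Over S) (ψ : G ⊗ X ⟶ Y) (τ : Y ⟶ X ⊗ X), ψ ≫ τ = lift a.act (snd G X) →
      Surjective ψ.left → Flat ψ.left → LocallyOfFinitePresentation ψ.left → Mono τ →
      (Surjective (τ ≫ fst X X).left ∧ Flat (τ ≫ fst X X).left ∧ LocallyOfFinitePresentation (τ ≫ fst X X).left ∧
        QuasiCompact (τ ≫ fst X X).left ∧ QuasiSeparated (τ ≫ fst X X).left ∧
       Surjective (τ ≫ snd X X).left ∧ Flat (τ ≫ snd X X).left ∧ LocallyOfFinitePresentation (τ ≫ snd X X).left ∧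
        QuasiCompact (τ ≫ snd X X).left ∧ QuasiSeparated (τ ≫ snd X X).left)) := by
  have : LocallyOfFinitePresentation G.hom := LocallyOfFinitePresentation.iff_locallyOfFiniteType.2 inferInstance
  have : LocallyOfFinitePresentation X.hom := LocallyOfFinitePresentation.iff_locallyOfFiniteType.2 inferInstance
  have : LocallyOfFinitePresentation (G ⊗ X).hom :=
    inferInstanceAs (LocallyOfFinitePresentation (pullback.fst G.hom X.hom ≫ G.hom))
  have : LocallyOfFiniteType (X ⊗ X).hom :=
    inferInstanceAs (LocallyOfFiniteType (pullback.fst X.hom X.hom ≫ X.hom))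
  constructor
  · rw [← flat_fst_graph_iff]
    constructor
    · rintro ⟨Y, ψ, τ, e, -, hfl, -, hm⟩
      exact flat_fst_of_factor _ ψ.left τ.left (by rw [← Over.comp_left, e])
    · intro hf
      obtain ⟨Y, ψ, τ, e, h1, h2, h3, h4, -⟩ := exists_factor_over (lift a.act (snd G X))
      exact ⟨Y, ψ, τ, e, h1, h2, h3, h4⟩
  · intro Y ψ τ e hs hf hl hm
    have : Surjective G.hom := ⟨fun x => ⟨(η[G]).left x, by
      rw [← Scheme.Hom.comp_apply, Over.w]; rfl⟩⟩
    have hqs : QuasiSeparated X.hom := by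
      have : IsLocallyNoetherian X.left := LocallyOfFiniteType.isLocallyNoetherian X.hom
      infer_instance
    have hsnd : Surjective (snd G X).left ∧ Flat (snd G X).left ∧ LocallyOfFinitePresentation (snd G X).left ∧
        QuasiCompact (snd G X).left :=
      ⟨inferInstanceAs (Surjective (pullback.snd G.hom X.hom)), inferInstanceAs (Flat (pullback.snd G.hom X.hom)),
        inferInstanceAs (LocallyOfFinitePresentation (pullback.snd G.hom X.hom)),
        inferInstanceAs (QuasiCompact (pullback.snd G.hom X.hom))⟩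
    let sh : G ⊗ X ≅ G ⊗ X :=
      { hom := lift (fst G X) a.act
        inv := lift (fst G X) (lift (fst G X)⁻¹ (snd G X) ≫ a.act)
        hom_inv_id := by
          ext : 1
          · simp
          · simp only [comp_lift, lift_snd, Category.id_comp, AlgGrp79.comp_lift_act, GrpObj.comp_inv, lift_fst]
            have h' := AlgGrp79.inv_act_act a (fst G X) (snd G X)
            rw [lift_fst_snd, Category.id_comp] at h'
            exact h'
        inv_hom_id := by
          ext : 1
          · simp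
          · simp only [comp_lift, lift_snd, Category.id_comp, lift_fst]
            rw [show lift (fst G X) (lift (fst G X)⁻¹ (snd G X) ≫ a.act) ≫ a.act =
              lift (fst G X * (fst G X)⁻¹) (snd G X) ≫ a.act from (AlgGrp79.mul_act' _ _ _ _).symm,
              mul_inv_cancel, AlgGrp79.one_act'] }
    have : IsIso sh.hom.left := ((Over.forget S).mapIso sh).isIso_hom
    have hact : a.act.left = sh.hom.left ≫ (snd G X).left := by rw [← Over.comp_left, lift_snd]
    have hbas : ∀ (r : X ⊗ X ⟶ X) (g : G ⊗ X ⟶ X), lift a.act (snd G X) ≫ r = g → QuasiSeparated r.left →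
        Surjective g.left → Flat g.left → LocallyOfFinitePresentation g.left → QuasiCompact g.left →
        Surjective (τ ≫ r).left ∧ Flat (τ ≫ r).left ∧ LocallyOfFinitePresentation (τ ≫ r).left ∧
          QuasiCompact (τ ≫ r).left ∧ QuasiSeparated (τ ≫ r).left := by
      intro r g hg hr g1 g2 g3 g4
      have hc : ψ.left ≫ (τ ≫ r).left = g.left := by rw [← Over.comp_left, reassoc_of% e, hg]
      have : Surjective (ψ.left ≫ (τ ≫ r).left) := by rw [hc]; exact g1
      have : Flat (ψ.left ≫ (τ ≫ r).left) := by rw [hc]; exact g2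
      have : LocallyOfFinitePresentation (ψ.left ≫ (τ ≫ r).left) := by rw [hc]; exact g3
      refine ⟨Surjective.of_comp ψ.left _, FlatMor66.flat_of_comp_surjective ψ.left _,
        Unr55.locallyOfFinitePresentation_of_fppf_comp ψ.left _,
        ⟨fun U hU hU' => ?_⟩, inferInstanceAs (QuasiSeparated (τ.left ≫ r.left))⟩
      have hc' : IsCompact (g.left ⁻¹' U) := g4.isCompact_preimage U hU hU'
      rw [← hc] at hc'
      rw [← Set.image_preimage_eq ((τ ≫ r).left ⁻¹' U) ψ.left.surjective]
      exact hc'.image ψ.left.continuous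
    obtain ⟨s1, s2, s3, s4⟩ := hsnd
    have := hbas (fst X X) a.act (lift_fst _ _) (inferInstanceAs (QuasiSeparated (pullback.fst X.hom X.hom)))
      (hact ▸ inferInstance) (hact ▸ inferInstance) (hact ▸ inferInstance) (hact ▸ inferInstance)
    have := hbas (snd X X) (snd G X) (lift_snd _ _) (inferInstanceAs (QuasiSeparated (pullback.snd X.hom X.hom)))
      s1 s2 s3 s4
    grind

end Groth.Agent.GrpQ80
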