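import Groth.Agent.GrpQ80.FlatStab
import Groth.Agent.Grpd80.Basic
import Mathlib.AlgebraicGeometry.Morphisms.QuasiFinite

/-!
The groupoid scheme of an action.
-/

set_option autoImplicit false
set_option linter.unusedSectionVars false
set_option backward.isDefEq.respectTransparency.types false

universe u

open CategoryTheory MonoidalCategory CartesianMonoidalCategory MonObj GrpObj AlgebraicGeometry
open CategoryTheory.Limits (pullback)

namespace Groth.Agent.GrpQ80

variable {S : Scheme.{u}} (G X : Over S) [GrpObj G] (a : AlgGrp.Action G X)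

/-- A point of the total space as a morphism over the base. -/
noncomputable abbrev actPt {T : Scheme.{u}} (α : T ⟶ (G ⊗ X).left) {w : T ⟶ S} (h : α ≫ (G ⊗ X).hom = w := by rfl) :
    Over.mk w ⟶ G ⊗ X := Over.homMk α h

lemma act_hom_eq {T : Scheme.{u}} (α β : T ⟶ (G ⊗ X).left)
    (h : α ≫ (snd G X).left = β ≫ a.act.left) : β ≫ (G ⊗ X).hom = α ≫ (G ⊗ X).hom := by
  rw [← Over.w (snd G X)]
  nth_rw 1 [Over.w (snd G X), ← Over.w a.act]
  rw [reassoc_of% h]

/-- Composition of arrows. -/
noncomputable def actComp {T : Scheme.{u}} (α β : T ⟶ (G ⊗ X).left)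
    (h : α ≫ (snd G X).left = β ≫ a.act.left) : T ⟶ (G ⊗ X).left :=
  (lift ((actPt G X α ≫ fst G X) * (actPt G X β (act_hom_eq G X a α β h) ≫ fst G X))
    (actPt G X β (act_hom_eq G X a α β h) ≫ snd G X)).left

lemma comp_actComp {T T' : Scheme.{u}} (f : T' ⟶ T) (α β : T ⟶ (G ⊗ X).left)
    (h : α ≫ (snd G X).left = β ≫ a.act.left) :
    f ≫ actComp G X a α β h = actComp G X a (f ≫ α) (f ≫ β) (by rw [Category.assoc, Category.assoc, h]) := by
  let F : Over.mk ((f ≫ α) ≫ (G ⊗ X).hom) ⟶ Over.mk (α ≫ (G ⊗ X).hom) :=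
    Over.homMk f (Category.assoc _ _ _).symm
  have e1 : F ≫ actPt G X α = actPt G X (f ≫ α) := rfl
  have e2 : F ≫ actPt G X β (act_hom_eq G X a α β h) =
      actPt G X (f ≫ β) (act_hom_eq G X a (f ≫ α) (f ≫ β) (by rw [Category.assoc, Category.assoc, h])) := rfl
  change (F ≫ lift _ _).left = _
  rw [comp_lift, MonObj.comp_mul]
  rfl

lemma actComp_eq {T : Over S} (A B : T ⟶ G ⊗ X) (h : A.left ≫ (snd G X).left = B.left ≫ a.act.left) :
    actComp G X a A.left B.left h = (lift ((A ≫ fst G X) * (B ≫ fst G X)) (B ≫ snd G X)).left := by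
  let F : T ⟶ Over.mk (A.left ≫ (G ⊗ X).hom) :=
    Over.homMk (𝟙 T.left) (by rw [Category.id_comp]; exact Over.w A)
  have hA : F ≫ actPt G X A.left = A := Over.OverMorphism.ext (Category.id_comp _)
  have hB : F ≫ actPt G X B.left (act_hom_eq G X a A.left B.left h) = B :=
    Over.OverMorphism.ext (Category.id_comp _)
  calc actComp G X a A.left B.left h = 𝟙 T.left ≫ actComp G X a A.left B.left h := (Category.id_comp _).symm
    _ = (F ≫ lift _ _).left := rfl
    _ = _ := by simp only [comp_lift, MonObj.comp_mul, ← Category.assoc, hA, hB]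

lemma actComp_hom {T : Scheme.{u}} (α β : T ⟶ (G ⊗ X).left)
    (h : α ≫ (snd G X).left = β ≫ a.act.left) : actComp G X a α β h ≫ (G ⊗ X).hom = α ≫ (G ⊗ X).hom :=
  Over.w _

lemma actComp_snd {T : Scheme.{u}} (α β : T ⟶ (G ⊗ X).left)
    (h : α ≫ (snd G X).left = β ≫ a.act.left) :
    actComp G X a α β h ≫ (snd G X).left = β ≫ (snd G X).left := by
  rw [actComp, ← Over.comp_left, lift_snd]
  rfl

lemma actComp_act {T : Scheme.{u}} (α β : T ⟶ (G ⊗ X).left)
    (h : α ≫ (snd G X).left = β ≫ a.act.left) :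
    actComp G X a α β h ≫ a.act.left = α ≫ a.act.left := by
  have e : actPt G X α ≫ snd G X = actPt G X β (act_hom_eq G X a α β h) ≫ a.act := Over.OverMorphism.ext h
  have e' : lift (actPt G X α ≫ fst G X) (actPt G X α ≫ snd G X) = actPt G X α := by ext1 <;> simp
  have e'' : lift (actPt G X β (act_hom_eq G X a α β h) ≫ fst G X)
      (actPt G X β (act_hom_eq G X a α β h) ≫ snd G X) = actPt G X β (act_hom_eq G X a α β h) := by ext1 <;> simp
  rw [actComp, ← Over.comp_left, AlgGrp79.mul_act', e'', ← e, e']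
  rfl

/-- The groupoid of an action. -/
noncomputable def actGrpd : Grpd.GroupoidScheme S where
  U := X.left
  R := (G ⊗ X).left
  pU := X.hom
  pR := (G ⊗ X).hom
  s := (snd G X).left
  t := a.act.left
  e := (lift (1 : X ⟶ G) (𝟙 X)).left
  i := (lift (fst G X)⁻¹ a.act).left
  c := actComp G X a (Limits.pullback.fst _ _) (Limits.pullback.snd _ _) Limits.pullback.condition
  s_over := Over.w _
  t_over := Over.w _
  comp_s α β h := by rw [comp_actComp, actComp_snd, Limits.pullback.lift_snd]
  comp_t α β h := by rw [comp_actComp, actComp_act, Limits.pullback.lift_fst]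
  assoc α β δ h₁ h₂ := by
    simp only [comp_actComp, Limits.pullback.lift_fst, Limits.pullback.lift_snd]
    let A := actPt G X α
    let B := actPt G X β (act_hom_eq G X a α β h₁)
    let D := actPt G X δ ((act_hom_eq G X a β δ h₂).trans (act_hom_eq G X a α β h₁))
    have e₁ := actComp_eq G X a A B h₁
    have e₂ := actComp_eq G X a B D h₂
    refine Eq.trans (b := (lift ((A ≫ fst G X) * (B ≫ fst G X) * (D ≫ fst G X)) (D ≫ snd G X)).left) ?_ ?_
    · refine Eq.trans ?_ ((actComp_eq G X a (lift ((A ≫ fst G X) * (B ≫ fst G X)) (B ≫ snd G X)) D ?_).trans ?_)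
      · congr 1
      · rw [← Over.comp_left, lift_snd]; exact h₂
      · rw [lift_fst]
    · refine Eq.trans ?_ ((actComp_eq G X a A (lift ((B ≫ fst G X) * (D ≫ fst G X)) (D ≫ snd G X)) ?_).symm.trans ?_)
      · rw [lift_fst, lift_snd, _root_.mul_assoc]
      · rw [← e₂, actComp_act]; exact h₁
      · congr 1
  e_s := by rw [← Over.comp_left, lift_snd]; rfl
  e_t := by rw [← Over.comp_left, AlgGrp79.one_act']; rfl
  comp_e α := by
    simp only [comp_actComp, Limits.pullback.lift_fst, Limits.pullback.lift_snd]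
    let A := actPt G X α
    refine Eq.trans ?_ ((actComp_eq G X a A (A ≫ snd G X ≫ lift (1 : X ⟶ G) (𝟙 X)) ?_).trans ?_)
    · congr 1
    · rw [← Over.comp_left, ← Over.comp_left, Category.assoc, Category.assoc, AlgGrp79.one_act', Category.comp_id]
    · rw [show A ≫ snd G X ≫ lift (1 : X ⟶ G) (𝟙 X) = lift 1 (A ≫ snd G X) by ext1 <;> simp]
      simp [A]
  e_comp α := by
    simp only [comp_actComp, Limits.pullback.lift_fst, Limits.pullback.lift_snd]
    let A := actPt G X α
    refine Eq.trans ?_ ((actComp_eq G X a (A ≫ a.act ≫ lift (1 : X ⟶ G) (𝟙 X)) A ?_).trans ?_)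
    · congr 1
    · rw [← Over.comp_left, ← Over.comp_left, Category.assoc, Category.assoc, lift_snd, Category.comp_id]
    · rw [show A ≫ a.act ≫ lift (1 : X ⟶ G) (𝟙 X) = lift 1 (A ≫ a.act) by ext1 <;> simp]
      simp [A]
  i_s := by rw [← Over.comp_left, lift_snd]
  i_t := by
    rw [← Over.comp_left]
    have h' := AlgGrp79.inv_act_act a (fst G X) (snd G X)
    rw [lift_fst_snd, Category.id_comp] at h'
    rw [h']
  comp_i α := by
    simp only [comp_actComp, Limits.pullback.lift_fst, Limits.pullback.lift_snd]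
    let A := actPt G X α
    refine Eq.trans ?_ ((actComp_eq G X a A (A ≫ lift (fst G X)⁻¹ a.act) ?_).trans ?_)
    · congr 1
    · rw [← Over.comp_left, ← Over.comp_left, Category.assoc]
      have h' := AlgGrp79.inv_act_act a (fst G X) (snd G X)
      rw [lift_fst_snd, Category.id_comp] at h'
      rw [h']
    · rw [show A ≫ lift (fst G X)⁻¹ a.act = lift (A ≫ fst G X)⁻¹ (A ≫ a.act) by ext1 <;> simp [GrpObj.comp_inv]]
      simp only [lift_fst, lift_snd, mul_inv_cancel]
      rw [show lift (1 : _ ⟶ G) (A ≫ a.act) = A ≫ a.act ≫ lift (1 : X ⟶ G) (𝟙 X) by ext1 <;> simp]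
      rfl
  i_comp α := by
    simp only [comp_actComp, Limits.pullback.lift_fst, Limits.pullback.lift_snd]
    let A := actPt G X α
    refine Eq.trans ?_ ((actComp_eq G X a (A ≫ lift (fst G X)⁻¹ a.act) A ?_).trans ?_)
    · congr 1
    · rw [← Over.comp_left, ← Over.comp_left, Category.assoc, lift_snd]
    · rw [show A ≫ lift (fst G X)⁻¹ a.act = lift (A ≫ fst G X)⁻¹ (A ≫ a.act) by ext1 <;> simp [GrpObj.comp_inv]]
      simp only [lift_fst, inv_mul_cancel]
      rw [show lift (1 : _ ⟶ G) (A ≫ snd G X) = A ≫ snd G X ≫ lift (1 : X ⟶ G) (𝟙 X) by ext1 <;> simp]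
      rfl

lemma actGrpd_j : (actGrpd G X a).j = (lift a.act (snd G X)).left := by
  apply Limits.pullback.hom_ext
  · rw [Grpd80.j_fst]
    exact (congrArg (fun f : G ⊗ X ⟶ X => f.left) (lift_fst a.act (snd G X))).symm
  · rw [Grpd80.j_snd]
    exact (congrArg (fun f : G ⊗ X ⟶ X => f.left) (lift_snd a.act (snd G X))).symm

lemma locallyQuasiFinite_graph [IsNoetherian S] [LocallyOfFiniteType G.hom] [QuasiCompact G.hom]
    [LocallyOfFiniteType X.hom] [QuasiCompact X.hom]
    (hF : LocallyQuasiFinite (pullback.snd (lift a.act (snd G X)) (lift (𝟙 X) (𝟙 X))).left) :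
    LocallyQuasiFinite (lift a.act (snd G X)).left := by
  obtain ⟨B, sq⟩ := exists_graph_kernel G X a
  let D := lift a.act (snd G X)
  let A := pullback.snd (pullback.snd D (lift (𝟙 X) (𝟙 X))) (snd G X)
  have hA : LocallyQuasiFinite A.left := MorphismProperty.of_isPullback (P := @LocallyQuasiFinite)
    (AlgGrp79.isPullback_left (IsPullback.of_hasPullback (pullback.snd D (lift (𝟙 X) (𝟙 X))) (snd G X))) hF
  have : IsLocallyNoetherian X.left := LocallyOfFiniteType.isLocallyNoetherian X.hom
  have : CompactSpace X.left := QuasiCompact.compactSpace_of_compactSpace X.hom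
  have : LocallyOfFiniteType (G ⊗ X).hom :=
    inferInstanceAs (LocallyOfFiniteType (Limits.pullback.fst G.hom X.hom ≫ G.hom))
  have : QuasiCompact (G ⊗ X).hom := inferInstanceAs (QuasiCompact (Limits.pullback.fst G.hom X.hom ≫ G.hom))
  have : LocallyOfFiniteType (X ⊗ X).hom :=
    inferInstanceAs (LocallyOfFiniteType (Limits.pullback.fst X.hom X.hom ≫ X.hom))
  have : IsLocallyNoetherian (X ⊗ X).left := LocallyOfFiniteType.isLocallyNoetherian (X ⊗ X).hom
  have : IsLocallyNoetherian (G ⊗ X).left := LocallyOfFiniteType.isLocallyNoetherian (G ⊗ X).hom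
  have : CompactSpace (G ⊗ X).left := QuasiCompact.compactSpace_of_compactSpace (G ⊗ X).hom
  have : IsNoetherian (G ⊗ X).left := {}
  have : LocallyOfFiniteType (D.left ≫ (X ⊗ X).hom) := by rw [Over.w]; infer_instance
  have : LocallyOfFiniteType D.left := locallyOfFiniteType_of_comp D.left (X ⊗ X).hom
  have sq' := AlgGrp79.isPullback_left sq
  have : QuasiCompact A.left := MorphismProperty.of_isPullback (P := @QuasiCompact) sq'.flip inferInstance
  rw [locallyQuasiFinite_iff_finite_preimage_singleton]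
  intro y
  rcases (D.left ⁻¹' {y}).eq_empty_or_nonempty with h | ⟨x, hx⟩
  · rw [h]; exact Set.finite_empty
  refine ((A.left.finite_preimage_singleton x).image B.left).subset fun z hz => ?_
  obtain ⟨w, hw1, hw2⟩ := Scheme.exists_preimage_of_isPullback sq' x z (hx.trans hz.symm)
  exact ⟨w, hw1, hw2⟩

end Groth.Agent.GrpQ80
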