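import Groth.Agent.Grpd80.RSCoeq
import Groth.Agent.Grpd80.GlueQuot2
import Groth.Agent.Grpd80.QuotApi
import Groth.Prelude.Def_Mor2
import Mathlib.AlgebraicGeometry.Sites.Fpqc
import Mathlib.AlgebraicGeometry.IdealSheaf.Functorial
import Mathlib.RingTheory.Adjoin.Tower
import Mathlib.AlgebraicGeometry.Noetherian
import Groth.Agent.FlatMor66.FlatDescentSource

/-!
Quotient of a groupoid with a quasi-section.
-/

set_option autoImplicit false
set_option linter.unusedSectionVars false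
set_option backward.isDefEq.respectTransparency.types false

universe u

open CategoryTheory CategoryTheory.Limits AlgebraicGeometry

namespace Groth.Agent.GrpQ80

open Groth.Agent.Grpd80

section Along

variable {S : Scheme.{u}} {G : Grpd.GroupoidScheme S} {U' : Scheme.{u}} (u : U' ⟶ G.U) [Mono u]

/-- Arrows with target in the quasi-section, with their source map. -/
noncomputable abbrev qsV : Scheme.{u} := pullback G.t u

noncomputable abbrev qsA : qsV u ⟶ G.R := pullback.fst G.t u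

noncomputable abbrev qsQ : qsV u ⟶ U' := pullback.snd G.t u

noncomputable abbrev qsσ : qsV u ⟶ G.U := pullback.fst G.t u ≫ G.s

/-- The arrows between points of the quasi-section. -/
noncomputable abbrev qsR : Scheme.{u} := pullback (qsσ u) u

noncomputable def qsArr : qsR u ⟶ G.R := pullback.fst (qsσ u) u ≫ pullback.fst G.t u

noncomputable def qsT : qsR u ⟶ U' := pullback.fst (qsσ u) u ≫ pullback.snd G.t u

noncomputable def qsS : qsR u ⟶ U' := pullback.snd (qsσ u) u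

lemma qsArr_t : qsArr u ≫ G.t = qsT u ≫ u := by simp [qsArr, qsT, pullback.condition]

lemma qsArr_s : qsArr u ≫ G.s = qsS u ≫ u := by
  rw [qsArr, qsS, Category.assoc]; exact pullback.condition

attribute [local simp] qsArr_t qsArr_s

instance mono_qsArr : Mono (qsArr u) := by unfold qsArr; infer_instance

variable {u}

noncomputable def qsMk {T : Scheme.{u}} (α : T ⟶ G.R) (a b : T ⟶ U') (ha : α ≫ G.t = a ≫ u)
    (hb : α ≫ G.s = b ≫ u) : T ⟶ qsR u :=
  pullback.lift (pullback.lift α a ha) b (by rw [← Category.assoc, pullback.lift_fst, hb])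

@[reassoc (attr := simp)]
lemma qsMk_arr {T : Scheme.{u}} (α : T ⟶ G.R) (a b : T ⟶ U') (ha : α ≫ G.t = a ≫ u)
    (hb : α ≫ G.s = b ≫ u) : qsMk α a b ha hb ≫ qsArr u = α := by
  simp [qsMk, qsArr, pullback.lift_fst, pullback.lift_fst_assoc]

@[reassoc (attr := simp)]
lemma qsMk_t {T : Scheme.{u}} (α : T ⟶ G.R) (a b : T ⟶ U') (ha : α ≫ G.t = a ≫ u)
    (hb : α ≫ G.s = b ≫ u) : qsMk α a b ha hb ≫ qsT u = a := by
  simp [qsMk, qsT, pullback.lift_snd, pullback.lift_fst_assoc]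

@[reassoc (attr := simp)]
lemma qsMk_s {T : Scheme.{u}} (α : T ⟶ G.R) (a b : T ⟶ U') (ha : α ≫ G.t = a ≫ u)
    (hb : α ≫ G.s = b ≫ u) : qsMk α a b ha hb ≫ qsS u = b := by
  simp [qsMk, qsS, pullback.lift_snd]

variable (u)

lemma qsArr_comp {T : Scheme.{u}} {α β : T ⟶ qsR u} (h : α ≫ qsS u = β ≫ qsT u) :
    (α ≫ qsArr u) ≫ G.s = (β ≫ qsArr u) ≫ G.t := by
  rw [Category.assoc, Category.assoc, qsArr_s, qsArr_t, ← Category.assoc, h, Category.assoc]

/-- The groupoid induced on the quasi-section. -/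
noncomputable def qsGrpd : Grpd.GroupoidScheme S where
  U := U'
  R := qsR u
  pU := u ≫ G.pU
  pR := qsS u ≫ u ≫ G.pU
  s := qsS u
  t := qsT u
  e := qsMk (u ≫ G.e) (𝟙 U') (𝟙 U') (by simp) (by simp)
  i := qsMk (qsArr u ≫ G.i) (qsS u) (qsT u) (by rw [Category.assoc, i_t', qsArr_s])
    (by rw [Category.assoc, i_s', qsArr_t])
  c := qsMk (mul G (pullback.fst (qsS u) (qsT u) ≫ qsArr u) (pullback.snd (qsS u) (qsT u) ≫ qsArr u)
      (qsArr_comp u pullback.condition))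
    (pullback.fst (qsS u) (qsT u) ≫ qsT u) (pullback.snd (qsS u) (qsT u) ≫ qsS u)
    (by rw [mul_t, Category.assoc, qsArr_t, Category.assoc])
    (by rw [mul_s, Category.assoc, qsArr_s, Category.assoc])
  s_over := rfl
  t_over := by
    rw [← Category.assoc, ← qsArr_t, ← Category.assoc, ← qsArr_s]
    simp only [Category.assoc, G.t_over, G.s_over]
  comp_s α β h := by simp only [Category.assoc, qsMk_s, pullback.lift_snd_assoc]
  comp_t α β h := by simp only [Category.assoc, qsMk_t, pullback.lift_fst_assoc]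
  assoc α β γ h₁ h₂ := by
    rw [← cancel_mono (qsArr u)]
    simp only [Category.assoc, qsMk_arr, comp_mul, pullback.lift_fst_assoc, pullback.lift_snd_assoc]
    exact mul_assoc' _ _ _ (qsArr_comp u h₁) (qsArr_comp u h₂)
  e_s := qsMk_s _ _ _ _ _
  e_t := qsMk_t _ _ _ _ _
  comp_e α := by
    rw [← cancel_mono (qsArr u)]
    simp only [Category.assoc, qsMk_arr, comp_mul, pullback.lift_fst_assoc, pullback.lift_snd_assoc]
    exact mul_unit_right _ (by rw [← reassoc_of% (qsArr_s u)]; simp)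
  e_comp α := by
    rw [← cancel_mono (qsArr u)]
    simp only [Category.assoc, qsMk_arr, comp_mul, pullback.lift_fst_assoc, pullback.lift_snd_assoc]
    exact mul_unit_left _ (by rw [← reassoc_of% (qsArr_t u)]; simp)
  i_s := qsMk_s _ _ _ _ _
  i_t := qsMk_t _ _ _ _ _
  comp_i α := by
    rw [← cancel_mono (qsArr u)]
    simp only [Category.assoc, qsMk_arr, comp_mul, pullback.lift_fst_assoc, pullback.lift_snd_assoc]
    rw [mul_inv_right _ (by simp), ← reassoc_of% (qsArr_t u)]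
    simp
  i_comp α := by
    rw [← cancel_mono (qsArr u)]
    simp only [Category.assoc, qsMk_arr, comp_mul, pullback.lift_fst_assoc, pullback.lift_snd_assoc]
    rw [mul_inv_left _ (by simp), ← reassoc_of% (qsArr_s u)]
    simp

lemma mono_qsGrpd_j [Mono G.j] : Mono (qsGrpd u).j := by
  constructor
  intro T (a : T ⟶ qsR u) (b : T ⟶ qsR u) h
  refine (cancel_mono (qsArr u)).1 ((cancel_mono G.j).1 ?_)
  have h1 := congr($h ≫ pullback.fst _ _)
  have h2 := congr($h ≫ pullback.snd _ _)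
  simp only [Category.assoc, j_fst, j_snd] at h1 h2
  change a ≫ qsT u = b ≫ qsT u at h1
  change a ≫ qsS u = b ≫ qsS u at h2
  apply pullback.hom_ext <;> simp only [Category.assoc, j_fst, j_snd]
  · rw [← Category.assoc (f := a), ← Category.assoc (f := b), Category.assoc, Category.assoc, qsArr_t,
      ← Category.assoc, ← Category.assoc, h1]
  · rw [← Category.assoc (f := a), ← Category.assoc (f := b), Category.assoc, Category.assoc, qsArr_s,
      ← Category.assoc, ← Category.assoc, h2]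

variable {u}

/-- The arrow between the targets of two arrows with the same source. -/
noncomputable def qsDelta {T : Scheme.{u}} (v₁ v₂ : T ⟶ qsV u) (r : T ⟶ G.R)
    (h₁ : v₁ ≫ qsσ u = r ≫ G.t) (h₂ : v₂ ≫ qsσ u = r ≫ G.s) : T ⟶ qsR u :=
  qsMk (mul G (v₁ ≫ qsA u) (mul G r ((v₂ ≫ qsA u) ≫ G.i)
      (by rw [← h₂]; simp))
    (by rw [mul_t, ← h₁]; simp))
    (v₁ ≫ qsQ u) (v₂ ≫ qsQ u)
    (by rw [mul_t]; simp [pullback.condition])
    (by rw [mul_s, mul_s]; simp [pullback.condition])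

end Along

variable {S : Scheme.{u}} (G : Grpd.GroupoidScheme S)

/-- The map to a quotient is schematically dominant. -/
lemma ker_eq_bot_of_desc {Y : Scheme.{u}} (p : G.U ⟶ Y) [QuasiCompact p] (w : G.t ≫ p = G.s ≫ p)
    (hdesc : ∀ {T : Scheme.{u}} (f : G.U ⟶ T), G.t ≫ f = G.s ≫ f → ∃! g : Y ⟶ T, p ≫ g = f) :
    p.ker = ⊥ := by
  obtain ⟨g, hg, -⟩ := hdesc p.toImage (by
    rw [← cancel_mono p.imageι, Category.assoc, Category.assoc, Scheme.Hom.toImage_imageι, w])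
  obtain ⟨_, -, huniq⟩ := hdesc p w
  have h1 : g ≫ p.imageι = 𝟙 Y :=
    (huniq _ (show p ≫ g ≫ p.imageι = p by rw [reassoc_of% hg, Scheme.Hom.toImage_imageι])).trans (huniq _ (Category.comp_id p)).symm
  have : IsIso p.imageι := ⟨⟨g, by rw [← cancel_mono p.imageι, Category.assoc, h1, Category.comp_id, Category.id_comp], h1⟩⟩
  have h2 : p.imageι.ker = ⊥ := Scheme.Hom.ker_eq_bot_of_isIso p.imageι
  rwa [Scheme.IdealSheafData.ker_subschemeι] at h2

/-- Artin–Tate for schemes. -/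
lemma locallyOfFiniteType_of_integral_dominant {X Y T : Scheme.{u}} [IsLocallyNoetherian T] (p : X ⟶ Y)
    [IsIntegralHom p] (q : Y ⟶ T) [LocallyOfFiniteType (p ≫ q)] (hker : p.ker = ⊥) :
    LocallyOfFiniteType q := by
  refine ⟨fun {Λ} hΛ {Ω} hΩ e => ?_⟩
  have hX : IsAffineOpen (p ⁻¹ᵁ Ω) := hΩ.preimage p
  have hinj : Function.Injective (p.app Ω).hom := by
    rw [RingHom.injective_iff_ker_eq_bot, ← Scheme.Hom.ker_apply p ⟨Ω, hΩ⟩, hker]
    rfl
  have hint : (p.app Ω).hom.IsIntegral := IsIntegralHom.isIntegral_app p Ω hΩ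
  have hft : (((p ≫ q).appLE Λ (p ⁻¹ᵁ Ω) (fun x hx => e hx)).hom).FiniteType :=
    (p ≫ q).finiteType_appLE hΛ hX _
  have hcomp : (p ≫ q).appLE Λ (p ⁻¹ᵁ Ω) (fun x hx => e hx) = q.appLE Λ Ω e ≫ p.app Ω := by
    rw [Scheme.Hom.app_eq_appLE, Scheme.Hom.appLE_comp_appLE]
  rw [hcomp, CommRingCat.hom_comp] at hft
  have : IsNoetherianRing Γ(T, Λ) := IsLocallyNoetherian.component_noetherian ⟨Λ, hΛ⟩
  let : Algebra Γ(T, Λ) Γ(Y, Ω) := (q.appLE Λ Ω e).hom.toAlgebra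
  let : Algebra Γ(Y, Ω) Γ(X, p ⁻¹ᵁ Ω) := (p.app Ω).hom.toAlgebra
  let : Algebra Γ(T, Λ) Γ(X, p ⁻¹ᵁ Ω) := ((p.app Ω).hom.comp (q.appLE Λ Ω e).hom).toAlgebra
  have : IsScalarTower Γ(T, Λ) Γ(Y, Ω) Γ(X, p ⁻¹ᵁ Ω) := IsScalarTower.of_algebraMap_eq fun _ => rfl
  have : Algebra.FiniteType Γ(T, Λ) Γ(X, p ⁻¹ᵁ Ω) := hft
  have : Algebra.FiniteType Γ(Y, Ω) Γ(X, p ⁻¹ᵁ Ω) :=
    Algebra.FiniteType.of_restrictScalars_finiteType Γ(T, Λ) _ _
  have : Algebra.IsIntegral Γ(Y, Ω) Γ(X, p ⁻¹ᵁ Ω) := ⟨hint⟩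
  have : Module.Finite Γ(Y, Ω) Γ(X, p ⁻¹ᵁ Ω) := Algebra.IsIntegral.finite
  change Algebra.FiniteType Γ(T, Λ) Γ(Y, Ω)
  exact ⟨fg_of_fg_of_fg Γ(T, Λ) Γ(Y, Ω) Γ(X, p ⁻¹ᵁ Ω) Algebra.FiniteType.out Module.Finite.fg_top hinj⟩

lemma appLE_appLE {X Y Z : Scheme.{u}} (f : X ⟶ Y) (g : Y ⟶ Z) (A : Z.Opens) (B : Y.Opens) (C : X.Opens)
    (h₁ : B ≤ g ⁻¹ᵁ A) (h₂ : C ≤ f ⁻¹ᵁ B) (x : Γ(Z, A)) :
    (f.appLE B C h₂).hom ((g.appLE A B h₁).hom x) = ((f ≫ g).appLE A C (h₂.trans (f.preimage_mono h₁))).hom x :=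
  congr($(Scheme.Hom.appLE_comp_appLE f g A B C h₁ h₂).hom x)

theorem coequalizer_quasiSection' (U' : Scheme.{u}) (u : U' ⟶ G.U) [IsImmersion u]
    (h1 : Mor2.IsFinLocFree (pullback.fst G.t u ≫ G.s) ∧ Surjective (pullback.fst G.t u ≫ G.s))
    (h2 : ∀ E : Set U', (∀ x ∈ E, ∀ y ∈ E, ∃ r : G.R, G.t.base r = u.base x ∧ G.s.base r = u.base y) →
      ∃ W : U'.Opens, IsAffineOpen W ∧ E ⊆ (W : Set U')) :
    ∃ (Y : Scheme.{u}) (p : G.U ⟶ Y) (w : G.t ≫ p = G.s ≫ p),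
      Nonempty (IsColimit (Cofork.ofπ p w)) ∧ Surjective p ∧
      (IsOpenMap G.t.base → IsOpenMap p.base) ∧ (UniversallyClosed G.t → UniversallyClosed p) ∧
      Function.Surjective (pullback.lift G.t G.s w).base ∧
      (Mono G.j → IsPullback G.t G.s p p ∧ (Flat G.t → Flat p)) ∧
      (IsLocallyNoetherian S → ∀ q : Y ⟶ S, LocallyOfFiniteType (u ≫ p ≫ q) → LocallyOfFiniteType q) ∧
      IsGeomQuot G.s G.t p := by
  obtain ⟨⟨hfin, hflat, hlfp⟩, hsurj⟩ := h1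
  let V := qsV u
  let a : V ⟶ G.R := qsA u
  let q : V ⟶ U' := qsQ u
  let σ : V ⟶ G.U := qsσ u
  have : IsFinite σ := hfin
  have : Flat σ := hflat
  have : LocallyOfFinitePresentation σ := hlfp
  have : Surjective σ := hsurj
  let G' := qsGrpd u
  have : IsFinite G'.s := MorphismProperty.pullback_snd (P := @IsFinite) _ _ hfin
  have : Flat G'.s := MorphismProperty.pullback_snd (P := @Flat) _ _ hflat
  have : LocallyOfFinitePresentation G'.s :=
    MorphismProperty.pullback_snd (P := @LocallyOfFinitePresentation) _ _ hlfp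
  have hb : ∀ x : G'.U, ∃ W : G'.U.Opens, IsAffineOpen W ∧ ∀ r : G'.R, G'.s r = x → G'.t r ∈ W := by
    intro x
    obtain ⟨W, hW, hE⟩ := h2 {y | ∃ r : qsR u, qsS u r = x ∧ qsT u r = y} (by
      rintro y₁ ⟨r₁, h11, h12⟩ y₂ ⟨r₂, h21, h22⟩
      obtain ⟨b, hb1, hb2⟩ := exists_inv G (qsArr u r₂)
      have e : G.s (qsArr u r₁) = G.t b := by
        rw [hb2, ← Scheme.Hom.comp_apply, ← Scheme.Hom.comp_apply, qsArr_s, Scheme.Hom.comp_apply,
          Scheme.Hom.comp_apply, h11, h21]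
      obtain ⟨c, hc1, hc2⟩ := exists_comp G e
      refine ⟨c, hc2.trans ?_, hc1.trans (hb1.trans ?_)⟩ <;>
        rw [← Scheme.Hom.comp_apply, qsArr_t, Scheme.Hom.comp_apply, ‹qsT u _ = _›])
    exact ⟨W, hW, fun r hr => hE ⟨r, hr, rfl⟩⟩
  obtain ⟨Y, p₀, hp⟩ := exists_niceQuot G' hb
  obtain ⟨p', rfl⟩ : ∃ p' : U' ⟶ Y, p' = p₀ := ⟨p₀, rfl⟩
  have hw : qsT u ≫ p' = qsS u ≫ p' := hp.w
  -- descend to the whole of the objects
  have hdelta : ∀ {T : Scheme.{u}} (v₁ v₂ : T ⟶ V) (r : T ⟶ G.R), v₁ ≫ σ = r ≫ G.t → v₂ ≫ σ = r ≫ G.s →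
      v₁ ≫ q ≫ p' = v₂ ≫ q ≫ p' := by
    intro T v₁ v₂ r e₁ e₂
    have := congr(qsDelta v₁ v₂ r e₁ e₂ ≫ $hw)
    simpa [qsDelta] using this
  have hcompat : ∀ {T : Scheme.{u}} (g₁ g₂ : T ⟶ V), g₁ ≫ σ = g₂ ≫ σ → g₁ ≫ q ≫ p' = g₂ ≫ q ≫ p' :=
    fun g₁ g₂ e => hdelta g₁ g₂ ((g₁ ≫ σ) ≫ G.e) (by simp) (by simp [e])
  let p : G.U ⟶ Y := EffectiveEpi.desc σ (q ≫ p') hcompat
  have hσp : σ ≫ p = q ≫ p' := EffectiveEpi.fac σ (q ≫ p') hcompat
  let ε : U' ⟶ V := pullback.lift (u ≫ G.e) (𝟙 U') (by simp)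
  have hεσ : ε ≫ σ = u := by simp [ε, σ, pullback.lift_fst_assoc]
  have hεq : ε ≫ q = 𝟙 U' := pullback.lift_snd _ _ _
  have hup : u ≫ p = p' := by rw [← hεσ, Category.assoc, hσp, reassoc_of% hεq]
  -- a cover carrying lifts of two points
  have hlifts : ∀ {T : Scheme.{u}} (x y : T ⟶ G.U), ∃ (T' : Scheme.{u}) (c : T' ⟶ T) (v₁ v₂ : T' ⟶ V),
      Surjective c ∧ Flat c ∧ LocallyOfFinitePresentation c ∧ v₁ ≫ σ = c ≫ x ∧ v₂ ≫ σ = c ≫ y := by
    intro T x y
    let c₁ := pullback.snd σ x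
    let c₂ := pullback.snd σ (c₁ ≫ y)
    exact ⟨_, c₂ ≫ c₁, c₂ ≫ pullback.fst σ x, pullback.fst σ (c₁ ≫ y), inferInstance, inferInstance,
      inferInstance, by rw [Category.assoc, pullback.condition, Category.assoc],
      by rw [pullback.condition, Category.assoc]⟩
  have w : G.t ≫ p = G.s ≫ p := by
    obtain ⟨T', c, v₁, v₂, _, _, _, e₁, e₂⟩ := hlifts G.t G.s
    rw [← cancel_epi c, ← reassoc_of% e₁, ← reassoc_of% e₂, hσp]
    exact hdelta v₁ v₂ c e₁ e₂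
  have hlift : Function.Surjective (pullback.lift G.t G.s w) := by
    intro z
    obtain ⟨T', c, v₁, v₂, _, _, _, e₁, e₂⟩ := hlifts (pullback.fst p p) (pullback.snd p p)
    let m : T' ⟶ pullback p' p' := pullback.lift (v₁ ≫ q) (v₂ ≫ q) (by
      rw [Category.assoc, Category.assoc, ← hσp, reassoc_of% e₁, reassoc_of% e₂, pullback.condition])
    let k : qsR u ⟶ pullback p' p' := pullback.lift (qsT u) (qsS u) hw
    have : Surjective k := ⟨hp.lift_surj⟩
    let T := pullback k m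
    let d : T ⟶ qsR u := pullback.fst k m
    let b : T ⟶ T' := pullback.snd k m
    have hd : d ≫ qsT u = b ≫ v₁ ≫ q ∧ d ≫ qsS u = b ≫ v₂ ≫ q := by
      have h0 : d ≫ k = b ≫ m := pullback.condition
      exact ⟨by simpa [k, m, pullback.lift_fst] using congr($h0 ≫ pullback.fst p' p'),
        by simpa [k, m, pullback.lift_snd] using congr($h0 ≫ pullback.snd p' p')⟩
    let r : T ⟶ G.R := mul G ((b ≫ v₁ ≫ a) ≫ G.i) (mul G (d ≫ qsArr u) (b ≫ v₂ ≫ a)
        (by rw [Category.assoc, qsArr_s, reassoc_of% hd.2]; simp [a, q, pullback.condition]))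
      (by rw [mul_t, Category.assoc (d), qsArr_t, reassoc_of% hd.1]; simp [a, q, pullback.condition])
    have hr : r ≫ pullback.lift G.t G.s w = b ≫ c := by
      apply pullback.hom_ext
      · rw [Category.assoc, pullback.lift_fst, mul_t, Category.assoc b c, ← e₁]
        simp [a, σ]
      · rw [Category.assoc, pullback.lift_snd, mul_s, mul_s, Category.assoc b c, ← e₂]
        simp [a, σ]
    obtain ⟨x, rfl⟩ := (b ≫ c).surjective z
    exact ⟨r x, by rw [← hr]; rfl⟩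
  refine ⟨Y, p, w, ?_, ?_, ?_, ?_, hlift, fun hj => ?_, fun hS q hq => ?_, ?_⟩
  · have hg : ∀ (c : Cofork G.t G.s), G'.t ≫ u ≫ c.π = G'.s ≫ u ≫ c.π := fun c => by
      change qsT u ≫ u ≫ c.π = qsS u ≫ u ≫ c.π
      rw [← reassoc_of% (qsArr_t u), ← reassoc_of% (qsArr_s u), c.condition]
    refine ⟨Cofork.IsColimit.mk _ (fun c => (hp.desc (u ≫ c.π) (hg c)).choose) (fun c => ?_) (fun c m hm => ?_)⟩
    · obtain ⟨e, -⟩ := (hp.desc (u ≫ c.π) (hg c)).choose_spec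
      change p ≫ _ = c.π
      have e' : p' ≫ (hp.desc (u ≫ c.π) (hg c)).choose = u ≫ c.π := e
      rw [← cancel_epi σ, reassoc_of% hσp, e', ← pullback.condition_assoc, c.condition]
      simp [σ]
    · refine (hp.desc (u ≫ c.π) (hg c)).choose_spec.2 m ?_
      change p' ≫ m = u ≫ c.π
      have hm' : p ≫ m = c.π := hm
      rw [← hup]
      exact (Category.assoc u p m).trans (congrArg (u ≫ ·) hm')
  · have : Surjective (u ≫ p) := by rw [hup]; exact hp.surj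
    exact Surjective.of_comp u p
  · intro ht W hW
    have e : p '' W = p' '' (q '' (σ ⁻¹' W)) := by
      rw [Set.image_image, ← Set.image_preimage_eq W σ.surjective, Set.image_image]
      conv_rhs => rw [Set.image_preimage_eq W σ.surjective]
      refine Set.image_congr fun x _ => ?_
      rw [← Scheme.Hom.comp_apply, hσp, Scheme.Hom.comp_apply]
    change IsOpen (p '' W)
    rw [e]
    refine hp.isOpenMap _ ?_
    have hae : Topology.IsEmbedding a :=
      @Scheme.Hom.isEmbedding _ _ a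
        (MorphismProperty.pullback_fst (P := @IsImmersion) _ _ ‹IsImmersion u› : IsImmersion a).toIsPreimmersion
    obtain ⟨Ω, hΩ, hΩe⟩ := hae.isInducing.isOpen_iff.1 (hW.preimage σ.continuous)
    rw [← hΩe]
    have : q '' (a ⁻¹' Ω) = u ⁻¹' (G.t '' Ω) := by
      ext x
      constructor
      · rintro ⟨v, hv, rfl⟩
        exact ⟨a v, hv, by rw [← Scheme.Hom.comp_apply, pullback.condition, Scheme.Hom.comp_apply]⟩
      · rintro ⟨r, hr, hrx⟩
        obtain ⟨v, hv1, hv2⟩ := Scheme.Pullback.exists_preimage_pullback (f := G.t) (g := u) r x hrx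
        exact ⟨v, show a v ∈ Ω by rw [hv1]; exact hr, hv2⟩
    change IsOpen (q '' (a ⁻¹' Ω))
    rw [this]
    exact (ht _ hΩ).preimage u.continuous
  · intro ht
    have : UniversallyClosed q := MorphismProperty.pullback_snd (P := @UniversallyClosed) _ _ ht
    have : IsIntegralHom p' := hp.integral
    have : UniversallyClosed (σ ≫ p) := by rw [hσp]; infer_instance
    exact UniversallyClosed.of_comp_surjective σ p
  · have := mono_qsGrpd_j u
    obtain ⟨sq', -, -, -⟩ := hp.mono this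
    have hjm : ∀ {T : Scheme.{u}} (r r' : T ⟶ G.R), r ≫ G.t = r' ≫ G.t → r ≫ G.s = r' ≫ G.s → r = r' :=
      fun r r' h h' => by
        rw [← cancel_mono G.j]
        apply pullback.hom_ext <;> simpa using by assumption
    have key : ∀ {T : Scheme.{u}} (x y : T ⟶ G.U), x ≫ p = y ≫ p → ∃ r, r ≫ G.t = x ∧ r ≫ G.s = y := by
      intro T x y h
      obtain ⟨T', c, v₁, v₂, _, _, _, e₁, e₂⟩ := hlifts x y
      have hh : (v₁ ≫ q) ≫ p' = (v₂ ≫ q) ≫ p' := by
        rw [Category.assoc, Category.assoc, ← hσp, reassoc_of% e₁, reassoc_of% e₂, h]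
      let d : T' ⟶ qsR u := sq'.lift (v₁ ≫ q) (v₂ ≫ q) hh
      have hd1 : d ≫ qsT u = v₁ ≫ q := sq'.lift_fst _ _ _
      have hd2 : d ≫ qsS u = v₂ ≫ q := sq'.lift_snd _ _ _
      let r : T' ⟶ G.R := mul G ((v₁ ≫ a) ≫ G.i) (mul G (d ≫ qsArr u) (v₂ ≫ a)
          (by rw [Category.assoc, qsArr_s, reassoc_of% hd2]; simp [a, q, pullback.condition]))
        (by rw [mul_t, Category.assoc (d), qsArr_t, reassoc_of% hd1]; simp [a, q, pullback.condition])
      have hr1 : r ≫ G.t = c ≫ x := by rw [mul_t, ← e₁]; simp [a, σ]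
      have hr2 : r ≫ G.s = c ≫ y := by rw [mul_s, mul_s, ← e₂]; simp [a, σ]
      have hcr : ∀ {W : Scheme.{u}} (g₁ g₂ : W ⟶ T'), g₁ ≫ c = g₂ ≫ c → g₁ ≫ r = g₂ ≫ r :=
        fun g₁ g₂ e => hjm _ _ (by simp [hr1, reassoc_of% e]) (by simp [hr2, reassoc_of% e])
      refine ⟨EffectiveEpi.desc c r hcr, ?_, ?_⟩
      · rw [← cancel_epi c, EffectiveEpi.fac_assoc, hr1]
      · rw [← cancel_epi c, EffectiveEpi.fac_assoc, hr2]
    refine ⟨⟨⟨w⟩, ⟨PullbackCone.IsLimit.mk _ (fun c => (key c.fst c.snd c.condition).choose)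
      (fun c => (key c.fst c.snd c.condition).choose_spec.1)
      (fun c => (key c.fst c.snd c.condition).choose_spec.2)
      (fun c m h₁ h₂ => hjm _ _ (h₁.trans (key c.fst c.snd c.condition).choose_spec.1.symm)
        (h₂.trans (key c.fst c.snd c.condition).choose_spec.2.symm))⟩⟩, fun ht => ?_⟩
    have : Flat q := MorphismProperty.pullback_snd (P := @Flat) _ _ ht
    have : Flat p' := (hp.mono ‹Mono (qsGrpd u).j›).2.2.1
    have : Flat (σ ≫ p) := by rw [hσp]; infer_instance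
    exact FlatMor66.flat_of_comp_surjective σ p
  · have : IsIntegralHom p' := hp.integral
    rw [← Category.assoc, hup] at hq
    have : QuasiCompact p' := inferInstance
    have hker := @ker_eq_bot_of_desc S G' Y p' ‹QuasiCompact p'› hw hp.desc
    exact locallyOfFiniteType_of_integral_dominant p' q hker
  · have hsp : Function.Surjective p := fun y => by
      obtain ⟨x, hx⟩ := hp.surj.surj y
      exact ⟨u x, by rw [← Scheme.Hom.comp_apply, hup]; exact hx⟩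
    refine ⟨w, hsp, fun x y h => ?_, fun O hO => ?_, fun O y hy => ?_⟩
    · obtain ⟨z, hz₁, hz₂⟩ := Scheme.Pullback.exists_preimage_pullback (f := p) (g := p) x y h
      obtain ⟨r, rfl⟩ := hlift z
      exact ⟨r, by rw [← hz₁, ← Scheme.Hom.comp_apply, pullback.lift_fst],
        by rw [← hz₂, ← Scheme.Hom.comp_apply, pullback.lift_snd]⟩
    · have hmem : ∀ r, G.s r ∈ O ↔ G.t r ∈ O := fun r => SetLike.ext_iff.mp hO r
      have e : p '' (O : Set G.U) = p' '' (u ⁻¹ᵁ O : Set U') := by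
        ext y
        constructor
        · rintro ⟨x, hx, rfl⟩
          obtain ⟨v, rfl⟩ := σ.surjective x
          refine ⟨q v, ?_, ?_⟩
          · show u (q v) ∈ O
            rw [← Scheme.Hom.comp_apply, ← pullback.condition, Scheme.Hom.comp_apply]
            exact (hmem _).1 hx
          · rw [← Scheme.Hom.comp_apply, ← hσp, Scheme.Hom.comp_apply]
        · rintro ⟨x, hx, rfl⟩
          exact ⟨u x, hx, by rw [← Scheme.Hom.comp_apply, hup]⟩
      rw [e]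
      refine hp.geom.image_open _ ?_
      change qsS u ⁻¹ᵁ u ⁻¹ᵁ O = qsT u ⁻¹ᵁ u ⁻¹ᵁ O
      rw [← Scheme.Hom.comp_preimage, ← Scheme.Hom.comp_preimage, ← qsArr_s, ← qsArr_t,
        Scheme.Hom.comp_preimage, Scheme.Hom.comp_preimage, hO]
    · obtain ⟨P, hyP, hPO, hinj, hinv⟩ := hp.geom.basis O y hy
      refine ⟨P, hyP, hPO, ?_, fun b hb => ?_⟩
      · intro b₁ b₂ hb
        have hle : p' ⁻¹ᵁ P ≤ u ⁻¹ᵁ p ⁻¹ᵁ P := by rw [← Scheme.Hom.comp_preimage, hup]
        refine hinj ?_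
        have h0 := congrArg (u.appLE (p ⁻¹ᵁ P) (p' ⁻¹ᵁ P) hle).hom hb
        simp only [Scheme.Hom.app_eq_appLE] at h0 ⊢
        rw [← CommRingCat.comp_apply, ← CommRingCat.comp_apply, Scheme.Hom.appLE_comp_appLE] at h0
        exact (appLE_congr_hom hup.symm _ _ _ _ b₁).trans (h0.trans (appLE_congr_hom hup _ _ _ _ b₂))
      · have hle : p' ⁻¹ᵁ P ≤ u ⁻¹ᵁ p ⁻¹ᵁ P := by rw [← Scheme.Hom.comp_preimage, hup]
        let b₀ := (u.appLE (p ⁻¹ᵁ P) (p' ⁻¹ᵁ P) hle).hom b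
        obtain ⟨c, hc⟩ := hinv b₀ (by
          have hA : qsS u ⁻¹ᵁ p' ⁻¹ᵁ P ≤ qsArr u ⁻¹ᵁ G.s ⁻¹ᵁ p ⁻¹ᵁ P := by
            simp only [← Scheme.Hom.comp_preimage]
            rw [reassoc_of% (qsArr_s u), hup]
          have h0 := congrArg ((qsArr u).appLE (G.s ⁻¹ᵁ p ⁻¹ᵁ P) (qsS u ⁻¹ᵁ p' ⁻¹ᵁ P) hA).hom hb
          change ((qsS u).app (p' ⁻¹ᵁ P)).hom b₀ =
            ((qsT u).appLE (p' ⁻¹ᵁ P) (qsS u ⁻¹ᵁ p' ⁻¹ᵁ P) _).hom b₀
          simp only [b₀, Scheme.Hom.app_eq_appLE] at h0 ⊢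
          rw [← CommRingCat.comp_apply, ← CommRingCat.comp_apply, Scheme.Hom.appLE_comp_appLE,
            Scheme.Hom.appLE_comp_appLE] at h0 ⊢
          refine Eq.trans (appLE_congr_hom (qsArr_s u).symm _ _ _ _ b) (h0.trans ?_)
          exact appLE_congr_hom (qsArr_t u) _ _ _ _ b)
        refine ⟨c, RS.app_injective σ (p ⁻¹ᵁ P) ?_⟩
        have hA : σ ⁻¹ᵁ p ⁻¹ᵁ P ≤ a ⁻¹ᵁ G.s ⁻¹ᵁ p ⁻¹ᵁ P := le_rfl
        have hB : σ ⁻¹ᵁ p ⁻¹ᵁ P ≤ q ⁻¹ᵁ p' ⁻¹ᵁ P := by simp only [← Scheme.Hom.comp_preimage]; rw [hσp]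
        have h0 := congrArg (a.appLE (G.s ⁻¹ᵁ p ⁻¹ᵁ P) (σ ⁻¹ᵁ p ⁻¹ᵁ P) hA).hom hb
        have h1 := congrArg (q.appLE (p' ⁻¹ᵁ P) (σ ⁻¹ᵁ p ⁻¹ᵁ P) hB).hom hc
        simp only [b₀, Scheme.Hom.app_eq_appLE, appLE_appLE] at h0 h1 ⊢
        refine Eq.trans (appLE_congr_hom hσp _ _ _ _ c)
          ((appLE_appLE q p' P (p' ⁻¹ᵁ P) _ le_rfl hB c).symm.trans (h1.trans ?_))
        refine Eq.trans (appLE_congr_hom (pullback.condition (f := G.t) (g := u)).symm _ _ _
          (le_of_eq_of_le rfl (hB.trans (by simp only [← Scheme.Hom.comp_preimage]; rw [pullback.condition, Category.assoc, hup]))) b) ?_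
        exact h0.symm

/-- Quotient of a groupoid with a quasi-section. -/
theorem coequalizer_quasiSection (U' : Scheme.{u}) (u : U' ⟶ G.U) [IsImmersion u]
    (h1 : Mor2.IsFinLocFree (pullback.fst G.t u ≫ G.s) ∧ Surjective (pullback.fst G.t u ≫ G.s))
    (h2 : ∀ E : Set U', (∀ x ∈ E, ∀ y ∈ E, ∃ r : G.R, G.t.base r = u.base x ∧ G.s.base r = u.base y) →
      ∃ W : U'.Opens, IsAffineOpen W ∧ E ⊆ (W : Set U')) :
    ∃ (Y : Scheme.{u}) (p : G.U ⟶ Y) (w : G.t ≫ p = G.s ≫ p),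
      Nonempty (IsColimit (Cofork.ofπ p w)) ∧ Surjective p ∧
      (IsOpenMap G.t.base → IsOpenMap p.base) ∧ (UniversallyClosed G.t → UniversallyClosed p) ∧
      Function.Surjective (pullback.lift G.t G.s w).base ∧
      (Mono G.j → IsPullback G.t G.s p p ∧ (Flat G.t → Flat p)) := by
  obtain ⟨Y, p, w, a, b, c, d, e, f, -, -⟩ := coequalizer_quasiSection' G U' u h1 h2
  exact ⟨Y, p, w, a, b, c, d, e, f⟩

end Groth.Agent.GrpQ80
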