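import Groth.Agent.GrpQ80.GenericSlice
import Groth.Agent.GrpQ80.QuasiSection

/-!
A dense saturated open of a flat groupoid with quasi-finite diagonal has a quotient.
-/

set_option autoImplicit false
set_option linter.unusedSectionVars false
set_option backward.isDefEq.respectTransparency.types false

universe u

open CategoryTheory CategoryTheory.Limits AlgebraicGeometry TopologicalSpace

namespace Groth.Agent.GrpQ80

open Groth.Agent.Grpd80

variable {S : Scheme.{u}} (G : Grpd.GroupoidScheme S)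

lemma hasQS_bot : HasQS G ⊥ := by
  have : IsEmpty (⊥ : G.U.Opens).toScheme := ⟨fun x => x.2⟩
  refine ⟨rfl, _, (⊥ : G.U.Opens).ι, inferInstance, ?_, ?_, ?_, ?_⟩
  · rintro _ ⟨x, rfl⟩; exact x.2
  · exact ⟨inferInstance, inferInstance, inferInstance⟩
  · intro x hx; exact hx.elim
  · intro E _; exact ⟨⊥, isAffineOpen_bot _, fun x _ => isEmptyElim x⟩

lemma hasQS_sup {W₁ W₂ : G.U.Opens} (h₁ : HasQS G W₁) (h₂ : HasQS G W₂) (hd : Disjoint (W₁ : Set G.U) W₂) :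
    HasQS G (W₁ ⊔ W₂) := by
  obtain ⟨i₁, U₁, u₁, _, hr₁, hf₁, hs₁, ha₁⟩ := h₁
  obtain ⟨i₂, U₂, u₂, _, hr₂, hf₂, hs₂, ha₂⟩ := h₂
  let U' := U₁ ⨿ U₂
  let u : U' ⟶ G.U := coprod.desc u₁ u₂
  let inl : U₁ ⟶ U' := coprod.inl
  let inr : U₂ ⟶ U' := coprod.inr
  have el : inl ≫ u = u₁ := coprod.inl_desc _ _
  have er : inr ≫ u = u₂ := coprod.inr_desc _ _
  have hcases : ∀ z : U', (∃ a, inl a = z) ∨ ∃ b, inr b = z := fun z => by
    have : z ∈ Set.range inl ∪ Set.range inr :=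
      (AlgebraicGeometry.isCompl_range_inl_inr U₁ U₂).sup_eq_top.ge trivial
    exact this
  have hl : ∀ z : U', u z ∈ W₁ → ∃ a, inl a = z := fun z hz =>
    (hcases z).resolve_right fun ⟨b, hb⟩ => by
      subst hb
      rw [← Scheme.Hom.comp_apply, er] at hz
      exact Set.disjoint_left.1 hd hz (hr₂ ⟨b, rfl⟩)
  have hr : ∀ z : U', u z ∈ W₂ → ∃ b, inr b = z := fun z hz =>
    (hcases z).resolve_left fun ⟨a, ha⟩ => by
      subst ha
      rw [← Scheme.Hom.comp_apply, el] at hz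
      exact Set.disjoint_left.1 hd (hr₁ ⟨a, rfl⟩) hz
  have hrange : Set.range u ⊆ (W₁ ⊔ W₂ : G.U.Opens) := by
    rintro _ ⟨z, rfl⟩
    rcases hcases z with ⟨a, rfl⟩ | ⟨b, rfl⟩
    · left; rw [← Scheme.Hom.comp_apply, el]; exact hr₁ ⟨a, rfl⟩
    · right; rw [← Scheme.Hom.comp_apply, er]; exact hr₂ ⟨b, rfl⟩
  let W := W₁ ⊔ W₂
  have hcov : (⨆ i : Bool, W.ι ⁻¹ᵁ (cond i W₁ W₂)) = ⊤ := by
    rw [← Scheme.Hom.preimage_iSup, show (⨆ i : Bool, cond i W₁ W₂) = W from (sup_eq_iSup W₁ W₂).symm]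
    exact W.ι_preimage_self
  have hpiece : ∀ {P : MorphismProperty Scheme.{u}} [IsZariskiLocalAtTarget P] {X : Scheme.{u}} (f : X ⟶ G.U),
      P (f ∣_ W₁) → P (f ∣_ W₂) → P (f ∣_ W) := by
    intro P _ X f h₁ h₂
    refine IsZariskiLocalAtTarget.of_iSup_eq_top (P := P) (fun i : Bool => W.ι ⁻¹ᵁ (cond i W₁ W₂)) hcov
      fun i => ?_
    refine (P.arrow_mk_iso_iff (morphismRestrictRestrict f W (W.ι ⁻¹ᵁ (cond i W₁ W₂)) ≪≫
      morphismRestrictEq f (V := cond i W₁ W₂) ?_)).mpr ?_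
    · rw [Scheme.Hom.image_preimage_eq_opensRange_inf, Scheme.Opens.opensRange_ι, inf_eq_right]
      cases i
      · exact le_sup_right (a := W₁) (b := W₂)
      · exact le_sup_left (a := W₁) (b := W₂)
    · cases i
      · exact h₂
      · exact h₁
  have : IsImmersion (u ∣_ W) := by
    refine hpiece (P := @IsImmersion) u ?_ ?_
    · refine (morphismRestrict_congr (P := @IsImmersion) inl u W₁ fun z hz => hl z hz).2 ?_
      rw [el]; infer_instance
    · refine (morphismRestrict_congr (P := @IsImmersion) inr u W₂ fun z hz => hr z hz).2 ?_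
      rw [er]; infer_instance
  have : IsImmersion u := by
    have htop : u ⁻¹ᵁ W = ⊤ := top_le_iff.1 fun z _ => hrange ⟨z, rfl⟩
    have : IsIso (u ⁻¹ᵁ W).ι := by rw [htop]; exact inferInstanceAs (IsIso U'.topIso.hom)
    have e : u = inv (u ⁻¹ᵁ W).ι ≫ (u ∣_ W) ≫ W.ι := by
      rw [morphismRestrict_ι, IsIso.inv_hom_id_assoc]
    rw [e]; infer_instance
  have hW : G.t ⁻¹ᵁ W = G.s ⁻¹ᵁ W := by simp only [W, Scheme.Hom.preimage_sup, i₁, i₂]
  have hm₁ : ∀ r, G.t r ∈ W₁ ↔ G.s r ∈ W₁ := fun r => SetLike.ext_iff.mp i₁ r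
  have hm₂ : ∀ r, G.t r ∈ W₂ ↔ G.s r ∈ W₂ := fun r => SetLike.ext_iff.mp i₂ r
  let σ := pullback.fst G.t u ≫ G.s
  let l₁ := pullback.map G.t u₁ G.t u (𝟙 _) inl (𝟙 _) (by simp) (by simp [el])
  let l₂ := pullback.map G.t u₂ G.t u (𝟙 _) inr (𝟙 _) (by simp) (by simp [er])
  have e₁ : l₁ ≫ σ = pullback.fst G.t u₁ ≫ G.s := by simp [l₁, σ, pullback.map, pullback.lift_fst_assoc]
  have e₂ : l₂ ≫ σ = pullback.fst G.t u₂ ≫ G.s := by simp [l₂, σ, pullback.map, pullback.lift_fst_assoc]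
  have hl₁ : (σ ⁻¹ᵁ W₁ : Set _) ⊆ Set.range l₁ := by
    intro x hx
    rw [Scheme.Pullback.range_map, Set.mem_inter_iff]
    refine ⟨⟨_, rfl⟩, hl _ ?_⟩
    rw [← Scheme.Hom.comp_apply, ← pullback.condition, Scheme.Hom.comp_apply]
    exact (hm₁ _).2 hx
  have hl₂ : (σ ⁻¹ᵁ W₂ : Set _) ⊆ Set.range l₂ := by
    intro x hx
    rw [Scheme.Pullback.range_map, Set.mem_inter_iff]
    refine ⟨⟨_, rfl⟩, hr _ ?_⟩
    rw [← Scheme.Hom.comp_apply, ← pullback.condition, Scheme.Hom.comp_apply]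
    exact (hm₂ _).2 hx
  refine ⟨hW, U', u, ‹_›, hrange, ?_, ?_, ?_⟩
  · change finLF (σ ∣_ W)
    refine hpiece (P := finLF) σ ?_ ?_
    · refine (morphismRestrict_congr (P := finLF) l₁ σ W₁ hl₁).2 ?_
      rw [e₁]; exact hf₁
    · refine (morphismRestrict_congr (P := finLF) l₂ σ W₂ hl₂).2 ?_
      rw [e₂]; exact hf₂
  · rintro y (hy | hy)
    · obtain ⟨x, rfl⟩ := hs₁ hy
      exact ⟨l₁ x, by rw [← e₁]; rfl⟩
    · obtain ⟨x, rfl⟩ := hs₂ hy
      exact ⟨l₂ x, by rw [← e₂]; rfl⟩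
  · intro E hE
    rcases E.eq_empty_or_nonempty with rfl | ⟨z, hz⟩
    · exact ⟨⊥, isAffineOpen_bot _, Set.empty_subset _⟩
    rcases (hrange ⟨z, rfl⟩ : u z ∈ W) with hzW | hzW
    · obtain ⟨Ω, hΩ, hEΩ⟩ := ha₁ (inl ⁻¹' E) fun x hx y hy => by
        obtain ⟨r, h1, h2⟩ := hE _ hx _ hy
        exact ⟨r, by rw [h1, ← Scheme.Hom.comp_apply, el], by rw [h2, ← Scheme.Hom.comp_apply, el]⟩
      refine ⟨inl ''ᵁ Ω, hΩ.image_of_isOpenImmersion inl, fun y hy => ?_⟩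
      obtain ⟨r, h1, h2⟩ := hE _ hz _ hy
      obtain ⟨a, rfl⟩ := hl y (by rw [← h2, ← hm₁, h1]; exact hzW)
      exact ⟨a, hEΩ hy, rfl⟩
    · obtain ⟨Ω, hΩ, hEΩ⟩ := ha₂ (inr ⁻¹' E) fun x hx y hy => by
        obtain ⟨r, h1, h2⟩ := hE _ hx _ hy
        exact ⟨r, by rw [h1, ← Scheme.Hom.comp_apply, er], by rw [h2, ← Scheme.Hom.comp_apply, er]⟩
      refine ⟨inr ''ᵁ Ω, hΩ.image_of_isOpenImmersion inr, fun y hy => ?_⟩
      obtain ⟨r, h1, h2⟩ := hE _ hz _ hy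
      obtain ⟨a, rfl⟩ := hr y (by rw [← h2, ← hm₂, h1]; exact hzW)
      exact ⟨a, hEΩ hy, rfl⟩

/-- A dense saturated open with a quasi-section. -/
theorem exists_dense_hasQS [IsNoetherian S] [Flat G.s] [LocallyOfFiniteType G.s] [QuasiCompact G.s]
    [LocallyOfFiniteType G.pU] [QuasiCompact G.pU] [LocallyQuasiFinite G.j] :
    ∃ W : G.U.Opens, Dense (W : Set G.U) ∧ HasQS G W := by
  have : IsLocallyNoetherian G.U := LocallyOfFiniteType.isLocallyNoetherian G.pU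
  have : CompactSpace G.U := QuasiCompact.compactSpace_of_compactSpace G.pU
  have : IsNoetherian G.U := {}
  have : IsLocallyNoetherian G.R := LocallyOfFiniteType.isLocallyNoetherian G.s
  have : LocallyOfFinitePresentation G.s := LocallyOfFinitePresentation.iff_locallyOfFiniteType.2 ‹_›
  obtain ⟨W, hW, hmax⟩ := (wellFounded_gt (α := G.U.Opens)).has_min {W : G.U.Opens | HasQS G W} ⟨⊥, hasQS_bot G⟩
  refine ⟨W, ?_, hW⟩
  by_contra hd
  let C : G.U.Opens := ⟨(closure (W : Set G.U))ᶜ, isClosed_closure.isOpen_compl⟩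
  have hC : G.t ⁻¹ᵁ C = G.s ⁻¹ᵁ C := by
    have h : (G.t ⁻¹' (W : Set G.U)) = G.s ⁻¹' W := congrArg SetLike.coe hW.1
    apply Opens.ext
    change (G.t ⁻¹' (closure (W : Set G.U))ᶜ) = G.s ⁻¹' (closure (W : Set G.U))ᶜ
    rw [Set.preimage_compl, Set.preimage_compl,
      G.t.isOpenMap.preimage_closure_eq_closure_preimage G.t.continuous,
      G.s.isOpenMap.preimage_closure_eq_closure_preimage G.s.continuous, h]
  have hCne : (C : Set G.U).Nonempty := by
    rw [dense_iff_closure_eq] at hd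
    exact Set.nonempty_compl.2 hd
  obtain ⟨W', hW'C, ⟨x, hx⟩, hW'⟩ := exists_hasQS G C hC hCne
  have hdis : Disjoint (W : Set G.U) W' :=
    Set.disjoint_left.2 fun y hy hy' => hW'C hy' (subset_closure hy)
  exact hmax _ (hasQS_sup G hW hW' hdis) (left_lt_sup.2 fun h => hW'C hx (subset_closure (h hx)))

/-- The dense saturated open quotient. -/
theorem exists_dense_quotient [IsNoetherian S] [Flat G.s] [LocallyOfFiniteType G.s] [QuasiCompact G.s]
    [LocallyOfFiniteType G.pU] [QuasiCompact G.pU] [LocallyQuasiFinite G.j] :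
    ∃ (W : G.U.Opens) (hW : G.t ⁻¹ᵁ W = G.s ⁻¹ᵁ W), Dense (W : Set G.U) ∧
      ∃ (V : Scheme.{u}) (p : (W : Scheme.{u}) ⟶ V)
        (w : G.t.resLE W (G.s ⁻¹ᵁ W) hW.ge ≫ p = (G.s ∣_ W) ≫ p) (q : V ⟶ S),
        Nonempty (IsColimit (Cofork.ofπ p w)) ∧ p ≫ q = W.ι ≫ G.pU ∧
        Surjective p ∧ IsOpenMap p.base ∧ LocallyOfFinitePresentation p ∧
        LocallyOfFinitePresentation q ∧ QuasiCompact q ∧ QuasiSeparated q ∧
        Function.Surjective (pullback.lift (G.t.resLE W (G.s ⁻¹ᵁ W) hW.ge) (G.s ∣_ W) w).base ∧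
        (Mono G.j → IsPullback (G.t.resLE W (G.s ⁻¹ᵁ W) hW.ge) (G.s ∣_ W) p p ∧ Flat p) := by
  have : IsLocallyNoetherian G.U := LocallyOfFiniteType.isLocallyNoetherian G.pU
  have : CompactSpace G.U := QuasiCompact.compactSpace_of_compactSpace G.pU
  have : IsNoetherian G.U := {}
  have : IsLocallyNoetherian G.R := LocallyOfFiniteType.isLocallyNoetherian G.s
  have : LocallyOfFinitePresentation G.s := LocallyOfFinitePresentation.iff_locallyOfFiniteType.2 ‹_›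
  obtain ⟨W, hWd, hW, U', u, _, hur, hfin, hsur, haff⟩ := exists_dense_hasQS G
  have hI : IsInv G W := hW.symm
  let G' := restr hI
  let uW : U' ⟶ W.toScheme := IsOpenImmersion.lift W.ι u (by rwa [Scheme.Opens.range_ι])
  have huW : uW ≫ W.ι = u := IsOpenImmersion.lift_fac _ _ _
  have : IsImmersion (uW ≫ W.ι) := by rw [huW]; infer_instance
  have : IsImmersion uW := IsImmersion.of_comp uW W.ι
  have et : G.t.resLE W (G.s ⁻¹ᵁ W) hW.ge = restrT hI := by
    rw [← cancel_mono W.ι, Scheme.Hom.resLE_comp_ι, restrT_ι]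
  let σ := pullback.fst G.t u ≫ G.s
  let σ' := pullback.fst (restrT hI) uW ≫ (G.s ∣_ W)
  let l : pullback (restrT hI) uW ⟶ pullback G.t u :=
    pullback.map _ _ _ _ (G.s ⁻¹ᵁ W).ι (𝟙 _) W.ι (restrT_ι hI) ((Category.id_comp u).trans huW.symm).symm
  have hσ' : σ' ≫ W.ι = l ≫ σ := by
    simp [σ', σ, l, pullback.map, pullback.lift_fst_assoc, morphismRestrict_ι]
  have hl : (σ ⁻¹ᵁ W : Set _) ⊆ Set.range l := by
    intro x hx
    rw [Scheme.Pullback.range_map, Set.mem_inter_iff]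
    refine ⟨⟨⟨pullback.fst G.t u x, hx⟩, rfl⟩, ⟨_, rfl⟩⟩
  have hP : finLF σ' := by
    have h1 : finLF ((σ' ≫ W.ι) ∣_ W) := by
      rw [hσ']; exact (morphismRestrict_congr (P := finLF) l σ W hl).1 hfin
    rw [morphismRestrict_comp] at h1
    have : Surjective (W.ι ∣_ W) := ⟨fun y => ⟨⟨y, y.2⟩, Subtype.ext (morphismRestrict_base_coe _ _ _)⟩⟩
    have : IsIso (W.ι ∣_ W) :=
      (isIso_iff_isOpenImmersion_and_epi_base _).2 ⟨inferInstance, (TopCat.epi_iff_surjective _).2 (W.ι ∣_ W).surjective⟩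
    replace h1 := (MorphismProperty.cancel_right_of_respectsIso finLF (σ' ∣_ W.ι ⁻¹ᵁ W) (W.ι ∣_ W)).1 h1
    exact IsZariskiLocalAtTarget.of_iSup_eq_top (P := finLF) (fun _ : Unit => W.ι ⁻¹ᵁ W)
      (by rw [iSup_const]; exact W.ι_preimage_self) fun _ => h1
  have hS : Surjective σ' := ⟨fun y => by
    obtain ⟨x, hx⟩ := hsur y.2
    obtain ⟨z, hz⟩ := hl (show σ x ∈ W from hx ▸ y.2)
    refine ⟨z, W.ι.isOpenEmbedding.injective ?_⟩
    rw [← Scheme.Hom.comp_apply, hσ', Scheme.Hom.comp_apply, hz]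
    exact hx⟩
  obtain ⟨V, p, w, hcol, hsurj, hopen, -, hlift, hmono, hlft, -⟩ :=
    @coequalizer_quasiSection' S G' U' uW ‹IsImmersion uW› ⟨hP, hS⟩ (fun E hE => haff E fun x hx y hy => by
      obtain ⟨r, h1, h2⟩ := hE x hx y hy
      refine ⟨(G.s ⁻¹ᵁ W).ι r, ?_, ?_⟩
      · rw [← Scheme.Hom.comp_apply, ← restrT_ι hI, Scheme.Hom.comp_apply, ← huW, Scheme.Hom.comp_apply]
        exact congrArg W.ι h1
      · rw [← Scheme.Hom.comp_apply, ← morphismRestrict_ι, Scheme.Hom.comp_apply, ← huW,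
          Scheme.Hom.comp_apply]
        exact congrArg W.ι h2)
  obtain ⟨p₀, hp₀⟩ : ∃ p₀ : W.toScheme ⟶ V, p₀ = p := ⟨p, rfl⟩
  subst hp₀
  have w' : restrT hI ≫ p₀ = (G.s ∣_ W) ≫ p₀ := w
  have hcol' : Nonempty (IsColimit (Cofork.ofπ p₀ w')) := hcol
  have hlift' : Function.Surjective (pullback.lift (restrT hI) (G.s ∣_ W) w').base := hlift
  have hsurj' : Surjective p₀ := hsurj
  have hpU : restrT hI ≫ W.ι ≫ G.pU = (G.s ∣_ W) ≫ W.ι ≫ G.pU := by
    rw [restrT_ι_assoc, G.t_over, morphismRestrict_ι_assoc, G.s_over]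
  obtain ⟨c⟩ := hcol'
  let q : V ⟶ S := c.desc (Cofork.ofπ (W.ι ≫ G.pU) hpU)
  have hq : p₀ ≫ q = W.ι ≫ G.pU := Cofork.IsColimit.π_desc c
  have : LocallyOfFiniteType (W.ι ≫ G.pU) := inferInstance
  have : LocallyOfFiniteType (uW ≫ p₀ ≫ q) := by rw [hq]; infer_instance
  have : LocallyOfFiniteType q := hlft inferInstance q this
  have : IsLocallyNoetherian V := LocallyOfFiniteType.isLocallyNoetherian q
  have : LocallyOfFiniteType (p₀ ≫ q) := by rw [hq]; infer_instance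
  have : LocallyOfFiniteType p₀ := locallyOfFiniteType_of_comp p₀ q
  have : CompactSpace W := isCompact_iff_compactSpace.1 (TopologicalSpace.NoetherianSpace.isCompact _)
  have : CompactSpace V := ⟨by
    have h := isCompact_univ.image p₀.continuous
    rwa [Set.image_univ, hsurj'.1.range_eq] at h⟩
  have hqc : QuasiCompact q := (quasiCompact_iff_compactSpace q).2 inferInstance
  have htopen : IsOpenMap (restrT hI).base := by
    rw [← et]
    exact (G.t.resLE W (G.s ⁻¹ᵁ W) hW.ge).isOpenMap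
  refine ⟨W, hW, hWd, V, p₀, (by rw [et]; exact w'), q, ?_, hq, hsurj', hopen htopen,
    LocallyOfFinitePresentation.iff_locallyOfFiniteType.2 inferInstance,
    LocallyOfFinitePresentation.iff_locallyOfFiniteType.2 inferInstance, hqc, inferInstance, ?_, fun hj => ?_⟩
  · have : ∀ (f : _ ⟶ W.toScheme) (_ : f = restrT hI) (e : f ≫ p₀ = (G.s ∣_ W) ≫ p₀),
        Nonempty (IsColimit (Cofork.ofπ p₀ e)) := by
      rintro f rfl e; exact ⟨c⟩
    exact this _ et _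
  · have : ∀ (f : _ ⟶ W.toScheme) (_ : f = restrT hI) (e : f ≫ p₀ = (G.s ∣_ W) ≫ p₀),
        Function.Surjective (pullback.lift f (G.s ∣_ W) e).base := by
      rintro f rfl e; exact hlift'
    exact this _ et _
  · have := restr_mono_j hI
    obtain ⟨h1, h2⟩ := hmono this
    refine ⟨by rw [et]; exact h1, h2 ?_⟩
    change Flat (restrT hI)
    rw [← et]
    infer_instance

end Groth.Agent.GrpQ80
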