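import Groth.Agent.SpPts86.SliceCover
import Groth.Agent.SpPts86.QuotSpace
import Groth.Agent.SpFP87.MonoTfae
import Groth.Agent.SpFP87.SourceFppf

/-!
Factorisation of a morphism with flat kernel pair as an fppf cover followed by a monomorphism.
-/

set_option autoImplicit false
set_option backward.isDefEq.respectTransparency.types false

universe u

open CategoryTheory CategoryTheory.Limits AlgebraicGeometry
open AlgSp Groth.Agent.SpFP87 Groth.Agent.SpPts86

namespace Groth.Agent.GrpQ80

variable {X Y : Scheme.{u}} (f : X ⟶ Y)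

theorem exists_factor [LocallyOfFinitePresentation f] [Flat (pullback.fst f f)] :
    ∃ (X' : Scheme.{u}) (f' : X ⟶ X') (f'' : X' ⟶ Y),
      Surjective f' ∧ Flat f' ∧ LocallyOfFinitePresentation f' ∧ Mono f'' ∧
        LocallyOfFinitePresentation f'' ∧ f' ≫ f'' = f := by
  let U : Over Y := Over.mk f
  let R : Over Y := Over.mk (pullback.fst f f ≫ f)
  let t : R ⟶ U := Over.homMk (pullback.fst f f) rfl
  let s : R ⟶ U := Over.homMk (pullback.snd f f) pullback.condition.symm
  have : Flat (pullback.snd f f) := by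
    rw [← pullbackSymmetry_hom_comp_fst]; infer_instance
  have : Flat s.left := this
  have : Flat t.left := ‹Flat (pullback.fst f f)›
  have : LocallyOfFinitePresentation s.left := inferInstanceAs (LocallyOfFinitePresentation (pullback.snd f f))
  have : LocallyOfFinitePresentation t.left := inferInstanceAs (LocallyOfFinitePresentation (pullback.fst f f))
  have htot : ∀ {T : Over Y} (a b : T ⟶ U), ∃ r : T ⟶ R, r ≫ t = a ∧ r ≫ s = b := fun {T} a b =>
    ⟨Over.homMk (pullback.lift a.left b.left ((Over.w a).trans (Over.w b).symm))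
        (by show pullback.lift _ _ _ ≫ pullback.fst f f ≫ f = _; rw [pullback.lift_fst_assoc]; exact Over.w a),
      by ext; exact pullback.lift_fst _ _ _, by ext; exact pullback.lift_snd _ _ _⟩
  have h : IsEqvRel s t :=
    { injective := fun T r r' h₁ h₂ => by
        ext : 1
        exact pullback.hom_ext (congrArg CommaMorphism.left h₁) (congrArg CommaMorphism.left h₂)
      equivalence := fun T => ⟨fun a => htot a a, fun {a b} _ => htot b a, fun {a _ c} _ _ => htot a c⟩ }
  let F := QuotSh.quot Scheme.fppfPrecoverage s t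
  let π : (yon Y).obj U ⟶ F := quotMap s t
  have hl : LocLift π := locLift_quotMap s t
  have sq : IsPullback ((yon Y).map t) ((yon Y).map s) π π := quotMap_kernelPair h
  have hF : IsAlgSpace F := isAlgSpace_of_kernelPair_fppf hl sq
  -- sections of the quotient are unique
  have huniq : ∀ {T : Over Y} (x y : (yon Y).obj T ⟶ F), x = y := by
    intro T x y
    obtain ⟨W, c, l, hc, hlx⟩ := hl T x
    obtain ⟨W', c', l', hc', hly⟩ := hl W ((yon Y).map c ≫ y)
    obtain ⟨a, rfl⟩ := (yon Y).map_surjective l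
    obtain ⟨b, rfl⟩ := (yon Y).map_surjective l'
    obtain ⟨r, hr1, hr2⟩ := htot (c' ≫ a) b
    refine cover_hom_ext (c' ≫ c) (fppfSurj_comp hc' hc) ?_
    rw [Functor.map_comp, Category.assoc, Category.assoc, ← hlx, ← hly, ← Functor.map_comp_assoc, ← hr1,
      ← hr2, Functor.map_comp, Functor.map_comp, Category.assoc, Category.assoc, sq.w]
  let one : Over Y := Over.mk (𝟙 Y)
  have hone : ∀ {T : Over Y} (a b : T ⟶ one), a = b := fun a b => by
    ext : 1
    exact ((Category.comp_id _).symm.trans (Over.w a)).trans (((Category.comp_id _).symm.trans (Over.w b)).symm)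
  obtain ⟨q, -⟩ := exists_desc hl ((yon Y).map (Over.homMk f (Category.comp_id _) : U ⟶ one))
    (fun W l l' _ => by rw [← Functor.map_comp, ← Functor.map_comp, hone (_ ≫ _)])
  have : Mono q := ⟨fun a b _ => sp_hom_ext fun T g => huniq _ _⟩
  have hrep : Representable π := Functor.relativelyRepresentable.of_diag hF.diag π
  have : MorphismProperty.DescendsAlong (@Flat : MorphismProperty Scheme.{u}) fppfMor := flat_descends.{u}
  have : MorphismProperty.DescendsAlong (@LocallyOfFinitePresentation : MorphismProperty Scheme.{u}) fppfMor :=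
    lfp_descends.{u}
  have := isLocalAtTarget_fppf.{u} (@Flat : MorphismProperty Scheme.{u})
  have := isLocalAtTarget_fppf.{u} (@LocallyOfFinitePresentation : MorphismProperty Scheme.{u})
  have hflat : RepWith @Flat π :=
    repWith_of_locLift _ hrep hl sq ((repWith_yon_map_iff _ _).2 ‹Flat s.left›)
  have hlfp : RepWith @LocallyOfFinitePresentation π :=
    repWith_of_locLift _ hrep hl sq ((repWith_yon_map_iff _ _).2 ‹LocallyOfFinitePresentation s.left›)
  have hsurj : RepWith @Surjective π :=
    (repWith_surjective_iff hrep).2 ((covLift_of_locLift hl).surjective_points)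
  have hq : LocP @LocallyOfFiniteType q := by
    obtain ⟨V, b, hb, hbs⟩ := hF.atlas
    obtain ⟨W, w, a, sqW⟩ := hrep b
    obtain ⟨a, rfl⟩ := (yon Y).map_surjective a
    have h1 : Flat w.left := hflat.property _ _ _ sqW
    have h2 : LocallyOfFinitePresentation w.left := hlfp.property _ _ _ sqW
    have h3 : Surjective w.left := hsurj.property _ _ _ sqW
    have h4 : Etale a.left := hb.property _ _ _ sqW.flip
    have h5 : LocallyOfFinitePresentation (w.left ≫ V.hom) := by
      rw [Over.w, ← Over.w a]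
      exact inferInstanceAs (LocallyOfFinitePresentation (a.left ≫ f))
    have h6 : LocallyOfFinitePresentation V.hom := Unr55.locallyOfFinitePresentation_of_fppf_comp w.left V.hom
    let hV : V ⟶ one := Over.homMk V.hom (Category.comp_id _)
    have hVl : LocallyOfFiniteType hV.left := inferInstanceAs (LocallyOfFiniteType V.hom)
    refine locP_of_chart hF.diag (IsAlgSpace.yon_obj one).diag hb hbs (repWith_id _ one) (h := hV) ?_ hVl
    rw [Category.comp_id]
    obtain ⟨z, hz⟩ := (yon Y).map_surjective (b ≫ q)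
    rw [← hz, hone z]
  obtain ⟨Z, ⟨e⟩⟩ := exists_iso_of_lqf_separated hF (isSeparatedMor_of_mono q)
    (fun _ _ a b k ha hb w => unramified_le_lqf _ (unramified_of_lft_mono hF hq a b k ha hb w))
  obtain ⟨g, hg⟩ := (yon Y).map_surjective (π ≫ e.inv)
  refine ⟨Z.left, g.left, Z.hom, ?_, ?_, ?_, ?_, ?_, Over.w g⟩
  · exact (repWith_yon_map_iff _ g).1 (hg ▸ MorphismProperty.RespectsIso.postcomp _ _ _ hsurj)
  · exact (repWith_yon_map_iff _ g).1 (hg ▸ MorphismProperty.RespectsIso.postcomp _ _ _ hflat)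
  · exact (repWith_yon_map_iff _ g).1 (hg ▸ MorphismProperty.RespectsIso.postcomp _ _ _ hlfp)
  · refine ⟨fun {W} a b hab => ?_⟩
    let a' : Over.mk (a ≫ Z.hom) ⟶ Z := Over.homMk a rfl
    let b' : Over.mk (a ≫ Z.hom) ⟶ Z := Over.homMk b hab.symm
    have h' : a' = b' := (yon Y).map_injective (by rw [← cancel_mono e.hom]; exact huniq _ _)
    exact congrArg CommaMorphism.left h'
  · have hgf : Flat g.left :=
      (repWith_yon_map_iff _ g).1 (hg ▸ MorphismProperty.RespectsIso.postcomp _ _ _ hflat)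
    have hgl : LocallyOfFinitePresentation g.left :=
      (repWith_yon_map_iff _ g).1 (hg ▸ MorphismProperty.RespectsIso.postcomp _ _ _ hlfp)
    have hgs : Surjective g.left :=
      (repWith_yon_map_iff _ g).1 (hg ▸ MorphismProperty.RespectsIso.postcomp _ _ _ hsurj)
    have : LocallyOfFinitePresentation (g.left ≫ Z.hom) := by
      rw [Over.w]; exact ‹LocallyOfFinitePresentation f›
    exact Unr55.locallyOfFinitePresentation_of_fppf_comp g.left Z.hom

/-- The factorisation is unique. -/
theorem factor_unique {X₁ X₂ : Scheme.{u}} (g₁ : X ⟶ X₁) (h₁ : X₁ ⟶ Y) (g₂ : X ⟶ X₂) (h₂ : X₂ ⟶ Y)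
    [Surjective g₁] [Flat g₁] [LocallyOfFinitePresentation g₁] [Mono h₁]
    [Surjective g₂] [Flat g₂] [LocallyOfFinitePresentation g₂] [Mono h₂]
    (e₁ : g₁ ≫ h₁ = f) (e₂ : g₂ ≫ h₂ = f) :
    ∃ φ : X₁ ≅ X₂, g₁ ≫ φ.hom = g₂ ∧ φ.hom ≫ h₂ = h₁ := by
  have hd₁ : ∀ {T : Scheme.{u}} (a b : T ⟶ X), a ≫ g₁ = b ≫ g₁ → a ≫ g₂ = b ≫ g₂ := fun a b hab => by
    rw [← cancel_mono h₂, Category.assoc, Category.assoc, e₂, ← e₁, reassoc_of% hab]
  have hd₂ : ∀ {T : Scheme.{u}} (a b : T ⟶ X), a ≫ g₂ = b ≫ g₂ → a ≫ g₁ = b ≫ g₁ := fun a b hab => by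
    rw [← cancel_mono h₁, Category.assoc, Category.assoc, e₁, ← e₂, reassoc_of% hab]
  refine ⟨⟨EffectiveEpi.desc g₁ g₂ hd₁, EffectiveEpi.desc g₂ g₁ hd₂, ?_, ?_⟩, EffectiveEpi.fac g₁ g₂ hd₁, ?_⟩
  · rw [← cancel_epi g₁, EffectiveEpi.fac_assoc, EffectiveEpi.fac, Category.comp_id]
  · rw [← cancel_epi g₂, EffectiveEpi.fac_assoc, EffectiveEpi.fac, Category.comp_id]
  · rw [← cancel_epi g₁, EffectiveEpi.fac_assoc, e₂, e₁]

/-- Conversely a factorisation makes the projection from the kernel pair flat. -/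
theorem flat_fst_of_factor {X' : Scheme.{u}} (f' : X ⟶ X') (f'' : X' ⟶ Y) [Flat f'] [Mono f'']
    (e : f' ≫ f'' = f) : Flat (pullback.fst f f) := by
  subst e
  have sq : IsPullback (pullback.fst (f' ≫ f'') (f' ≫ f'')) (pullback.snd (f' ≫ f'') (f' ≫ f'')) f' f' :=
    ⟨⟨by rw [← cancel_mono f'', Category.assoc, Category.assoc]; exact pullback.condition⟩,
      ⟨PullbackCone.IsLimit.mk _
        (fun c => pullback.lift c.fst c.snd (by rw [reassoc_of% c.condition]))
        (fun c => pullback.lift_fst _ _ _) (fun c => pullback.lift_snd _ _ _)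
        (fun c m h₁ h₂ => pullback.hom_ext (by rw [pullback.lift_fst]; exact h₁)
          (by rw [pullback.lift_snd]; exact h₂))⟩⟩
  exact MorphismProperty.of_isPullback (P := @Flat) sq.flip ‹_›

end Groth.Agent.GrpQ80
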