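import Groth.Agent.GrpQ80.FpqcQuot
import Groth.Agent.Grpd80.SubDescent
import Groth.Agent.SpFP87.FpqcBase
import Groth.Agent.Desc59.FpqcCover
import Mathlib.CategoryTheory.Monoidal.Cartesian.Over

/-!
Sections of the fpqc quotient sheaf as descended subschemes of `U × T`.
-/

set_option autoImplicit false
set_option backward.isDefEq.respectTransparency.types false
universe u

open CategoryTheory CategoryTheory.Limits AlgebraicGeometry MonoidalCategory CartesianMonoidalCategory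

namespace Groth.Agent.GrpQ80.Fpqc

open Desc59 (IsFpqcMor)

/-- Descent of a property along one fpqc covering morphism. -/
theorem descend (P : MorphismProperty Scheme.{u}) [IsZariskiLocalAtTarget P]
    (hP : P.DescendsAlong (@Surjective ⊓ @Flat ⊓ @QuasiCompact : MorphismProperty Scheme.{u}))
    {A A' B B' : Scheme.{u}} {a : A' ⟶ A} {f' : A' ⟶ B'} {f : A ⟶ B} {g : B' ⟶ B}
    (sq : IsPullback a f' f g) [hg : IsFpqcMor g] (h : P f') : P f := by
  refine Desc59.FpqcCover.of_fpqcCover P hP f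
    ⟨PreZeroHypercover.singleton.{u} g, by rw [PreZeroHypercover.presieve₀_singleton]; exact hg.mem⟩ fun _ => ?_
  show P (pullback.snd f g)
  rw [← sq.isoPullback_inv_snd, P.cancel_left_of_respectsIso]
  exact h

variable {S : Scheme.{u}} {R U : Over S} (s t : R ⟶ U) {T : Over S}
  (σ : QuotSh.rep Scheme.fpqcPrecoverage T ⟶ QuotSh.quot Scheme.fpqcPrecoverage s t)

/-- The points of `U × T` lying over the given section. -/
def Pred {W : Over S} (z : W ⟶ U ⊗ T) : Prop :=
  (y S).map (z ≫ fst U T) ≫ qπ s t = (y S).map (z ≫ snd U T) ≫ sec σ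

variable {s t σ}

lemma Pred.comp {W W' : Over S} {z : W ⟶ U ⊗ T} (h : Pred s t σ z) (w : W' ⟶ W) :
    Pred s t σ (w ≫ z) := by
  unfold Pred at *
  rw [Category.assoc, Category.assoc, (y S).map_comp w, (y S).map_comp w, Category.assoc,
    Category.assoc, h]

lemma Pred.descend {W W' : Over S} {z : W ⟶ U ⊗ T} (c : W' ⟶ W) [IsFpqcMor c.left]
    (h : Pred s t σ (c ≫ z)) : Pred s t σ z := by
  refine hom_ext_of_fpqcMor c ?_
  rw [← Category.assoc, ← Category.assoc, ← (y S).map_comp, ← (y S).map_comp, ← Category.assoc,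
    ← Category.assoc]
  exact h

lemma pred_iff_eq {W : Over S} (z : W ⟶ U ⊗ T) : Pred s t σ z ↔
    (y S).map (z ≫ fst U T) ≫ qπ s t = (y S).map (z ≫ snd U T) ≫ sec σ := Iff.rfl

/-- Factorizations through monomorphisms descend. -/
lemma factor_descend {Z W W' Y : Over S} (i : Z ⟶ Y) [Mono i.left] (z : W ⟶ Y) (c : W' ⟶ W)
    [IsFpqcMor c.left] (w' : W' ⟶ Z) (h : w' ≫ i = c ≫ z) : ∃ w, w ≫ i = z := by
  have hl : w'.left ≫ i.left = c.left ≫ z.left := congrArg CommaMorphism.left h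
  let w₀ := EffectiveEpi.desc c.left w'.left fun g₁ g₂ e => (cancel_mono i.left).1 (by
    rw [Category.assoc, hl, reassoc_of% e, Category.assoc, hl])
  have hw₀ : w₀ ≫ i.left = z.left := by
    rw [← cancel_epi c.left, EffectiveEpi.fac_assoc, hl]
  exact ⟨Over.homMk w₀ (by rw [← Over.w i, reassoc_of% hw₀, Over.w z]), Over.OverMorphism.ext hw₀⟩

variable (s t σ) in
/-- A stable subobject lifting the section is the subobject of all points over it. -/
theorem factor_iff_pred [IsEquivalenceRelation s t] {Z : Over S} (i : Z ⟶ U ⊗ T) [Mono i.left]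
    (hst : ∀ (T' : Over S) (r : T' ⟶ R ⊗ T),
      (∃ z : T' ⟶ Z, z ≫ i = r ≫ (s ▷ T)) ↔ (∃ z : T' ⟶ Z, z ≫ i = r ≫ (t ▷ T)))
    [Flat (i ≫ snd U T).left] [Surjective (i ≫ snd U T).left] [QuasiCompact (i ≫ snd U T).left]
    (he : QuotSh.repMap Scheme.fpqcPrecoverage (i ≫ fst U T) ≫ QuotSh.quotπ Scheme.fpqcPrecoverage s t =
        QuotSh.repMap Scheme.fpqcPrecoverage (i ≫ snd U T) ≫ σ)
    {W : Over S} (z : W ⟶ U ⊗ T) : (∃ w, w ≫ i = z) ↔ Pred s t σ z := by
  have hi : Pred s t σ i := by rw [pred_iff_eq, qπ, ← sec_repMap, ← sec_repMap, he]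
  refine ⟨?_, fun hz => ?_⟩
  · rintro ⟨w, rfl⟩
    exact hi.comp w
  have sq := IsPullback.of_hasPullback (z ≫ snd U T) (i ≫ snd U T)
  have : IsFpqcMor (pullback.fst (z ≫ snd U T) (i ≫ snd U T)).left :=
    Desc59.IsFpqcMor.of_isPullback (hf := (inferInstance : IsFpqcMor (i ≫ snd U T).left)) (sq.map (Over.forget S)).flip
  let p₁ := pullback.fst (z ≫ snd U T) (i ≫ snd U T)
  let p₂ := pullback.snd (z ≫ snd U T) (i ≫ snd U T)
  have hb : p₁ ≫ z ≫ snd U T = p₂ ≫ i ≫ snd U T := sq.w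
  have h₁ := hz.comp p₁
  have h₂ := hi.comp p₂
  rw [pred_iff_eq, Category.assoc, Category.assoc] at h₁ h₂
  obtain ⟨r, hr₁, hr₂⟩ := exists_rel_of_eq s t (p₂ ≫ i ≫ fst U T) (p₁ ≫ z ≫ fst U T)
    (by rw [h₂, h₁, hb])
  obtain ⟨w, hw⟩ := (hst _ (lift r (p₂ ≫ i ≫ snd U T))).1 ⟨p₂, by
    rw [lift_whiskerRight, hr₁]
    apply CartesianMonoidalCategory.hom_ext <;> simp⟩
  refine factor_descend i z p₁ w ?_
  rw [hw, lift_whiskerRight, hr₂]
  apply CartesianMonoidalCategory.hom_ext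
  · simp [p₁]
  · rw [lift_snd, ← hb]; simp [p₁]

variable (s t σ) in
/-- The subobject of all points over a section. -/
theorem exists_sub [IsEquivalenceRelation s t] [Flat s.left] [Surjective s.left] [QuasiCompact s.left]
    (P : MorphismProperty Scheme.{u}) [P.IsStableUnderBaseChange] [IsZariskiLocalAtTarget P]
    (hPd : P.DescendsAlong (@Surjective ⊓ @Flat ⊓ @QuasiCompact : MorphismProperty Scheme.{u}))
    (hmono : ∀ {A B : Scheme.{u}} (f : A ⟶ B), P f → Mono f)
    (hqa : ∀ {A B : Scheme.{u}} (f : A ⟶ B), P f → MoreMor.IsIndQuasiAffineHom f)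
    (hj : P (lift t s).left) :
    ∃ (Z : Over S) (i : Z ⟶ U ⊗ T), P i.left ∧
      (∀ {W : Over S} (z : W ⟶ U ⊗ T), (∃ w, w ≫ i = z) ↔ Pred s t σ z) ∧
      Flat (i ≫ snd U T).left ∧ Surjective (i ≫ snd U T).left ∧ QuasiCompact (i ≫ snd U T).left := by
  obtain ⟨T', c, a, _, _, _, ha⟩ := exists_lift s t (sec σ)
  let Z₀ := pullback (U ◁ a) (lift t s)
  let i₀ : Z₀ ⟶ U ⊗ T' := pullback.fst (U ◁ a) (lift t s)
  have hi₀ : P i₀.left := P.of_isPullback ((IsPullback.of_hasPullback (U ◁ a) (lift t s)).map (Over.forget S)).flip hj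
  have := hmono _ hi₀
  let p : (U ⊗ T').left ⟶ (U ⊗ T).left := (U ◁ c).left
  have sqp : IsPullback (U ◁ c) (snd U T') (snd U T) c :=
    ⟨⟨whiskerLeft_snd U c⟩, ⟨PullbackCone.IsLimit.mk _ (fun k => lift (k.fst ≫ fst U T) k.snd)
      (fun k => by
        rw [lift_whiskerLeft]
        apply CartesianMonoidalCategory.hom_ext
        · simp
        · rw [lift_snd]; exact k.condition.symm)
      (fun k => lift_snd _ _) fun k m h₁ h₂ => by
        apply CartesianMonoidalCategory.hom_ext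
        · rw [lift_fst, ← h₁, Category.assoc, whiskerLeft_fst]
        · rw [lift_snd]; exact h₂⟩⟩
  have sqp' := sqp.map (Over.forget S)
  have : Flat p := MorphismProperty.of_isPullback (P := @Flat) sqp'.flip ‹Flat c.left›
  have : Surjective p := MorphismProperty.of_isPullback (P := @Surjective) sqp'.flip ‹Surjective c.left›
  have : IsFpqcMor p := Desc59.IsFpqcMor.of_isPullback (hf := ‹IsFpqcMor c.left›) sqp'.flip
  have fac : ∀ {W : Over S} (z : W ⟶ U ⊗ T'),
      (∃ w, w ≫ i₀ = z) ↔ Pred s t σ (z ≫ (U ◁ c)) := by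
    intro W z
    have e : Pred s t σ (z ≫ (U ◁ c)) ↔
        (y S).map (z ≫ fst U T') ≫ qπ s t = (y S).map (z ≫ snd U T' ≫ a) ≫ qπ s t := by
      rw [pred_iff_eq, Category.assoc, Category.assoc, whiskerLeft_fst, whiskerLeft_snd,
        (y S).map_comp z (snd U T' ≫ c), (y S).map_comp (snd U T') c, (y S).map_comp z (snd U T' ≫ a),
        (y S).map_comp (snd U T') a]
      simp only [Category.assoc]
      rw [ha]
    rw [e]
    constructor
    · rintro ⟨w, rfl⟩
      have h : i₀ ≫ (U ◁ a) = pullback.snd (U ◁ a) (lift t s) ≫ lift t s := pullback.condition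
      have h₁ : (w ≫ i₀) ≫ fst U T' = (w ≫ pullback.snd (U ◁ a) (lift t s)) ≫ t := by
        have := congrArg (w ≫ · ≫ fst U U) h
        simpa using this
      have h₂ : (w ≫ i₀) ≫ snd U T' ≫ a = (w ≫ pullback.snd (U ◁ a) (lift t s)) ≫ s := by
        have := congrArg (w ≫ · ≫ snd U U) h
        simpa using this
      rw [h₁, h₂, (y S).map_comp _ t, (y S).map_comp _ s, Category.assoc, Category.assoc,
        qπ_condition]
    · intro h
      obtain ⟨r, hr₁, hr₂⟩ := exists_rel_of_eq s t _ _ h.symm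
      refine ⟨pullback.lift z r ?_, pullback.lift_fst _ _ _⟩
      apply CartesianMonoidalCategory.hom_ext
      · simpa using hr₂.symm
      · simpa using hr₁.symm
  have hst : ∀ {W₀ : Scheme.{u}} (x₀ x₁ : W₀ ⟶ (U ⊗ T').left), x₀ ≫ p = x₁ ≫ p →
      (∃ v, v ≫ i₀.left = x₀) → ∃ v, v ≫ i₀.left = x₁ := by
    rintro W₀ x₀ x₁ hx ⟨v, hv⟩
    let W : Over S := Over.mk (x₀ ≫ (U ⊗ T').hom)
    have hx' : x₁ ≫ (U ⊗ T').hom = x₀ ≫ (U ⊗ T').hom := by
      rw [← Over.w (U ◁ c)]
      exact (reassoc_of% hx.symm) _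
    let z₀ : W ⟶ U ⊗ T' := Over.homMk x₀ rfl
    let z₁ : W ⟶ U ⊗ T' := Over.homMk x₁ hx'
    have h0 : ∃ w, w ≫ i₀ = z₀ := ⟨Over.homMk v (by
      rw [← Over.w i₀, reassoc_of% hv]; rfl), Over.OverMorphism.ext hv⟩
    have hz : z₀ ≫ (U ◁ c) = z₁ ≫ (U ◁ c) := Over.OverMorphism.ext hx
    rw [fac, hz, ← fac] at h0
    obtain ⟨w, hw⟩ := h0
    exact ⟨w.left, congrArg CommaMorphism.left hw⟩
  obtain ⟨Uo, ⟨e⟩⟩ := Desc59.effective_of_isIndQuasiAffineHom' p (Grpd80.monoDD p i₀.left hst)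
    (hqa _ hi₀)
  let E : pullback p Uo.hom ≅ Z₀.left :=
    { hom := e.hom.hom.left
      inv := e.inv.hom.left
      hom_inv_id := congrArg (fun x : _ ⟶ _ => (Desc.SchDD.Hom.hom x).left) e.hom_inv_id
      inv_hom_id := congrArg (fun x : _ ⟶ _ => (Desc.SchDD.Hom.hom x).left) e.inv_hom_id }
  have hE : E.hom ≫ i₀.left = pullback.fst p Uo.hom := Over.w e.hom.hom
  have sq₁ : IsPullback (E.inv ≫ pullback.snd p Uo.hom) i₀.left Uo.hom p :=
    (IsPullback.of_hasPullback p Uo.hom).flip.of_iso E (Iso.refl _) (Iso.refl _) (Iso.refl _)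
      (by simp) (by simp [hE]) (by simp) (by simp)
  have hP : P Uo.hom := descend P hPd sq₁ hi₀
  let Z : Over S := Over.mk (Uo.hom ≫ (U ⊗ T).hom)
  let i : Z ⟶ U ⊗ T := Over.homMk Uo.hom rfl
  have : Mono i.left := hmono _ hP
  let c' : Z₀ ⟶ Z := Over.homMk (E.inv ≫ pullback.snd p Uo.hom) (by
    show _ ≫ Uo.hom ≫ _ = _
    rw [← Category.assoc, sq₁.w, Category.assoc, Over.w (U ◁ c), Over.w i₀])
  have hc' : c' ≫ i = i₀ ≫ (U ◁ c) := Over.OverMorphism.ext sq₁.w
  have : IsFpqcMor c'.left := Desc59.IsFpqcMor.of_isPullback sq₁.flip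
  have hi : Pred s t σ i := by
    refine Pred.descend c' ?_
    rw [hc', ← fac]
    exact ⟨𝟙 _, Category.id_comp _⟩
  refine ⟨Z, i, hP, fun {W} z => ⟨?_, fun hz => ?_⟩, ?_⟩
  · rintro ⟨w, rfl⟩
    exact hi.comp w
  · have sqW := IsPullback.of_hasPullback z (U ◁ c)
    have : IsFpqcMor (pullback.fst z (U ◁ c)).left :=
      Desc59.IsFpqcMor.of_isPullback (hf := ‹IsFpqcMor p›) (sqW.map (Over.forget S)).flip
    obtain ⟨w, hw⟩ := (fac (pullback.snd z (U ◁ c))).2 (by rw [← sqW.w]; exact hz.comp _)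
    exact factor_descend i z (pullback.fst z (U ◁ c)) (w ≫ c') (by
      rw [Category.assoc, hc', reassoc_of% hw, ← sqW.w])
  · have sqa : IsPullback (U ◁ a) (snd U T') (snd U U) a :=
      ⟨⟨whiskerLeft_snd U a⟩, ⟨PullbackCone.IsLimit.mk _ (fun k => lift (k.fst ≫ fst U U) k.snd)
        (fun k => by
          rw [lift_whiskerLeft]
          apply CartesianMonoidalCategory.hom_ext
          · simp
          · rw [lift_snd]; exact k.condition.symm)
        (fun k => lift_snd _ _) fun k m h₁ h₂ => by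
          apply CartesianMonoidalCategory.hom_ext
          · rw [lift_fst, ← h₁, Category.assoc, whiskerLeft_fst]
          · rw [lift_snd]; exact h₂⟩⟩
    have sq₀ : IsPullback (pullback.snd (U ◁ a) (lift t s)) (i₀ ≫ snd U T') s a := by
      have := (IsPullback.of_hasPullback (U ◁ a) (lift t s)).flip.paste_vert sqa
      rwa [lift_snd] at this
    have sq₀' := sq₀.map (Over.forget S)
    have sq₂ : IsPullback c'.left (i₀ ≫ snd U T').left (i ≫ snd U T).left c.left :=
      sq₁.paste_vert sqp'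
    exact ⟨descend @Flat SpFP87.flat_descendsAlong sq₂
        (MorphismProperty.of_isPullback (P := @Flat) sq₀' ‹Flat s.left›),
      descend @Surjective inferInstance sq₂
        (MorphismProperty.of_isPullback (P := @Surjective) sq₀' ‹Surjective s.left›),
      descend @QuasiCompact Unr55.quasiCompact sq₂
        (MorphismProperty.of_isPullback (P := @QuasiCompact) sq₀' ‹QuasiCompact s.left›)⟩

variable (s t σ) in
/-- Sections of the quotient sheaf as stable subobjects of a given class. -/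
theorem quotSection_sub [IsEquivalenceRelation s t] [Flat s.left] [Surjective s.left] [QuasiCompact s.left]
    (P : MorphismProperty Scheme.{u}) [P.IsStableUnderBaseChange] [IsZariskiLocalAtTarget P]
    (hPd : P.DescendsAlong (@Surjective ⊓ @Flat ⊓ @QuasiCompact : MorphismProperty Scheme.{u}))
    (hmono : ∀ {A B : Scheme.{u}} (f : A ⟶ B), P f → Mono f)
    (hqa : ∀ {A B : Scheme.{u}} (f : A ⟶ B), P f → MoreMor.IsIndQuasiAffineHom f)
    (hj : P (lift t s).left) :
    (∃ (Z : Over S) (i : Z ⟶ U ⊗ T), P i.left ∧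
      (∀ (T' : Over S) (r : T' ⟶ R ⊗ T),
        (∃ z : T' ⟶ Z, z ≫ i = r ≫ (s ▷ T)) ↔ (∃ z : T' ⟶ Z, z ≫ i = r ≫ (t ▷ T))) ∧
      Flat (i ≫ snd U T).left ∧ Surjective (i ≫ snd U T).left ∧
      QuasiCompact (i ≫ snd U T).left ∧
      (∀ (T' : Over S) (z₁ z₂ : T' ⟶ Z), z₁ ≫ i ≫ snd U T = z₂ ≫ i ≫ snd U T →
        ∃ r : T' ⟶ R, r ≫ s = z₁ ≫ i ≫ fst U T ∧ r ≫ t = z₂ ≫ i ≫ fst U T) ∧
      QuotSh.repMap Scheme.fpqcPrecoverage (i ≫ fst U T) ≫ QuotSh.quotπ Scheme.fpqcPrecoverage s t =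
        QuotSh.repMap Scheme.fpqcPrecoverage (i ≫ snd U T) ≫ σ) := by
  obtain ⟨Z, i, hP, hi, hf, hs, hq⟩ := exists_sub s t σ P hPd hmono hqa hj
  have h0 : Pred s t σ i := (hi i).1 ⟨𝟙 _, Category.id_comp _⟩
  refine ⟨Z, i, hP, fun T' r => ?_, hf, hs, hq, fun T' z₁ z₂ h => ?_, ?_⟩
  · rw [hi, hi, pred_iff_eq, pred_iff_eq, Category.assoc, Category.assoc, Category.assoc, Category.assoc,
      whiskerRight_fst, whiskerRight_fst, whiskerRight_snd, whiskerRight_snd,
      (y S).map_comp r (fst R T ≫ s), (y S).map_comp r (fst R T ≫ t), (y S).map_comp _ s,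
      (y S).map_comp _ t]
    simp only [Category.assoc]
    rw [qπ_condition]
  · have h₁ := h0.comp z₁
    have h₂ := h0.comp z₂
    rw [pred_iff_eq, Category.assoc, Category.assoc] at h₁ h₂
    exact exists_rel_of_eq s t _ _ (by rw [h₁, h₂, h])
  · apply sec_inj
    rw [sec_repMap, sec_repMap]
    exact h0

end Groth.Agent.GrpQ80.Fpqc
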