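import Groth.Prelude.Def_AlgSp
import Mathlib.CategoryTheory.EquivalenceRelation

/-!
Equivalence relations in `Over S` as relations on points.
-/

set_option autoImplicit false

universe u

open CategoryTheory CategoryTheory.Limits AlgebraicGeometry

namespace Groth.Agent.GrpQ80

theorem isEqvRel_of_isEquivalenceRelation {S : Scheme.{u}} {R U : Over S} (s t : R ⟶ U)
    [h : IsEquivalenceRelation s t] : AlgSp.IsEqvRel s t := by
  obtain ⟨e⟩ := h.nonempty_equivalenceRelation
  refine ⟨fun T r r' h1 h2 => e.right_cancellation r r' h2 h1,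
    fun T => ⟨fun a => ⟨a ≫ e.r, by rw [Category.assoc, e.reflexivity₂, Category.comp_id],
        by rw [Category.assoc, e.reflexivity₁, Category.comp_id]⟩, ?_, ?_⟩⟩
  · rintro a b ⟨r, rfl, rfl⟩
    exact ⟨r ≫ e.s, by rw [Category.assoc, e.symmetry₂], by rw [Category.assoc, e.symmetry₁]⟩
  · rintro a b c ⟨r, rfl, h1⟩ ⟨r', h2, rfl⟩
    let k := PullbackCone.IsLimit.lift e.isLimit r' r (h2.trans h1.symm)
    refine ⟨k ≫ e.t, ?_, ?_⟩
    · rw [Category.assoc, e.transitivity₂, ← Category.assoc, PullbackCone.IsLimit.lift_snd]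
    · rw [Category.assoc, e.transitivity₁, ← Category.assoc, PullbackCone.IsLimit.lift_fst]

theorem exists_swap {S : Scheme.{u}} {R U : Over S} (s t : R ⟶ U) [h : IsEquivalenceRelation s t] :
    ∃ σ : R ≅ R, σ.hom ≫ s = t ∧ σ.hom ≫ t = s := by
  obtain ⟨e⟩ := h.nonempty_equivalenceRelation
  have hss : e.s ≫ e.s = 𝟙 R := e.right_cancellation _ _
    (by rw [Category.assoc, e.symmetry₁, e.symmetry₂, Category.id_comp])
    (by rw [Category.assoc, e.symmetry₂, e.symmetry₁, Category.id_comp])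
  exact ⟨⟨e.s, e.s, hss, hss⟩, e.symmetry₁, e.symmetry₂⟩

end Groth.Agent.GrpQ80
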