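import Groth.Prelude.Def_QuotSh
import Groth.Prelude.Def_CGrpSh
import Groth.Agent.Topos46.Quot
import Groth.Agent.SpFP87.FpqcTopSheaf
import Groth.Agent.SpFP87.RepDesc

/-!
Points of the fpqc quotient sheaf of an equivalence relation.
-/

set_option autoImplicit false
set_option backward.isDefEq.respectTransparency.types false
universe u

open CategoryTheory CategoryTheory.Limits AlgebraicGeometry Opposite

namespace Groth.Agent.GrpQ80.Fpqc

variable {S : Scheme.{u}}

local notation "Jq" => QuotSh.J Scheme.fpqcPrecoverage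

/-- The representable sheaves for the fpqc topology. -/
noncomputable abbrev y (S : Scheme.{u}) : Over S ⥤ QuotSh.Sh Scheme.fpqcPrecoverage S :=
  (Jq S).uliftYoneda.{u + 1}

instance preservesLimits_y {J' : Type} [SmallCategory J'] : PreservesLimitsOfShape J' (y S) := by
  have : PreservesLimitsOfShape J' ((Jq S).uliftYoneda.{u + 1} ⋙ sheafToPresheaf _ _) :=
    inferInstanceAs (PreservesLimitsOfShape J' (CategoryTheory.uliftYoneda.{u + 1}))
  exact preservesLimitsOfShape_of_reflects_of_preserves _ (sheafToPresheaf _ _)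

variable {R U : Over S} (s t : R ⟶ U)

/-- `rep` compared with the representable sheaf, naturally. -/
lemma repMap_iso {V W : Over S} (g : V ⟶ W) :
    QuotSh.repMap Scheme.fpqcPrecoverage g ≫
        (QuotSh.repIsoUliftYoneda Scheme.fpqcPrecoverage W).hom =
      (QuotSh.repIsoUliftYoneda Scheme.fpqcPrecoverage V).hom ≫ (y S).map g := by
  refine CategoryTheory.Sheaf.hom_ext (sheafify_hom_ext (J := Jq S) _ _ ((y S).obj W).property ?_)
  change toSheafify _ _ ≫ sheafifyMap _ (Functor.whiskerRight (yoneda.map g) uliftFunctor.{u + 1, u}) ≫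
      (isoSheafify (Jq S) ((y S).obj W).property).inv =
    toSheafify _ _ ≫ (isoSheafify (Jq S) ((y S).obj V).property).inv ≫ ((y S).map g).hom
  simp only [isoSheafify_inv, toSheafify_sheafifyLift_assoc, Category.id_comp]
  have h2 := congrArg (Functor.whiskerRight (yoneda.map g) uliftFunctor.{u + 1, u} ≫ ·)
    (toSheafify_sheafifyLift (Jq S) (𝟙 ((y S).obj W).obj) ((y S).obj W).property)
  have h3 := congrArg (· ≫ sheafifyLift (Jq S) (𝟙 ((y S).obj W).obj) ((y S).obj W).property)
    (toSheafify_naturality (Jq S) (Functor.whiskerRight (yoneda.map g) uliftFunctor.{u + 1, u}))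
  exact ((Category.assoc _ _ _).symm.trans h3.symm).trans
    ((Category.assoc _ _ _).trans (h2.trans (Category.comp_id _)))

/-- A section of a sheaf over a scheme, seen from the representable sheaf. -/
noncomputable def sec {T : Over S} {F : QuotSh.Sh Scheme.fpqcPrecoverage S}
    (σ : QuotSh.rep Scheme.fpqcPrecoverage T ⟶ F) : (y S).obj T ⟶ F :=
  (QuotSh.repIsoUliftYoneda Scheme.fpqcPrecoverage T).inv ≫ σ

lemma sec_repMap {V W : Over S} {F : QuotSh.Sh Scheme.fpqcPrecoverage S} (g : V ⟶ W)
    (σ : QuotSh.rep Scheme.fpqcPrecoverage W ⟶ F) :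
    sec (QuotSh.repMap Scheme.fpqcPrecoverage g ≫ σ) = (y S).map g ≫ sec σ := by
  rw [sec, sec, Iso.inv_comp_eq, ← Category.assoc, ← Category.assoc, ← repMap_iso, Category.assoc,
    Category.assoc, Iso.hom_inv_id_assoc]

lemma sec_inj {T : Over S} {F : QuotSh.Sh Scheme.fpqcPrecoverage S}
    {σ σ' : QuotSh.rep Scheme.fpqcPrecoverage T ⟶ F} (h : sec σ = sec σ') : σ = σ' :=
  (cancel_epi _).1 h

/-- The quotient map out of the representable sheaf. -/
noncomputable abbrev qπ : (y S).obj U ⟶ QuotSh.quot Scheme.fpqcPrecoverage s t :=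
  sec (QuotSh.quotπ Scheme.fpqcPrecoverage s t)

lemma qπ_condition : (y S).map s ≫ qπ s t = (y S).map t ≫ qπ s t := by
  rw [← sec_repMap, ← sec_repMap, QuotSh.quot_condition]

lemma epi_qπ : Epi (qπ s t) := by
  have : Epi (QuotSh.quotπ Scheme.fpqcPrecoverage s t) := coequalizer.π_epi
  exact epi_comp _ _

lemma isEquivalenceRelation_y [h : IsEquivalenceRelation s t] :
    IsEquivalenceRelation ((y S).map s) ((y S).map t) := by
  obtain ⟨e⟩ := h.nonempty_equivalenceRelation
  have : JointlyMono₂ s t := ⟨fun {_} f g => e.right_cancellation f g⟩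
  have hj := Topos46.jointlyMono₂_map s t (y S)
  have sq : IsPullback e.c.fst e.c.snd t s := IsPullback.of_isLimit e.isLimit
  exact ⟨⟨{ right_cancellation := hj.right_cancellation
            r := (y S).map e.r
            reflexivity₁ := by rw [← Functor.map_comp, e.reflexivity₁, CategoryTheory.Functor.map_id]
            reflexivity₂ := by rw [← Functor.map_comp, e.reflexivity₂, CategoryTheory.Functor.map_id]
            s := (y S).map e.s
            symmetry₁ := by rw [← Functor.map_comp, e.symmetry₁]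
            symmetry₂ := by rw [← Functor.map_comp, e.symmetry₂]
            c := (sq.map (y S)).cone
            isLimit := (sq.map (y S)).isLimit
            t := (y S).map e.t
            transitivity₁ := by
              change (y S).map e.t ≫ _ = (y S).map e.c.fst ≫ _
              rw [← Functor.map_comp, ← Functor.map_comp, e.transitivity₁]
            transitivity₂ := by
              change (y S).map e.t ≫ _ = (y S).map e.c.snd ≫ _
              rw [← Functor.map_comp, ← Functor.map_comp, e.transitivity₂] }⟩⟩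

theorem kernelPair [IsEquivalenceRelation s t] :
    IsPullback ((y S).map s) ((y S).map t) (qπ s t) (qπ s t) := by
  have := isEquivalenceRelation_y s t
  obtain ⟨⟨e⟩⟩ := (Topos46.isUniversallyEffective_sheaf
    ((y S).map s) ((y S).map t)).nonempty_universallyEffectiveEquivalenceRelation
  obtain ⟨d, hd⟩ := Cofork.IsColimit.desc' e.isCoequalizer (qπ s t) (qπ_condition s t)
  change e.π ≫ d = qπ s t at hd
  let d' : QuotSh.quot Scheme.fpqcPrecoverage s t ⟶ e.B :=
    coequalizer.desc ((QuotSh.repIsoUliftYoneda Scheme.fpqcPrecoverage U).hom ≫ e.π) (by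
      rw [← Category.assoc, ← Category.assoc, repMap_iso, repMap_iso,
        Category.assoc, Category.assoc, e.isKernelPair.w])
  have hd' : qπ s t ≫ d' = e.π := by
    rw [qπ, sec, Category.assoc, show QuotSh.quotπ Scheme.fpqcPrecoverage s t ≫ d' =
      (QuotSh.repIsoUliftYoneda Scheme.fpqcPrecoverage U).hom ≫ e.π from coequalizer.π_desc _ _,
      Iso.inv_hom_id_assoc]
  have := epi_qπ s t
  let i : e.B ≅ QuotSh.quot Scheme.fpqcPrecoverage s t :=
    ⟨d, d', Cofork.IsColimit.hom_ext e.isCoequalizer (by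
        change e.π ≫ d ≫ d' = e.π ≫ 𝟙 _
        rw [← Category.assoc, hd, hd', Category.comp_id]),
      by rw [← cancel_epi (qπ s t), ← Category.assoc, hd', hd, Category.comp_id]⟩
  exact IsPullback.of_iso e.isKernelPair (Iso.refl _) (Iso.refl _) (Iso.refl _) i
    (by simp) (by simp) (by simp [i, hd]) (by simp [i, hd])

/-- Points with the same image in the quotient are related. -/
theorem exists_rel_of_eq [IsEquivalenceRelation s t] {W : Over S} (a b : W ⟶ U)
    (h : (y S).map a ≫ qπ s t = (y S).map b ≫ qπ s t) : ∃ r, r ≫ s = a ∧ r ≫ t = b := by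
  obtain ⟨r, hr⟩ := (y S).map_surjective ((kernelPair s t).lift _ _ h)
  exact ⟨r, (y S).map_injective (by rw [Functor.map_comp, hr, IsPullback.lift_fst]),
    (y S).map_injective (by rw [Functor.map_comp, hr, IsPullback.lift_snd])⟩

/-- Maps out of a representable sheaf are determined on an fpqc covering family. -/
theorem hom_ext_of_family {F : QuotSh.Sh Scheme.fpqcPrecoverage S} {T : Over S} {ι : Type*}
    (V : ι → Over S) (c : ∀ i, V i ⟶ T)
    (hc : Presieve.ofArrows (fun i => (V i).left) (fun i => (c i).left) ∈ Scheme.fpqcPrecoverage T.left)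
    {a b : (y S).obj T ⟶ F} (h : ∀ i, (y S).map (c i) ≫ a = (y S).map (c i) ≫ b) : a = b := by
  have hR : Sieve.generate (Presieve.ofArrows V c) ∈ Jq S T := by
    rw [GrothendieckTopology.mem_over_iff]
    refine GrothendieckTopology.superset_covering _ ?_ (Precoverage.generate_mem_toGrothendieck hc)
    rw [Sieve.generate_le_iff]
    rintro _ _ ⟨i⟩
    exact (Sieve.overEquiv_iff _ _).2 ⟨V i, Over.homMk (𝟙 _) (by
      simp only [Category.id_comp, Over.mk_hom]; exact (Over.w (c i)).symm), c i, ⟨i⟩, by
      ext; simp⟩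
  apply (Jq S).uliftYonedaEquiv.injective
  refine (((isSheaf_iff_isSheaf_of_type _ _).1 F.property).isSeparated _ hR).ext ?_
  rintro W f ⟨Z, k, g, ⟨i⟩, rfl⟩
  rw [GrothendieckTopology.uliftYonedaEquiv_naturality, GrothendieckTopology.uliftYonedaEquiv_naturality,
    Functor.map_comp, Category.assoc, Category.assoc, h i]

/-- Maps out of a representable sheaf are determined on an fpqc covering morphism. -/
theorem hom_ext_of_fpqcMor {F : QuotSh.Sh Scheme.fpqcPrecoverage S} {T T' : Over S} (c : T' ⟶ T)
    [hc : Desc59.IsFpqcMor c.left] {a b : (y S).obj T ⟶ F}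
    (h : (y S).map c ≫ a = (y S).map c ≫ b) : a = b := by
  refine hom_ext_of_family (fun _ : PUnit.{u + 2} => T') (fun _ => c) ?_ fun _ => h
  rw [Presieve.ofArrows_pUnit]
  exact hc.mem

/-- Sections of the quotient lift along an fpqc covering morphism. -/
theorem exists_lift {T : Over S}
    (σ : (y S).obj T ⟶ QuotSh.quot Scheme.fpqcPrecoverage s t) :
    ∃ (T' : Over S) (c : T' ⟶ T) (a : T' ⟶ U), Flat c.left ∧ Surjective c.left ∧
      Desc59.IsFpqcMor c.left ∧ (y S).map a ≫ qπ s t = (y S).map c ≫ σ := by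
  have := epi_qπ s t
  have : Sheaf.IsLocallySurjective (qπ s t) := (Sheaf.isLocallySurjective_iff_epi _).2 inferInstance
  obtain ⟨n, V, v, hV, hv, hrange, hcov, hvR⟩ := SpFP87.exists_affines_of_mem_fpqc (T := T)
    (R := Presheaf.imageSieve (qπ s t).hom ((Jq S).uliftYonedaEquiv σ))
    (Presheaf.imageSieve_mem (Jq S) (qπ s t).hom _)
  choose a ha using hvR
  have key : ∀ i, (y S).map (a i).down ≫ qπ s t = (y S).map (v i) ≫ σ := fun i => by
    apply (Jq S).uliftYonedaEquiv.injective
    rw [GrothendieckTopology.uliftYonedaEquiv_comp,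
      GrothendieckTopology.uliftYonedaEquiv_uliftYoneda_map, ← GrothendieckTopology.uliftYonedaEquiv_naturality]
    exact ha i
  let c : SpFP87.sigmaOver V ⟶ T := Over.homMk (Sigma.desc fun i => (v i).left) (by
    change Sigma.desc _ ≫ T.hom = Sigma.desc _
    apply Sigma.hom_ext
    intro i
    simp)
  let u : SpFP87.sigmaOver V ⟶ U := Over.homMk (Sigma.desc fun i => (a i).down.left) (by
    change Sigma.desc _ ≫ U.hom = Sigma.desc _
    apply Sigma.hom_ext
    intro i
    simp)
  have hc : ∀ i, SpFP87.sigmaIncl V i ≫ c = v i := fun i =>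
    Over.OverMorphism.ext (Sigma.ι_desc (fun i => (v i).left) i)
  have hu : ∀ i, SpFP87.sigmaIncl V i ≫ u = (a i).down := fun i =>
    Over.OverMorphism.ext (Sigma.ι_desc (fun i => (a i).down.left) i)
  have : Flat c.left := by
    have : IsZariskiLocalAtSource (@Flat : MorphismProperty Scheme.{u}) :=
      HasRingHomProperty.instIsZariskiLocalAtSource (Q := RingHom.Flat)
    exact IsZariskiLocalAtSource.sigmaDesc (P := (@Flat : MorphismProperty Scheme.{u})) hv
  have : Surjective c.left := ⟨fun x => by
    obtain ⟨W, hW, hx, -⟩ := exists_isAffineOpen_mem_and_subset (U := (⊤ : T.left.Opens)) (x := x) trivial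
    obtain ⟨k, z, hz⟩ := hcov ⟨W, hW⟩ x hx
    refine ⟨(SpFP87.sigmaIncl V ⟨⟨W, hW⟩, k⟩).left z, ?_⟩
    rw [← Scheme.Hom.comp_apply, ← Over.comp_left, hc]
    exact hz⟩
  refine ⟨_, c, u, ‹_›, ‹_›, SpFP87.isFpqcMor_sigma V c fun W hW => ⟨n ⟨W, hW⟩,
    fun k => ⟨⟨W, hW⟩, k⟩, fun k => hV _, ?_⟩, ?_⟩
  · simp only [hc]
    exact Set.Subset.antisymm (fun x hx => Set.mem_iUnion.2 (hcov ⟨W, hW⟩ x hx))
      (Set.iUnion_subset fun k => hrange ⟨⟨W, hW⟩, k⟩)
  · refine hom_ext_of_family V (SpFP87.sigmaIncl V) ?_ fun i => ?_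
    · exact Scheme.zariskiPrecoverage_le_fpqcPrecoverage _
        (sigmaOpenCover fun i => (V i).left).mem₀
    · rw [← Functor.map_comp_assoc, ← Functor.map_comp_assoc, hu, hc]
      exact key i

end Groth.Agent.GrpQ80.Fpqc
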