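import Groth.Agent.GrpQ80.SliceAlg
import Groth.Agent.Grpd80.InvOpen
import Groth.Agent.Grpd80.FiniteInAffine
import Groth.Agent.SpPts86.FppfLocal
import Groth.Agent.SpPts86.Finite
import Groth.Agent.S2080
import Groth.Prelude.Def_Mor2

/-!
Saturated opens with a quasi-section: the generic slice of a flat groupoid with quasi-finite
diagonal.
-/

set_option autoImplicit false
set_option linter.unusedSectionVars false
set_option backward.isDefEq.respectTransparency.types false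

universe u

open CategoryTheory CategoryTheory.Limits AlgebraicGeometry TopologicalSpace

namespace Groth.Agent.GrpQ80

open Groth.Agent.Grpd80

lemma morphismRestrict_congr {P : MorphismProperty Scheme.{u}} [P.RespectsIso] {X₁ X Y : Scheme.{u}}
    (l : X₁ ⟶ X) [IsOpenImmersion l] (f : X ⟶ Y) (W : Y.Opens)
    (h : (f ⁻¹ᵁ W : Set X) ⊆ Set.range l) :
    P (f ∣_ W) ↔ P ((l ≫ f) ∣_ W) := by
  have hs : Surjective (l ∣_ (f ⁻¹ᵁ W)) := ⟨by
    intro z
    obtain ⟨x, hx⟩ := h z.2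
    refine ⟨⟨x, show l x ∈ f ⁻¹ᵁ W by rw [hx]; exact z.2⟩, Subtype.ext ?_⟩
    rw [morphismRestrict_base_coe]; exact hx⟩
  have : IsIso (l ∣_ (f ⁻¹ᵁ W)) :=
    (isIso_iff_isOpenImmersion_and_epi_base _).2 ⟨inferInstance, (TopCat.epi_iff_surjective _).2 hs.1⟩
  rw [morphismRestrict_comp]
  exact (P.cancel_left_of_respectsIso (l ∣_ (f ⁻¹ᵁ W)) (f ∣_ W)).symm

variable {S : Scheme.{u}} (G : Grpd.GroupoidScheme S)

/-- Finite, flat and locally of finite presentation. -/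
abbrev finLF : MorphismProperty Scheme.{u} := AlgSp.finLocFree

/-- A saturated open over which there is a quasi-section. -/
def HasQS (W : G.U.Opens) : Prop :=
  G.t ⁻¹ᵁ W = G.s ⁻¹ᵁ W ∧ ∃ (U' : Scheme.{u}) (u : U' ⟶ G.U) (_ : IsImmersion u),
    Set.range u ⊆ W ∧ Mor2.IsFinLocFree ((pullback.fst G.t u ≫ G.s) ∣_ W) ∧
    (W : Set G.U) ⊆ Set.range (pullback.fst G.t u ≫ G.s) ∧
    ∀ E : Set U', (∀ x ∈ E, ∀ y ∈ E, ∃ r : G.R, G.t r = u x ∧ G.s r = u y) →
      ∃ Ω : U'.Opens, IsAffineOpen Ω ∧ E ⊆ (Ω : Set U')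

/-- The pullback square of rings for a quotient. -/
lemma isPushout_quotient {A N : Type u} [CommRing A] [CommRing N] (t : A →+* N) (I : Ideal A) :
    IsPushout (CommRingCat.ofHom t) (CommRingCat.ofHom (Ideal.Quotient.mk I))
      (CommRingCat.ofHom (Ideal.Quotient.mk (I.map t)))
      (CommRingCat.ofHom (Ideal.quotientMap (I.map t) t Ideal.le_comap_map)) := by
  refine ⟨⟨by ext a; rfl⟩, ⟨PushoutCocone.IsColimit.mk _
    (fun c => CommRingCat.ofHom (Ideal.Quotient.lift (I.map t) c.inl.hom fun x hx => ?_))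
    (fun c => by ext a; rfl) (fun c => ?_) fun c m h₁ _ => ?_⟩⟩
  · suffices h : I.map t ≤ RingHom.ker c.inl.hom from h hx
    rw [Ideal.map_le_iff_le_comap]
    intro a ha
    have := congr(($c.condition).hom a)
    change c.inl.hom (t a) = 0
    refine this.trans ?_
    change c.inr.hom (Ideal.Quotient.mk I a) = 0
    rw [Ideal.Quotient.eq_zero_iff_mem.2 ha, map_zero]
  · ext a
    exact congr(($c.condition).hom a)
  · ext a
    exact congr(($h₁).hom a)

lemma isPullback_comp_mono {C : Type*} [Category C] {P X Y Z W : C} {a : P ⟶ X} {b : P ⟶ Y} {f : X ⟶ Z}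
    {g : Y ⟶ Z} (h : IsPullback a b f g) (i : Z ⟶ W) [Mono i] : IsPullback a b (f ≫ i) (g ≫ i) :=
  ⟨⟨by rw [reassoc_of% h.w]⟩, ⟨PullbackCone.IsLimit.mk _
    (fun c => h.lift c.fst c.snd (by rw [← cancel_mono i, Category.assoc, Category.assoc]; exact c.condition))
    (fun c => h.lift_fst _ _ _) (fun c => h.lift_snd _ _ _)
    (fun c m h₁ h₂ => h.hom_ext (h₁.trans (h.lift_fst _ _ _).symm) (h₂.trans (h.lift_snd _ _ _).symm))⟩⟩

lemma finLF_mono {X Y : Scheme.{u}} (f : X ⟶ Y) {V W : Y.Opens} (h : finLF (f ∣_ V)) (hle : W ≤ V) :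
    finLF (f ∣_ W) := by
  refine (finLF.arrow_mk_iso_iff (morphismRestrictRestrict f V (V.ι ⁻¹ᵁ W) ≪≫
    morphismRestrictEq f ?_)).1 (IsZariskiLocalAtTarget.restrict h _)
  rw [Scheme.Hom.image_preimage_eq_opensRange_inf, Scheme.Opens.opensRange_ι, inf_eq_right]
  exact hle

/-- A finite morphism which is flat near a fibre is finite locally free near the point. -/
lemma exists_finLF_nhd_fp {X Y : Scheme.{u}} (f : X ⟶ Y) [LocallyOfFinitePresentation f]
    (η : Y) (V : Y.Opens) (hηV : η ∈ V) [IsFinite (f ∣_ V)]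
    (h : ∀ x, f x = η → ∃ O : X.Opens, x ∈ O ∧ Flat (O.ι ≫ f)) :
    ∃ W : Y.Opens, η ∈ W ∧ finLF (f ∣_ W) := by
  choose O hxO hO using h
  let Oall : X.Opens := ⨆ x : {x // f x = η}, O x.1 x.2
  let K : Set V := (f ∣_ V) '' {z | z.1 ∉ Oall}
  have hK : IsClosed K := (f ∣_ V).isClosedMap _ ((Oall.2.preimage continuous_subtype_val).isClosed_compl)
  let W₁ : Y.Opens := ⟨V.ι '' Kᶜ, V.ι.isOpenEmbedding.isOpenMap _ hK.isOpen_compl⟩
  have hW₁V : W₁ ≤ V := by rintro _ ⟨v, -, rfl⟩; exact v.2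
  refine ⟨W₁, ⟨⟨η, hηV⟩, ?_, rfl⟩, ?_, ?_, ?_⟩
  · rintro ⟨z, hz, hze⟩
    have : f z.1 = η := by
      have := congrArg Subtype.val hze
      rwa [morphismRestrict_base_coe] at this
    exact hz (Opens.mem_iSup.2 ⟨⟨z.1, this⟩, hxO _ _⟩)
  · refine (MorphismProperty.arrow_mk_iso_iff (@IsFinite : MorphismProperty Scheme.{u})
      (morphismRestrictRestrict f V (V.ι ⁻¹ᵁ W₁) ≪≫ morphismRestrictEq f ?_)).1
      (IsZariskiLocalAtTarget.restrict ‹IsFinite (f ∣_ V)› _)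
    rw [Scheme.Hom.image_preimage_eq_opensRange_inf, Scheme.Opens.opensRange_ι, inf_eq_right]
    exact hW₁V
  · have hsub : f ⁻¹ᵁ W₁ ≤ Oall := by
      rintro x ⟨v, hv, hve⟩
      by_contra hn
      refine hv ⟨⟨x, show f x ∈ V by rw [← hve]; exact v.2⟩, hn, Subtype.ext ?_⟩
      rw [morphismRestrict_base_coe]; exact hve.symm
    have : Flat (Oall.ι ≫ f) := by
      refine IsZariskiLocalAtSource.of_openCover (P := @Flat)
        (Scheme.openCoverOfIsOpenCover _ (fun x : {x // f x = η} => Oall.ι ⁻¹ᵁ O x.1 x.2)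
          (TopologicalSpace.IsOpenCover.mk (by rw [← Scheme.Hom.preimage_iSup]; exact Oall.ι_preimage_self)))
        fun x => ?_
      change Flat ((Oall.ι ⁻¹ᵁ O x.1 x.2).ι ≫ Oall.ι ≫ f)
      rw [← morphismRestrict_ι_assoc]
      have := hO x.1 x.2
      infer_instance
    have : Flat ((f ∣_ W₁) ≫ W₁.ι) := by
      rw [morphismRestrict_ι, ← Scheme.homOfLE_ι _ hsub, Category.assoc]; infer_instance
    exact MorphismProperty.of_postcomp @Flat (W' := @IsOpenImmersion) _ W₁.ι inferInstance this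
  · infer_instance

/-- A finite morphism which is flat near a fibre is finite locally free near the point, Noetherian base. -/
lemma exists_finLF_nhd {X Y : Scheme.{u}} [IsLocallyNoetherian Y] (f : X ⟶ Y) [LocallyOfFiniteType f]
    (η : Y) (V : Y.Opens) (hηV : η ∈ V) [IsFinite (f ∣_ V)]
    (h : ∀ x, f x = η → ∃ O : X.Opens, x ∈ O ∧ Flat (O.ι ≫ f)) :
    ∃ W : Y.Opens, η ∈ W ∧ finLF (f ∣_ W) :=
  have : LocallyOfFinitePresentation f := LocallyOfFinitePresentation.iff_locallyOfFiniteType.2 inferInstance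
  exists_finLF_nhd_fp f η V hηV h

/-- The chart of a slice over an affine open of arrows. -/
lemma exists_chart {B : G.U.Opens} (hB : IsAffineOpen B) {V : G.R.Opens} (hV : IsAffineOpen V)
    (e : V ≤ G.t ⁻¹ᵁ B) (I : Ideal Γ(G.U, B)) :
    ∃ ε : Spec (.of (Γ(G.R, V) ⧸ I.map (G.t.appLE B V e).hom)) ⟶
        pullback G.t (Spec.map (CommRingCat.ofHom (Ideal.Quotient.mk I)) ≫ hB.fromSpec),
      IsOpenImmersion ε ∧
      ε ≫ pullback.fst _ _ =
        Spec.map (CommRingCat.ofHom (Ideal.Quotient.mk (I.map (G.t.appLE B V e).hom))) ≫ hV.fromSpec ∧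
      ∀ x, pullback.fst G.t (Spec.map (CommRingCat.ofHom (Ideal.Quotient.mk I)) ≫ hB.fromSpec) x ∈ V →
        x ∈ Set.range ε := by
  let tC := G.t.appLE B V e
  let u₀ := Spec.map (CommRingCat.ofHom (Ideal.Quotient.mk I)) ≫ hB.fromSpec
  have sq := isPullback_comp_mono
    (isPullback_SpecMap_of_isPushout _ _ _ _ (isPushout_quotient tC.hom I)) hB.fromSpec
  rw [CommRingCat.ofHom_hom, show Spec.map tC ≫ hB.fromSpec = hV.fromSpec ≫ G.t from
    IsAffineOpen.SpecMap_appLE_fromSpec G.t hB hV e] at sq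
  let ε := pullback.lift (f := G.t) (g := u₀) _ _ ((Category.assoc _ _ _).trans sq.w)
  have sq' : IsPullback ε (Spec.map (CommRingCat.ofHom (Ideal.Quotient.mk (I.map tC.hom))))
      (pullback.fst G.t u₀) hV.fromSpec :=
    IsPullback.of_right (by simpa only [ε, pullback.lift_snd] using sq.flip)
      (pullback.lift_fst _ _ _) (IsPullback.of_hasPullback G.t u₀).flip
  refine ⟨ε, MorphismProperty.of_isPullback (P := @IsOpenImmersion) sq'.flip inferInstance,
    pullback.lift_fst _ _ _, fun x hx => ?_⟩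
  obtain ⟨z, hz, -⟩ := Scheme.exists_preimage_of_isPullback sq' x
    (hV.primeIdealOf ⟨_, hx⟩) (hV.fromSpec_primeIdealOf ⟨_, hx⟩).symm
  exact ⟨z, hz⟩

/-- The largest open over which the sources of arrows into a subscheme form a finite locally free
cover is invariant. -/
lemma exists_largest_finLF [Flat G.s] [LocallyOfFinitePresentation G.s] {U' : Scheme.{u}} (u : U' ⟶ G.U) :
    ∃ Wp : G.U.Opens, finLF ((pullback.fst G.t u ≫ G.s) ∣_ Wp) ∧
      (∀ W : G.U.Opens, finLF ((pullback.fst G.t u ≫ G.s) ∣_ W) → W ≤ Wp) ∧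
      G.s ⁻¹ᵁ Wp = G.t ⁻¹ᵁ Wp := by
  let σ₀ := pullback.fst G.t u ≫ G.s
  have : MorphismProperty.DescendsAlong finLF SpPts86.fppfMor := SpPts86.finLocFree_descends
  have hloc : finLF.IsLocalAtTarget (Scheme.precoverage (@Flat ⊓ @LocallyOfFinitePresentation)) :=
    SpPts86.isLocalAtTarget_fppf _
  let Wp : G.U.Opens := ⨆ W : {W : G.U.Opens // finLF (σ₀ ∣_ W)}, W.1
  have hWp : finLF (σ₀ ∣_ Wp) := by
    refine IsZariskiLocalAtTarget.of_iSup_eq_top (P := finLF)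
      (fun W : {W : G.U.Opens // finLF (σ₀ ∣_ W)} => Wp.ι ⁻¹ᵁ W.1) ?_ fun W => ?_
    · rw [← Scheme.Hom.preimage_iSup]; exact Wp.ι_preimage_self
    · refine (finLF.arrow_mk_iso_iff (morphismRestrictRestrict σ₀ Wp (Wp.ι ⁻¹ᵁ W.1) ≪≫
        morphismRestrictEq σ₀ ?_)).mpr W.2
      rw [Scheme.Hom.image_preimage_eq_opensRange_inf, Scheme.Opens.opensRange_ι, inf_eq_right]
      exact le_iSup (fun W : {W : G.U.Opens // finLF (σ₀ ∣_ W)} => W.1) W
  have hmax : ∀ W : G.U.Opens, finLF (σ₀ ∣_ W) → W ≤ Wp := fun W hW =>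
    le_iSup (fun W : {W : G.U.Opens // finLF (σ₀ ∣_ W)} => W.1) ⟨W, hW⟩
  refine ⟨Wp, hWp, hmax, ?_⟩
  let ρ : pullback (pullback.fst G.s G.t ≫ G.t) u ⟶ pullback G.s G.t := pullback.fst _ _
  let π : pullback (pullback.fst G.s G.t ≫ G.t) u ⟶ U' := pullback.snd _ _
  have hout : IsPullback π ρ u (pullback.fst G.s G.t ≫ G.t) := (IsPullback.of_hasPullback _ _).flip
  have hc : G.c ≫ G.t = pullback.fst G.s G.t ≫ G.t := by rw [c_eq_mul G, mul_t]
  let b := pullback.lift (f := G.t) (g := u) (ρ ≫ pullback.fst G.s G.t) π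
    (by rw [Category.assoc]; exact pullback.condition)
  let a := pullback.lift (f := G.t) (g := u) (ρ ≫ G.c) π
    (by rw [Category.assoc, hc]; exact pullback.condition)
  have hb1 : IsPullback b ρ (pullback.fst G.t u) (pullback.fst G.s G.t) :=
    IsPullback.of_right (by simpa only [b, pullback.lift_snd] using hout)
      (pullback.lift_fst _ _ _) (IsPullback.of_hasPullback G.t u).flip
  have ha1 : IsPullback a ρ (pullback.fst G.t u) G.c :=
    IsPullback.of_right (by rw [hc]; simpa only [a, pullback.lift_snd] using hout)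
      (pullback.lift_fst _ _ _) (IsPullback.of_hasPullback G.t u).flip
  exact Grpd80.largest_open_invariant G (@Flat ⊓ @LocallyOfFinitePresentation)
    (fun _ h => ⟨inferInstance, inferInstance⟩) finLF ⟨inferInstance, inferInstance⟩
    ⟨inferInstance, inferInstance⟩ G.t.isOpenMap σ₀ (ρ ≫ pullback.snd G.s G.t) a b
    (ha1.paste_vert (Grpd80.isPullback_c_snd G))
    (hb1.paste_vert (IsPullback.of_hasPullback G.s G.t)) Wp hWp hmax

/-- A quasi-section from an immersion out of a quasi-affine scheme. -/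
lemma hasQS_of_finLF {U₀ : Scheme.{u}} [IsAffine U₀] [IsNoetherian U₀] (u₀ : U₀ ⟶ G.U) [IsImmersion u₀]
    (W : G.U.Opens) (hWW : G.t ⁻¹ᵁ W = G.s ⁻¹ᵁ W) (hP : finLF ((pullback.fst G.t u₀ ≫ G.s) ∣_ W))
    (hsurj : ∀ y ∈ W, ∃ x, (pullback.fst G.t u₀ ≫ G.s) x = y) : HasQS G W := by
  let σ₀ := pullback.fst G.t u₀ ≫ G.s
  have hsat : ∀ r : G.R, G.t r ∈ W ↔ G.s r ∈ W := fun r => SetLike.ext_iff.mp hWW r
  let Ω := u₀ ⁻¹ᵁ W
  let l := pullback.map G.t (Ω.ι ≫ u₀) G.t u₀ (𝟙 _) Ω.ι (𝟙 _) (by simp) (by simp)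
  have hlift : l ≫ σ₀ = pullback.fst G.t (Ω.ι ≫ u₀) ≫ G.s := by
    simp [σ₀, l, pullback.map, pullback.lift_fst_assoc]
  have hl : (σ₀ ⁻¹ᵁ W : Set _) ⊆ Set.range l := by
    intro x hx
    rw [Scheme.Pullback.range_map, Set.mem_inter_iff]
    refine ⟨⟨_, rfl⟩, ⟨pullback.snd G.t u₀ x, ?_⟩, rfl⟩
    change u₀ (pullback.snd G.t u₀ x) ∈ W
    rw [← Scheme.Hom.comp_apply, ← pullback.condition, Scheme.Hom.comp_apply]
    exact (hsat _).2 hx
  refine ⟨hWW, Ω, Ω.ι ≫ u₀, inferInstance, ?_, ?_, ?_, ?_⟩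
  · rintro _ ⟨x, rfl⟩; exact x.2
  · rw [← hlift]
    exact (morphismRestrict_congr (P := finLF) l σ₀ W hl).1 hP
  · intro y hy
    obtain ⟨x, hx⟩ := hsurj y hy
    obtain ⟨z, hz⟩ := hl (show σ₀ x ∈ W by rw [hx]; exact hy)
    exact ⟨z, by rw [← hlift, Scheme.Hom.comp_apply, hz]; exact hx⟩
  · intro E hE
    have : CompactSpace Ω := isCompact_iff_compactSpace.1 (TopologicalSpace.NoetherianSpace.isCompact _)
    have : Scheme.IsQuasiAffine Ω.toScheme := Scheme.IsQuasiAffine.of_isImmersion Ω.ι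
    refine exists_affine_of_qa ?_
    rcases E.eq_empty_or_nonempty with rfl | ⟨y, hy⟩
    · exact Set.finite_empty
    have : IsFinite (σ₀ ∣_ W) := hP.1
    have hyW : u₀ y.1 ∈ W := y.2
    have hFin : (σ₀ ⁻¹' {u₀ y.1}).Finite := by
      have := ((σ₀ ∣_ W).finite_preimage_singleton ⟨u₀ y.1, hyW⟩).image Subtype.val
      refine this.subset fun x hx => ⟨⟨x, show σ₀ x ∈ W from hx ▸ hyW⟩, Subtype.ext ?_, rfl⟩
      rw [morphismRestrict_base_coe]; exact hx
    refine ((hFin.image (pullback.snd G.t u₀)).preimage Subtype.val_injective.injOn).subset fun x hx => ?_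
    obtain ⟨r, hr1, hr2⟩ := hE x hx y hy
    obtain ⟨z, hz1, hz2⟩ := Scheme.Pullback.exists_preimage_pullback (f := G.t) (g := u₀) r x.1 hr1
    refine ⟨z, ?_, hz2⟩
    change σ₀ z = u₀ y.1
    rw [Scheme.Hom.comp_apply, hz1]
    exact hr2

/-- Every nonempty saturated open contains a nonempty saturated open with a quasi-section. -/
theorem exists_hasQS [IsNoetherian S] [Flat G.s] [LocallyOfFiniteType G.s] [QuasiCompact G.s]
    [LocallyOfFiniteType G.pU] [QuasiCompact G.pU] [LocallyQuasiFinite G.j]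
    (W₀ : G.U.Opens) (hW₀ : G.t ⁻¹ᵁ W₀ = G.s ⁻¹ᵁ W₀) (hne : (W₀ : Set G.U).Nonempty) :
    ∃ W : G.U.Opens, W ≤ W₀ ∧ (W : Set G.U).Nonempty ∧ HasQS G W := by
  have : IsLocallyNoetherian G.U := LocallyOfFiniteType.isLocallyNoetherian G.pU
  have : CompactSpace G.U := QuasiCompact.compactSpace_of_compactSpace G.pU
  have : IsNoetherian G.U := {}
  have : IsLocallyNoetherian G.R := LocallyOfFiniteType.isLocallyNoetherian G.s
  have : CompactSpace G.R := QuasiCompact.compactSpace_of_compactSpace G.s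
  have : IsNoetherian G.R := {}
  -- a maximal point
  obtain ⟨x₀, hx₀⟩ := hne
  obtain ⟨Z, hZ, hxZ⟩ : ∃ Z ∈ irreducibleComponents (G.U : Type u), x₀ ∈ Z :=
    ⟨_, irreducibleComponent_mem_irreducibleComponents x₀, mem_irreducibleComponent⟩
  obtain ⟨η, hη⟩ := QuasiSober.sober hZ.1 (isClosed_of_mem_irreducibleComponents Z hZ)
  have hηW : η ∈ W₀ := (hη.specializes hxZ).mem_open W₀.2 hx₀
  have hcl : closure {η} ∈ irreducibleComponents (G.U : Type u) := by
    rw [hη.def]; exact hZ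
  -- affine opens
  obtain ⟨_, ⟨S₀, hS₀, rfl⟩, hηS, -⟩ :=
    S.isBasis_affineOpens.exists_subset_of_mem_open (Set.mem_univ (G.pU η)) isOpen_univ
  obtain ⟨_, ⟨B, hB, rfl⟩, hηB, hBle⟩ :=
    G.U.isBasis_affineOpens.exists_subset_of_mem_open (show η ∈ (W₀ ⊓ G.pU ⁻¹ᵁ S₀ : G.U.Opens) from ⟨hηW, hηS⟩)
      (W₀ ⊓ G.pU ⁻¹ᵁ S₀).2
  replace hB : IsAffineOpen B := hB
  replace hS₀ : IsAffineOpen S₀ := hS₀
  let A := Γ(G.U, B)
  have : IsNoetherianRing A := IsLocallyNoetherian.component_noetherian ⟨B, hB⟩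
  let pη := hB.primeIdealOf ⟨η, hηB⟩
  have hpη : hB.fromSpec pη = η := hB.fromSpec_primeIdealOf ⟨η, hηB⟩
  have hmin : pη.asIdeal ∈ minimalPrimes A := by
    refine ⟨⟨pη.2, bot_le⟩, fun q hq hqp => ?_⟩
    have hsp : hB.fromSpec ⟨q, hq.1⟩ ⤳ η := by
      rw [← hpη]
      exact ((PrimeSpectrum.le_iff_specializes ⟨q, hq.1⟩ pη).1 hqp).map hB.fromSpec.continuous
    have h1 : closure {η} ⊆ closure {hB.fromSpec ⟨q, hq.1⟩} :=
      closure_minimal (Set.singleton_subset_iff.2 hsp.mem_closure) isClosed_closure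
    have h2 := hcl.2 (isIrreducible_singleton.closure) h1
    have h3 : hB.fromSpec ⟨q, hq.1⟩ = η := (hsp.antisymm (specializes_iff_mem_closure.2
      (h2 (subset_closure rfl)))).eq
    rw [← hpη] at h3
    exact (congrArg PrimeSpectrum.asIdeal (hB.fromSpec.isOpenEmbedding.injective h3)).ge
  -- the affine pieces of the arrows
  obtain ⟨κ, hκ, hcover⟩ := (isCompact_and_isOpen_iff_finite_and_eq_biUnion_affineOpens (X := G.R)).1
    ⟨(TopologicalSpace.NoetherianSpace.isCompact _), ((G.t ⁻¹ᵁ B) ⊓ (G.s ⁻¹ᵁ B)).2⟩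
  have : Finite κ := hκ.to_subtype
  have hVle : ∀ k : κ, k.1.1 ≤ G.t ⁻¹ᵁ B ⊓ G.s ⁻¹ᵁ B := fun k x hx => by
    exact hcover.ge (Set.mem_biUnion k.2 hx)
  have hcov : ∀ r : G.R, G.t r ∈ B → G.s r ∈ B → ∃ k : κ, r ∈ k.1.1 := fun r h1 h2 => by
    have : r ∈ ((G.t ⁻¹ᵁ B ⊓ G.s ⁻¹ᵁ B : G.R.Opens) : Set G.R) := ⟨h1, h2⟩
    obtain ⟨k, hk, hrk⟩ := Set.mem_iUnion₂.1 (hcover.le this)
    exact ⟨⟨k, hk⟩, hrk⟩
  let N : κ → Type u := fun k => Γ(G.R, k.1.1)
  let tC : ∀ k : κ, A ⟶ Γ(G.R, k.1.1) := fun k => G.t.appLE B k.1.1 ((hVle k).trans inf_le_left)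
  let sC : ∀ k : κ, A ⟶ Γ(G.R, k.1.1) := fun k => G.s.appLE B k.1.1 ((hVle k).trans inf_le_right)
  -- quasi-finiteness over the square
  let eS : B ≤ G.pU ⁻¹ᵁ S₀ := hBle.trans inf_le_right
  let : Algebra Γ(S, S₀) A := (G.pU.appLE S₀ B eS).hom.toAlgebra
  have hqf : ∀ k : κ, ∃ (T : Type u) (_ : CommRing T) (ψ : T →+* N k),
      ψ.QuasiFinite ∧ ψ.range ≤ (tC k).hom.range ⊔ (sC k).hom.range := by
    intro k
    have hover : G.pU.appLE S₀ B eS ≫ tC k = G.pU.appLE S₀ B eS ≫ sC k := by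
      simp only [tC, sC, Scheme.Hom.appLE_comp_appLE, G.t_over, G.s_over]
    let : Algebra Γ(S, S₀) (N k) := ((sC k).hom.comp (algebraMap Γ(S, S₀) A)).toAlgebra
    let ta : (A : Type u) →ₐ[Γ(S, S₀)] N k := { (tC k).hom with commutes' := fun a => congr(($hover).hom a) }
    let sa : (A : Type u) →ₐ[Γ(S, S₀)] N k := { (sC k).hom with commutes' := fun a => rfl }
    let ψ := Algebra.TensorProduct.productMap ta sa
    refine ⟨TensorProduct Γ(S, S₀) A A, inferInstance, ψ.toRingHom, ?_, ?_⟩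
    · have hfs : Spec.map (CommRingCat.ofHom (algebraMap Γ(S, S₀) A)) ≫ hS₀.fromSpec = hB.fromSpec ≫ G.pU :=
        IsAffineOpen.SpecMap_appLE_fromSpec G.pU hS₀ hB eS
      let m : Spec (.of (TensorProduct Γ(S, S₀) A A)) ⟶ pullback G.pU G.pU :=
        (pullbackSpecIso Γ(S, S₀) A A).inv ≫
          pullback.map _ _ _ _ hB.fromSpec hB.fromSpec hS₀.fromSpec hfs hfs
      have hm : Spec.map (CommRingCat.ofHom ψ.toRingHom) ≫ m = k.1.2.fromSpec ≫ G.j := by
        have e1 : ψ.toRingHom.comp (Algebra.TensorProduct.includeLeftRingHom) = (tC k).hom := by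
          ext a; exact Algebra.TensorProduct.productMap_left_apply ta sa a
        have e2 : ψ.toRingHom.comp (Algebra.TensorProduct.includeRight : (A : Type u) →ₐ[Γ(S, S₀)] _).toRingHom =
            (sC k).hom := by
          ext a; exact Algebra.TensorProduct.productMap_right_apply ta sa a
        apply pullback.hom_ext <;>
          simp only [m, Category.assoc, pullback.map, pullback.lift_fst, pullback.lift_snd, j_fst, j_snd]
        · rw [pullbackSpecIso_inv_fst_assoc, ← Spec.map_comp_assoc, ← CommRingCat.ofHom_comp]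
          erw [e1]
          exact IsAffineOpen.SpecMap_appLE_fromSpec G.t hB k.1.2 _
        · rw [pullbackSpecIso_inv_snd_assoc, ← Spec.map_comp_assoc, ← CommRingCat.ofHom_comp]
          erw [e2]
          exact IsAffineOpen.SpecMap_appLE_fromSpec G.s hB k.1.2 _
      have : LocallyQuasiFinite (Spec.map (CommRingCat.ofHom ψ.toRingHom) ≫ m) := by
        rw [hm]; infer_instance
      have := LocallyQuasiFinite.of_comp (Spec.map (CommRingCat.ofHom ψ.toRingHom)) m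
      exact (HasRingHomProperty.Spec_iff (P := @LocallyQuasiFinite)).1 this
    · rintro _ ⟨x, rfl⟩
      induction x using TensorProduct.induction_on with
      | zero => simp
      | tmul a b =>
        change ψ (a ⊗ₜ b) ∈ _
        rw [Algebra.TensorProduct.productMap_apply_tmul]
        exact Subring.mul_mem _ (le_sup_left (a := (tC k).hom.range) ⟨a, rfl⟩)
          (le_sup_right (b := (sC k).hom.range) ⟨b, rfl⟩)
      | add x y hx hy => rw [map_add]; exact Subring.add_mem _ hx hy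
  -- points and primes
  have hprime : ∀ (k : κ) (q : PrimeSpectrum (N k)),
      hB.fromSpec (PrimeSpectrum.comap (tC k).hom q) = G.t (k.1.2.fromSpec q) ∧
      hB.fromSpec (PrimeSpectrum.comap (sC k).hom q) = G.s (k.1.2.fromSpec q) := fun k q =>
    ⟨congr(($(IsAffineOpen.SpecMap_appLE_fromSpec G.t hB k.1.2 _)).base q),
      congr(($(IsAffineOpen.SpecMap_appLE_fromSpec G.s hB k.1.2 _)).base q)⟩
  obtain ⟨I, ⟨k₁, q₁, hq₁, hq₁p, hq₁I⟩, hfin, hflat⟩ := exists_slice_minimalPrime pη.asIdeal hmin N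
    (fun k => (sC k).hom) (fun k => (tC k).hom) (fun k => G.s.flat_appLE hB k.1.2 _)
    (fun k => G.s.finiteType_appLE hB k.1.2 _) hqf (by
      obtain ⟨r, hr1, hr2⟩ := exists_unit G η
      obtain ⟨k, hk⟩ := hcov r (by rw [hr2]; exact hηB) (by rw [hr1]; exact hηB)
      refine ⟨k, (k.1.2.primeIdealOf ⟨r, hk⟩).asIdeal, inferInstance, ?_⟩
      have h := (hprime k (k.1.2.primeIdealOf ⟨r, hk⟩)).2
      rw [k.1.2.fromSpec_primeIdealOf] at h
      change _ = G.s r at h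
      rw [hr1, ← hpη] at h
      exact congrArg PrimeSpectrum.asIdeal (hB.fromSpec.isOpenEmbedding.injective h))
  -- the slice
  let mkI : A ⟶ CommRingCat.of (A ⧸ I) := CommRingCat.ofHom (Ideal.Quotient.mk I)
  have : IsClosedImmersion (Spec.map mkI) := IsClosedImmersion.spec_of_surjective _ Ideal.Quotient.mk_surjective
  let u₀ : Spec (.of (A ⧸ I)) ⟶ G.U := Spec.map mkI ≫ hB.fromSpec
  have hu₀ : ∀ z, u₀ z = hB.fromSpec (PrimeSpectrum.comap (Ideal.Quotient.mk I) z) := fun _ => rfl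
  let a₀ : pullback G.t u₀ ⟶ G.R := pullback.fst G.t u₀
  let σ₀ : pullback G.t u₀ ⟶ G.U := a₀ ≫ G.s
  have : IsLocallyNoetherian (pullback G.t u₀) := LocallyOfFiniteType.isLocallyNoetherian a₀
  have : CompactSpace (pullback G.t u₀ : Scheme.{u}) := QuasiCompact.compactSpace_of_compactSpace a₀
  have hX : ∀ x : (pullback G.t u₀ : Scheme.{u}), σ₀ x = η → ∃ (k : κ) (q : PrimeSpectrum (N k)),
      k.1.2.fromSpec q = a₀ x ∧ q.asIdeal.comap (sC k).hom = pη.asIdeal ∧ I.map (tC k).hom ≤ q.asIdeal := by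
    intro x hx
    have ht : G.t (a₀ x) = hB.fromSpec (PrimeSpectrum.comap (Ideal.Quotient.mk I) (pullback.snd G.t u₀ x)) := by
      rw [← hu₀, ← Scheme.Hom.comp_apply, pullback.condition, Scheme.Hom.comp_apply]
    obtain ⟨k, hk⟩ := hcov (a₀ x) (by rw [ht]; exact hB.range_fromSpec.subset ⟨_, rfl⟩)
      (by change σ₀ x ∈ B; rw [hx]; exact hηB)
    let q := k.1.2.primeIdealOf ⟨a₀ x, hk⟩
    have hq : k.1.2.fromSpec q = a₀ x := k.1.2.fromSpec_primeIdealOf ⟨a₀ x, hk⟩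
    obtain ⟨h1, h2⟩ := hprime k q
    rw [hq] at h1 h2
    refine ⟨k, q, hq, ?_, ?_⟩
    · rw [show G.s (a₀ x) = η from hx, ← hpη] at h2
      exact congrArg PrimeSpectrum.asIdeal (hB.fromSpec.isOpenEmbedding.injective h2)
    · rw [ht] at h1
      have e := congrArg PrimeSpectrum.asIdeal (hB.fromSpec.isOpenEmbedding.injective h1)
      rw [Ideal.map_le_iff_le_comap]
      refine le_trans ?_ e.ge
      exact (Ideal.mk_ker (I := I)).ge.trans (Ideal.ker_le_comap _)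
  have hfib : (σ₀ ⁻¹' {η}).Finite := by
    let F : Set G.R := ⋃ k : κ, k.1.2.fromSpec ''
      {q : PrimeSpectrum (N k) | q.asIdeal.comap (sC k).hom = pη.asIdeal ∧ I.map (tC k).hom ≤ q.asIdeal}
    have hF : F.Finite := Set.finite_iUnion fun k => (hfin k).image _
    refine (hF.preimage a₀.isEmbedding.injective.injOn).subset fun x hx => ?_
    obtain ⟨k, q, h1, h2, h3⟩ := hX x hx
    exact Set.mem_iUnion.2 ⟨k, q, ⟨h2, h3⟩, h1⟩
  obtain ⟨V, hV, hηV, hfinV⟩ := (Groth.Agent.S2080.result σ₀ η hcl).1 hfib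
  -- charts of the slice
  have hchart := fun k : κ => exists_chart G hB k.1.2 ((hVle k).trans inf_le_left) I
  choose ε hεo hεa hεmem using hchart
  have hεσ : ∀ k, ε k ≫ σ₀ = Spec.map (CommRingCat.ofHom ((Ideal.Quotient.mk (I.map (tC k).hom)).comp (sC k).hom)) ≫
      hB.fromSpec := fun k => by
    rw [← Category.assoc, hεa, CommRingCat.ofHom_comp, Spec.map_comp, Category.assoc, Category.assoc]
    congr 1
    exact (IsAffineOpen.SpecMap_appLE_fromSpec G.s hB k.1.2 _).symm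
  -- flat near the fibre
  have hflatx : ∀ x, σ₀ x = η → ∃ O : (pullback G.t u₀).Opens, x ∈ O ∧ Flat (O.ι ≫ σ₀) := by
    intro x hx
    obtain ⟨k, q, hq, -, -⟩ := hX x hx
    obtain ⟨z, rfl⟩ := hεmem k x (by rw [← hq]; exact k.1.2.range_fromSpec.subset ⟨_, rfl⟩)
    have hz : z.asIdeal.comap ((Ideal.Quotient.mk (I.map (tC k).hom)).comp (sC k).hom) = pη.asIdeal := by
      rw [← Scheme.Hom.comp_apply, hεσ, Scheme.Hom.comp_apply, ← hpη] at hx
      exact congrArg PrimeSpectrum.asIdeal (hB.fromSpec.isOpenEmbedding.injective hx)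
    obtain ⟨g, hg, hgflat⟩ := hflat k z.asIdeal hz
    let loc := CommRingCat.ofHom (algebraMap (N k ⧸ I.map (tC k).hom) (Localization.Away g))
    have : IsOpenImmersion (Spec.map loc) := IsOpenImmersion.of_isLocalization g
    refine ⟨(Spec.map loc ≫ ε k).opensRange, ?_, ?_⟩
    · rw [Scheme.Hom.mem_opensRange]
      have : z ∈ (PrimeSpectrum.basicOpen g : Set (PrimeSpectrum _)) := hg
      rw [← PrimeSpectrum.localization_away_comap_range (Localization.Away g)] at this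
      obtain ⟨w, hw⟩ := this
      exact ⟨w, congrArg (ε k) hw⟩
    · have : Flat (Spec.map (CommRingCat.ofHom ((algebraMap (N k ⧸ I.map (tC k).hom) (Localization.Away g)).comp
          ((Ideal.Quotient.mk (I.map (tC k).hom)).comp (sC k).hom)))) :=
        (HasRingHomProperty.Spec_iff (P := @Flat)).2 hgflat
      rw [← MorphismProperty.cancel_left_of_respectsIso @Flat (Spec.map loc ≫ ε k).isoOpensRange.hom,
        Scheme.Hom.isoOpensRange_hom_ι_assoc, Category.assoc, hεσ, ← Spec.map_comp_assoc,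
        ← CommRingCat.ofHom_comp]
      infer_instance
  have : IsFinite (σ₀ ∣_ V) := hfinV
  obtain ⟨W₁, hηW₁, hW₁⟩ := exists_finLF_nhd σ₀ η V hηV hflatx
  -- the largest open
  obtain ⟨Wp, hWp, hmax, hinvWp⟩ := exists_largest_finLF G u₀
  let Wim : G.U.Opens := ⟨Subtype.val '' Set.range (σ₀ ∣_ Wp),
    Wp.2.isOpenMap_subtype_val _ (by
      have : Flat (σ₀ ∣_ Wp) := hWp.2.1
      have : LocallyOfFinitePresentation (σ₀ ∣_ Wp) := hWp.2.2
      exact (σ₀ ∣_ Wp).isOpenMap.isOpen_range)⟩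
  have hWim : ∀ y, y ∈ Wim ↔ y ∈ Wp ∧ ∃ x, σ₀ x = y := by
    intro y
    constructor
    · rintro ⟨v, ⟨z, rfl⟩, rfl⟩
      exact ⟨((σ₀ ∣_ Wp) z).2, z.1, (morphismRestrict_base_coe _ _ _).symm⟩
    · rintro ⟨hy, x, rfl⟩
      exact ⟨⟨σ₀ x, hy⟩, ⟨⟨x, hy⟩, Subtype.ext (morphismRestrict_base_coe _ _ _)⟩, rfl⟩
  let W := W₀ ⊓ Wim
  have hsat : ∀ r : G.R, G.s r ∈ W ↔ G.t r ∈ W := by
    intro r
    have e0 : G.s r ∈ W₀ ↔ G.t r ∈ W₀ := (SetLike.ext_iff.mp hW₀ r).symm
    have ep : G.s r ∈ Wp ↔ G.t r ∈ Wp := SetLike.ext_iff.mp hinvWp r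
    have himg : ∀ r : G.R, (∃ x, σ₀ x = G.t r) → ∃ x, σ₀ x = G.s r := by
      rintro r ⟨x, hx⟩
      obtain ⟨c, hc1, hc2⟩ := exists_comp G (show G.s (a₀ x) = G.t r from hx)
      obtain ⟨z, hz, -⟩ := Scheme.Pullback.exists_preimage_pullback (f := G.t) (g := u₀) c
        (pullback.snd G.t u₀ x) (by
          rw [hc2, ← Scheme.Hom.comp_apply, pullback.condition, Scheme.Hom.comp_apply])
      exact ⟨z, by rw [← hc1]; exact congrArg G.s hz⟩
    obtain ⟨c, hc1, hc2⟩ := exists_inv G r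
    have himg' : (∃ x, σ₀ x = G.s r) → ∃ x, σ₀ x = G.t r := fun h => by
      rw [← hc1]; exact himg c (by rw [hc2]; exact h)
    change (_ ∧ _) ↔ (_ ∧ _)
    rw [SetLike.mem_coe, SetLike.mem_coe, SetLike.mem_coe, SetLike.mem_coe, e0, hWim, hWim, ep]
    exact ⟨fun h => ⟨h.1, h.2.1, himg' h.2.2⟩, fun h => ⟨h.1, h.2.1, himg r h.2.2⟩⟩
  have hηWim : η ∈ Wim := by
    rw [hWim]
    refine ⟨hmax W₁ hW₁ hηW₁, ?_⟩
    refine ⟨ε k₁ ⟨q₁.map (Ideal.Quotient.mk _), Ideal.map_isPrime_of_surjective Ideal.Quotient.mk_surjective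
      (by rwa [Ideal.mk_ker])⟩, ?_⟩
    rw [← Scheme.Hom.comp_apply, hεσ, Scheme.Hom.comp_apply, ← hpη]
    refine congrArg hB.fromSpec (PrimeSpectrum.ext ?_)
    change (q₁.map (Ideal.Quotient.mk _)).comap ((Ideal.Quotient.mk _).comp (sC k₁).hom) = _
    rw [← Ideal.comap_comap, Ideal.comap_map_of_surjective _ Ideal.Quotient.mk_surjective]
    change (q₁ ⊔ RingHom.ker _).comap (sC k₁).hom = _
    rw [Ideal.mk_ker, sup_eq_left.2 hq₁I]
    exact hq₁p
  have hWW : G.t ⁻¹ᵁ W = G.s ⁻¹ᵁ W := Opens.ext (Set.ext fun r => (hsat r).symm)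
  refine ⟨W, inf_le_left, ⟨η, hηW, hηWim⟩, hasQS_of_finLF G u₀ W hWW ?_ fun y hy => ((hWim y).1 hy.2).2⟩
  exact finLF_mono σ₀ hWp (fun x hx => ((hWim x).1 hx.2).1)

end Groth.Agent.GrpQ80
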