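import Groth.Agent.GrpQ80.QuasiSectionAt
import Groth.Agent.GrpQ80.QuasiSection
import Groth.Agent.Grpd80.LocGeom
import Groth.Agent.Grpd80.QuotApi

/-!
The quotient of a flat groupoid whose objects are covered by saturated opens with quasi-sections.
-/

set_option autoImplicit false
set_option linter.unusedSectionVars false
set_option backward.isDefEq.respectTransparency.types false
set_option linter.style.haveILetI false

universe u

open CategoryTheory CategoryTheory.Limits AlgebraicGeometry TopologicalSpace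

namespace Groth.Agent.GrpQ80

open Groth.Agent.Grpd80

variable {S : Scheme.{u}} (G : Grpd.GroupoidScheme S)

/-- What the quotient of a saturated open with a quasi-section satisfies. -/
structure IsLocQuot {W : G.U.Opens} (hW : IsInv G W) {Y' : Scheme.{u}} (p : W.toScheme ⟶ Y') : Prop where
  geom : IsGeomQuot (G.s ∣_ W) (restrT hW) p
  uclosed : UniversallyClosed G.t → UniversallyClosed p
  lift_surj : Function.Surjective (pullback.lift (restrT hW) (G.s ∣_ W) geom.w)
  mono : Mono G.j → IsPullback (restrT hW) (G.s ∣_ W) p p ∧ (Flat G.t → Flat p)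
  lft : IsLocallyNoetherian S → LocallyOfFiniteType G.pU → ∀ q : Y' ⟶ S, p ≫ q = W.ι ≫ G.pU →
    LocallyOfFiniteType q

/-- A saturated open with a quasi-section has a quotient. -/
theorem exists_isLocQuot {W : G.U.Opens} (h : HasQS G W) :
    ∃ (hW : IsInv G W) (Y' : Scheme.{u}) (p : W.toScheme ⟶ Y'), IsLocQuot G hW p := by
  obtain ⟨hW, U', uW, hu, hfin, hsur, haff⟩ := h.exists_restr
  have hI : IsInv G W := hW.symm
  have et : G.t.resLE W (G.s ⁻¹ᵁ W) hW.ge = restrT hI := by
    rw [← cancel_mono W.ι, Scheme.Hom.resLE_comp_ι, restrT_ι]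
  rw [et] at hfin hsur
  obtain ⟨Y', p, w, -, -, -, huc, hlift, hmono, hlft, hgeom⟩ :=
    @coequalizer_quasiSection' S (restr hI) U' uW hu ⟨hfin, hsur⟩ (fun E hE => haff E fun x hx y hy => by
      obtain ⟨r, h1, h2⟩ := hE x hx y hy
      refine ⟨(G.s ⁻¹ᵁ W).ι r, ?_, ?_⟩
      · rw [← Scheme.Hom.comp_apply, ← restrT_ι hI, Scheme.Hom.comp_apply]
        exact congrArg W.ι h1
      · rw [← Scheme.Hom.comp_apply, ← morphismRestrict_ι, Scheme.Hom.comp_apply]
        exact congrArg W.ι h2)
  obtain ⟨p₀, hp₀⟩ : ∃ p₀ : W.toScheme ⟶ Y', p₀ = p := ⟨p, rfl⟩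
  subst hp₀
  refine ⟨hI, Y', p₀, hgeom, fun ht => huc ?_, hlift, fun hj => ?_, fun hS hpU q hq => hlft hS q ?_⟩
  · show UniversallyClosed (restrT hI)
    have sq : IsPullback (restrT hI) (G.s ⁻¹ᵁ W).ι W.ι G.t := IsOpenImmersion.isPullback _ _ _ _
      (restrT_ι hI).symm (by rw [Scheme.Opens.opensRange_ι, Scheme.Opens.opensRange_ι]; exact hI.symm)
    exact MorphismProperty.of_isPullback (P := @UniversallyClosed) sq.flip ht
  · obtain ⟨h1, h2⟩ := hmono (restr_mono_j hI)
    refine ⟨h1, fun ht => h2 ?_⟩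
    show Flat (restrT hI)
    rw [← et]; infer_instance
  · show LocallyOfFiniteType (uW ≫ p₀ ≫ q)
    rw [hq]
    have := hu
    infer_instance

/-- The quotient of a flat groupoid covered by saturated opens with quasi-sections. -/
theorem exists_quotient_of_hasQS [Flat G.s] [LocallyOfFinitePresentation G.s]
    (h : ∀ x : G.U, ∃ W : G.U.Opens, x ∈ W ∧ HasQS G W) :
    ∃ (Y : Scheme.{u}) (p : G.U ⟶ Y) (w : G.t ≫ p = G.s ≫ p),
      Nonempty (IsColimit (Cofork.ofπ p w)) ∧ Surjective p ∧ IsOpenMap p ∧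
      (UniversallyClosed G.t → UniversallyClosed p) ∧
      Function.Surjective (pullback.lift G.t G.s w) ∧
      (Mono G.j → IsPullback G.t G.s p p ∧ Flat p) ∧
      (IsLocallyNoetherian S → LocallyOfFiniteType G.pU → ∀ q : Y ⟶ S, p ≫ q = G.pU →
        LocallyOfFiniteType q) := by
  choose W hxW hqs using h
  choose hI Y' p' hp' using fun x => exists_isLocQuot G (hqs x)
  obtain ⟨Y, p, hp⟩ := LocGeom.exists_isGeomQuot G fun x => ⟨⟨W x, hI x, Y' x, p' x, (hp' x).geom⟩, hxW x⟩
  choose l hl hlp hsq using fun x => LocGeom.exists_chart_iso hp (hI x) (hp' x).geom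
  have hcov : ∀ y : Y, ∃ x, y ∈ Set.range (l x) := fun y => by
    obtain ⟨x, rfl⟩ := hp.surj y
    exact ⟨x, p' x ⟨x, hxW x⟩, by rw [← Scheme.Hom.comp_apply, hlp]; rfl⟩
  let 𝒱 : Y.OpenCover := Scheme.Cover.mkOfCovers G.U Y' l (fun y => hcov y) hl
  have hlocal : ∀ (P : MorphismProperty Scheme.{u}) [IsZariskiLocalAtTarget P], (∀ x, P (p' x)) → P p :=
    fun P _ hP => IsZariskiLocalAtTarget.of_openCover 𝒱 fun x =>
      (P.cancel_left_of_respectsIso (hsq x).flip.isoPullback.hom _).mp
        (((hsq x).flip.isoPullback_hom_snd).symm ▸ hP x :)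
  -- pairs of points in one piece
  let L := pullback.lift G.t G.s hp.w
  let k : ∀ x, pullback (p' x) (p' x) ⟶ pullback p p := fun x =>
    pullback.map _ _ _ _ (W x).ι (W x).ι (l x) (hlp x) (hlp x)
  have hkf : ∀ x, k x ≫ pullback.fst p p = pullback.fst (p' x) (p' x) ≫ (W x).ι := fun x => pullback.lift_fst _ _ _
  have hks : ∀ x, k x ≫ pullback.snd p p = pullback.snd (p' x) (p' x) ≫ (W x).ι := fun x => pullback.lift_snd _ _ _
  have hkc : ∀ z : ↥(pullback p p), ∃ x, z ∈ Set.range (k x) := fun z => by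
    let x := pullback.fst p p z
    refine ⟨x, ?_⟩
    rw [Scheme.Pullback.range_map]
    refine ⟨⟨⟨_, hxW x⟩, rfl⟩, ?_⟩
    obtain ⟨r, h1, h2⟩ := hp.fibres (pullback.fst p p z) (pullback.snd p p z)
      (by rw [← Scheme.Hom.comp_apply, pullback.condition]; rfl)
    exact ⟨⟨pullback.snd p p z, (congrArg (· ∈ W x) h2).mp (((hI x).mem_iff r).mpr (h1.symm ▸ hxW x))⟩, rfl⟩
  have hkL : ∀ x, pullback.lift (restrT (hI x)) (G.s ∣_ W x) (hp' x).geom.w ≫ k x =
      (G.s ⁻¹ᵁ W x).ι ≫ L := fun x => by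
    apply pullback.hom_ext
    · rw [Category.assoc, hkf, pullback.lift_fst_assoc, Category.assoc, pullback.lift_fst, restrT_ι]
    · rw [Category.assoc, hks, pullback.lift_snd_assoc, Category.assoc, pullback.lift_snd, morphismRestrict_ι]
  refine ⟨Y, p, hp.w, ⟨Cofork.IsColimit.mk _ (fun c => (hp.existsUnique_desc c.π c.condition.symm).choose)
    (fun c => (hp.existsUnique_desc c.π c.condition.symm).choose_spec.1)
    (fun c m hm => (hp.existsUnique_desc c.π c.condition.symm).choose_spec.2 m hm)⟩,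
    ⟨hp.surj⟩, fun O hO => ?_, fun ht => hlocal _ fun x => (hp' x).uclosed ht, fun z => ?_, fun hj => ?_,
    fun hS hpU q hq => ?_⟩
  · let sat : G.U.Opens := ⟨G.t '' (G.s ⁻¹' O), G.t.isOpenMap _ (hO.preimage G.s.continuous)⟩
    have e : p '' O = p '' (sat : Set G.U) := by
      ext y
      constructor
      · rintro ⟨x, hx, rfl⟩
        exact ⟨x, subset_saturation G O hx, rfl⟩
      · rintro ⟨_, ⟨r, hr, rfl⟩, rfl⟩
        exact ⟨G.s r, hr, by rw [← Scheme.Hom.comp_apply, ← Scheme.Hom.comp_apply, hp.w]⟩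
    rw [e]
    exact hp.image_open sat (Opens.ext (saturation_invariant G O))
  · obtain ⟨x, w₀, rfl⟩ := hkc z
    obtain ⟨r, rfl⟩ := (hp' x).lift_surj w₀
    exact ⟨(G.s ⁻¹ᵁ W x).ι r, by rw [← Scheme.Hom.comp_apply, ← hkL]; rfl⟩
  · refine ⟨?_, hlocal _ fun x => ((hp' x).mono hj).2 inferInstance⟩
    have : ∀ x, IsOpenImmersion (k x) := fun x => by
      have := hl x; dsimp only [k]; infer_instance
    let 𝒬 : (pullback p p).OpenCover := Scheme.Cover.mkOfCovers G.U _ k (fun z => hkc z) this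
    have : IsIso L := by
      refine IsZariskiLocalAtTarget.of_openCover (P := MorphismProperty.isomorphisms Scheme.{u}) 𝒬 fun x => ?_
      let m := pullback.lift (restrT (hI x)) (G.s ∣_ W x) (hp' x).geom.w
      have : IsIso m := by
        have h1 := ((hp' x).mono hj).1
        have e : m = h1.isoPullback.hom := by
          apply pullback.hom_ext
          · exact (pullback.lift_fst _ _ _).trans h1.isoPullback_hom_fst.symm
          · exact (pullback.lift_snd _ _ _).trans h1.isoPullback_hom_snd.symm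
        rw [e]; infer_instance
      have := this
      have sq : IsPullback m (G.s ⁻¹ᵁ W x).ι (k x) L := IsOpenImmersion.isPullback _ _ _ _ (hkL x).symm (by
        ext r
        show L r ∈ (k x).opensRange ↔ r ∈ (G.s ⁻¹ᵁ W x).ι.opensRange
        rw [Scheme.Opens.opensRange_ι]
        constructor
        · rintro ⟨w₀, hw₀⟩
          have : G.s r = (W x).ι (pullback.snd (p' x) (p' x) w₀) := by
            rw [← Scheme.Hom.comp_apply, ← hks, Scheme.Hom.comp_apply, hw₀, ← Scheme.Hom.comp_apply,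
              pullback.lift_snd]
          show G.s r ∈ W x
          rw [this]; exact (pullback.snd (p' x) (p' x) w₀).2
        · intro hr
          exact ⟨m ⟨r, hr⟩, by rw [← Scheme.Hom.comp_apply, hkL]; rfl⟩)
      exact ((MorphismProperty.isomorphisms Scheme.{u}).cancel_left_of_respectsIso sq.flip.isoPullback.hom _).mp
        (by show IsIso (sq.flip.isoPullback.hom ≫ pullback.snd L (k x)); rw [sq.flip.isoPullback_hom_snd]; infer_instance)
    exact IsPullback.of_iso_pullback ⟨hp.w⟩ (asIso L) (pullback.lift_fst _ _ _) (pullback.lift_snd _ _ _)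
  · refine IsZariskiLocalAtSource.of_openCover (P := @LocallyOfFiniteType) 𝒱 fun x => ?_
    exact (hp' x).lft hS hpU (l x ≫ q) (by rw [reassoc_of% (hlp x), hq])

end Groth.Agent.GrpQ80
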