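import Groth.Agent.GrpQ80.DenseQuot
import Groth.Agent.GrpQ80.MonoFactor
import Groth.Agent.Unr55.DescProps
import Groth.Agent.SpPts86.LocPMore
import Groth.Agent.FlatMor66.FlatDescentSource
import Groth.Agent.FlatCrit65.GenFlat

/-!
Groupoids with flat stabilizer: the image equivalence relation and its quotient on a dense open.
-/

set_option autoImplicit false
set_option linter.unusedSectionVars false
set_option backward.isDefEq.respectTransparency.types false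

universe u

open CategoryTheory CategoryTheory.Limits AlgebraicGeometry TopologicalSpace

namespace Groth.Agent.GrpQ80

open Groth.Agent.Grpd80

variable {S : Scheme.{u}} (A : Grpd.GroupoidScheme S)

section

variable {Y : Scheme.{u}} (ψ : A.R ⟶ Y) (s' t' : Y ⟶ A.U)

/-- The composition descends to an fppf image. -/
lemma exists_comp_image [Surjective ψ] [Flat ψ] [LocallyOfFinitePresentation ψ] (hs : ψ ≫ s' = A.s)
    (ht : ψ ≫ t' = A.t)
    (hj : ∀ {T : Scheme.{u}} (a b : T ⟶ Y), a ≫ t' = b ≫ t' → a ≫ s' = b ≫ s' → a = b) :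
    ∃ c : pullback s' t' ⟶ Y, c ≫ s' = pullback.snd s' t' ≫ s' ∧ c ≫ t' = pullback.fst s' t' ≫ t' := by
  let P₁ := pullback ψ (pullback.fst s' t')
  let c₁ : P₁ ⟶ pullback s' t' := pullback.snd ψ (pullback.fst s' t')
  let P₂ := pullback ψ (c₁ ≫ pullback.snd s' t')
  let c₂ : P₂ ⟶ P₁ := pullback.snd ψ (c₁ ≫ pullback.snd s' t')
  let α : P₂ ⟶ A.R := c₂ ≫ pullback.fst ψ (pullback.fst s' t')
  let β : P₂ ⟶ A.R := pullback.fst ψ (c₁ ≫ pullback.snd s' t')
  let c₀ := c₂ ≫ c₁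
  have hα : α ≫ ψ = c₀ ≫ pullback.fst s' t' := by simp [α, c₀, c₁, pullback.condition]
  have hβ : β ≫ ψ = c₀ ≫ pullback.snd s' t' := by simp [β, c₀, c₂, pullback.condition]
  have hαβ : α ≫ A.s = β ≫ A.t := by
    rw [← hs, ← ht, reassoc_of% hα, reassoc_of% hβ, pullback.condition]
  let v : P₂ ⟶ Y := mul A α β hαβ ≫ ψ
  have hv1 : v ≫ s' = c₀ ≫ pullback.snd s' t' ≫ s' := by
    rw [Category.assoc, hs, mul_s, ← hs, reassoc_of% hβ]
  have hv2 : v ≫ t' = c₀ ≫ pullback.fst s' t' ≫ t' := by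
    rw [Category.assoc, ht, mul_t, ← ht, reassoc_of% hα]
  clear_value v
  have hv : ∀ {Z : Scheme.{u}} (g₁ g₂ : Z ⟶ P₂), g₁ ≫ c₀ = g₂ ≫ c₀ → g₁ ≫ v = g₂ ≫ v :=
    fun g₁ g₂ e => hj _ _
      (by rw [Category.assoc, Category.assoc, hv2, reassoc_of% e])
      (by rw [Category.assoc, Category.assoc, hv1, reassoc_of% e])
  exact ⟨EffectiveEpi.desc c₀ v hv, by rw [← cancel_epi c₀, EffectiveEpi.fac_assoc, hv1],
    by rw [← cancel_epi c₀, EffectiveEpi.fac_assoc, hv2]⟩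

lemma exists_inv_image [Surjective ψ] [Flat ψ] [LocallyOfFinitePresentation ψ] (hs : ψ ≫ s' = A.s)
    (ht : ψ ≫ t' = A.t)
    (hj : ∀ {T : Scheme.{u}} (a b : T ⟶ Y), a ≫ t' = b ≫ t' → a ≫ s' = b ≫ s' → a = b) :
    ∃ i : Y ⟶ Y, i ≫ s' = t' ∧ i ≫ t' = s' := by
  let v : A.R ⟶ Y := A.i ≫ ψ
  have hv1 : v ≫ s' = ψ ≫ t' := by rw [Category.assoc, hs, A.i_s, ht]
  have hv2 : v ≫ t' = ψ ≫ s' := by rw [Category.assoc, ht, A.i_t, hs]
  clear_value v
  have hv : ∀ {Z : Scheme.{u}} (g₁ g₂ : Z ⟶ A.R), g₁ ≫ ψ = g₂ ≫ ψ → g₁ ≫ v = g₂ ≫ v :=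
    fun g₁ g₂ e => hj _ _
      (by rw [Category.assoc, Category.assoc, hv2, reassoc_of% e])
      (by rw [Category.assoc, Category.assoc, hv1, reassoc_of% e])
  exact ⟨EffectiveEpi.desc ψ v hv, by rw [← cancel_epi ψ, EffectiveEpi.fac_assoc, hv1],
    by rw [← cancel_epi ψ, EffectiveEpi.fac_assoc, hv2]⟩

/-- The equivalence relation image of a groupoid. -/
theorem exists_imageGrpd [Surjective ψ] [Flat ψ] [LocallyOfFinitePresentation ψ] (hs : ψ ≫ s' = A.s)
    (ht : ψ ≫ t' = A.t)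
    (hj : ∀ {T : Scheme.{u}} (a b : T ⟶ Y), a ≫ t' = b ≫ t' → a ≫ s' = b ≫ s' → a = b) :
    ∃ (e : A.U ⟶ Y) (i : Y ⟶ Y) (c : pullback s' t' ⟶ Y),
      (e ≫ s' = 𝟙 A.U ∧ e ≫ t' = 𝟙 A.U) ∧ (i ≫ s' = t' ∧ i ≫ t' = s') ∧
      (c ≫ s' = pullback.snd s' t' ≫ s' ∧ c ≫ t' = pullback.fst s' t' ≫ t') := by
  obtain ⟨c, hc⟩ := exists_comp_image A ψ s' t' hs ht hj
  obtain ⟨i, hi⟩ := exists_inv_image A ψ s' t' hs ht hj
  exact ⟨A.e ≫ ψ, i, c, ⟨by rw [Category.assoc, hs, A.e_s], by rw [Category.assoc, ht, A.e_t]⟩, hi, hc⟩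

/-- A groupoid from an equivalence relation on points. -/
noncomputable def eqvGrpd (hpU : t' ≫ A.pU = s' ≫ A.pU)
    (hj : ∀ {T : Scheme.{u}} (a b : T ⟶ Y), a ≫ t' = b ≫ t' → a ≫ s' = b ≫ s' → a = b)
    (e : A.U ⟶ Y) (i : Y ⟶ Y) (c : pullback s' t' ⟶ Y) (he : e ≫ s' = 𝟙 A.U ∧ e ≫ t' = 𝟙 A.U)
    (hi : i ≫ s' = t' ∧ i ≫ t' = s')
    (hc : c ≫ s' = pullback.snd s' t' ≫ s' ∧ c ≫ t' = pullback.fst s' t' ≫ t') : Grpd.GroupoidScheme S where
  U := A.U
  R := Y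
  pU := A.pU
  pR := s' ≫ A.pU
  s := s'
  t := t'
  e := e
  i := i
  c := c
  s_over := rfl
  t_over := hpU
  comp_s α β h := by rw [Category.assoc, hc.1, pullback.lift_snd_assoc]
  comp_t α β h := by rw [Category.assoc, hc.2, pullback.lift_fst_assoc]
  assoc α β δ h₁ h₂ := by
    apply hj <;> simp [hc.1, hc.2, pullback.lift_fst, pullback.lift_snd, pullback.lift_fst_assoc,
      pullback.lift_snd_assoc]
  e_s := he.1
  e_t := he.2
  comp_e α := by
    apply hj <;> simp [hc.1, hc.2, he.1, he.2, pullback.lift_fst_assoc, pullback.lift_snd_assoc]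
  e_comp α := by
    apply hj <;> simp [hc.1, hc.2, he.1, he.2, pullback.lift_fst_assoc, pullback.lift_snd_assoc]
  i_s := hi.1
  i_t := hi.2
  comp_i α := by
    apply hj <;> simp [hc.1, hc.2, he.1, he.2, hi.1, hi.2, pullback.lift_fst_assoc, pullback.lift_snd_assoc]
  i_comp α := by
    apply hj <;> simp [hc.1, hc.2, he.1, he.2, hi.1, hi.2, pullback.lift_fst_assoc, pullback.lift_snd_assoc]

end

/-- Coequalizers over opens are unchanged along an fppf cover of the arrows. -/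
lemma coequalizer_precomp {R Y U : Scheme.{u}} (ψ : R ⟶ Y) [Surjective ψ] [Flat ψ]
    [LocallyOfFinitePresentation ψ] (s t : R ⟶ U) (s' t' : Y ⟶ U) (hs : ψ ≫ s' = s) (ht : ψ ≫ t' = t)
    (W : U.Opens) (hW : t' ⁻¹ᵁ W = s' ⁻¹ᵁ W) {V : Scheme.{u}} (p : W.toScheme ⟶ V)
    (w : t'.resLE W (s' ⁻¹ᵁ W) hW.ge ≫ p = (s' ∣_ W) ≫ p) (col : IsColimit (Cofork.ofπ p w)) :
    ∃ (hW' : t ⁻¹ᵁ W = s ⁻¹ᵁ W) (w' : t.resLE W (s ⁻¹ᵁ W) hW'.ge ≫ p = (s ∣_ W) ≫ p),
      Nonempty (IsColimit (Cofork.ofπ p w')) := by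
  subst hs ht
  have hWA : (ψ ≫ t') ⁻¹ᵁ W = (ψ ≫ s') ⁻¹ᵁ W := by
    rw [Scheme.Hom.comp_preimage, Scheme.Hom.comp_preimage, hW]
  let ψW := ψ.resLE (s' ⁻¹ᵁ W) ((ψ ≫ s') ⁻¹ᵁ W) (by rw [Scheme.Hom.comp_preimage])
  have : Surjective ψW := ⟨fun y => by
    obtain ⟨x, hx⟩ := ψ.surjective y.1
    refine ⟨⟨x, show ψ x ∈ s' ⁻¹ᵁ W from hx ▸ y.2⟩, (s' ⁻¹ᵁ W).ι.isOpenEmbedding.injective ?_⟩
    rw [← Scheme.Hom.comp_apply, Scheme.Hom.resLE_comp_ι]; exact hx⟩
  have : Flat ψW := inferInstance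
  have : LocallyOfFinitePresentation ψW := inferInstance
  have e1 : (ψ ≫ t').resLE W ((ψ ≫ s') ⁻¹ᵁ W) hWA.ge = ψW ≫ t'.resLE W (s' ⁻¹ᵁ W) hW.ge := by
    rw [← cancel_mono W.ι, Category.assoc, Scheme.Hom.resLE_comp_ι, Scheme.Hom.resLE_comp_ι,
      Scheme.Hom.resLE_comp_ι_assoc]
  have e2 : (ψ ≫ s') ∣_ W = ψW ≫ (s' ∣_ W) := by
    rw [← cancel_mono W.ι, Category.assoc, morphismRestrict_ι, morphismRestrict_ι,
      Scheme.Hom.resLE_comp_ι_assoc]
  have hcond : ∀ (c : Cofork ((ψ ≫ t').resLE W ((ψ ≫ s') ⁻¹ᵁ W) hWA.ge) ((ψ ≫ s') ∣_ W)),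
      t'.resLE W (s' ⁻¹ᵁ W) hW.ge ≫ c.π = (s' ∣_ W) ≫ c.π := fun c => by
    exact (cancel_epi ψW).1 ((((Category.assoc _ _ _).symm.trans (congrArg (· ≫ c.π) e1.symm)).trans
      c.condition).trans ((congrArg (· ≫ c.π) e2).trans (Category.assoc _ _ _)))
  exact ⟨hWA, by rw [e1, e2, Category.assoc, Category.assoc, w],
    ⟨Cofork.IsColimit.mk _ (fun c => col.desc (Cofork.ofπ c.π (hcond c)))
      (fun c => Cofork.IsColimit.π_desc col)
      (fun c m hm => Cofork.IsColimit.hom_ext col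
        (hm.trans (Cofork.IsColimit.π_desc col (t := Cofork.ofπ c.π (hcond c))).symm))⟩⟩

/-- A groupoid with flat stabilizer has a quotient on a dense saturated open. -/
theorem exists_dense_quotient_flatKer [IsNoetherian S] [Flat A.s] [LocallyOfFiniteType A.s] [QuasiCompact A.s]
    [LocallyOfFiniteType A.pU] [QuasiCompact A.pU] [Flat (pullback.fst A.j A.j)] :
    ∃ (W : A.U.Opens) (hW : A.t ⁻¹ᵁ W = A.s ⁻¹ᵁ W), Dense (W : Set A.U) ∧
      ∃ (V : Scheme.{u}) (p : (W : Scheme.{u}) ⟶ V)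
        (w : A.t.resLE W (A.s ⁻¹ᵁ W) hW.ge ≫ p = (A.s ∣_ W) ≫ p) (q : V ⟶ S),
        Nonempty (IsColimit (Cofork.ofπ p w)) ∧ p ≫ q = W.ι ≫ A.pU ∧
        Surjective p ∧ Flat p ∧ LocallyOfFinitePresentation p ∧ LocallyOfFiniteType q ∧ QuasiCompact q := by
  have : IsLocallyNoetherian A.U := LocallyOfFiniteType.isLocallyNoetherian A.pU
  have : CompactSpace A.U := QuasiCompact.compactSpace_of_compactSpace A.pU
  have : IsNoetherian A.U := {}
  have : IsLocallyNoetherian A.R := LocallyOfFiniteType.isLocallyNoetherian A.s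
  have : CompactSpace A.R := QuasiCompact.compactSpace_of_compactSpace A.s
  have : LocallyOfFinitePresentation A.s := LocallyOfFinitePresentation.iff_locallyOfFiniteType.2 ‹_›
  have : IsLocallyNoetherian (pullback A.pU A.pU) :=
    LocallyOfFiniteType.isLocallyNoetherian (pullback.fst A.pU A.pU ≫ A.pU)
  have : LocallyOfFiniteType (A.j ≫ pullback.snd A.pU A.pU) := by rw [j_snd]; infer_instance
  have : LocallyOfFiniteType A.j := locallyOfFiniteType_of_comp A.j (pullback.snd A.pU A.pU)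
  have : LocallyOfFinitePresentation A.j := LocallyOfFinitePresentation.iff_locallyOfFiniteType.2 ‹_›
  obtain ⟨Y, ψ, τ, _, _, _, _, hτ, hψτ⟩ := exists_factor A.j
  let t' := τ ≫ pullback.fst A.pU A.pU
  let s' := τ ≫ pullback.snd A.pU A.pU
  have hs : ψ ≫ s' = A.s := by rw [reassoc_of% hψτ, j_snd]
  have ht : ψ ≫ t' = A.t := by rw [reassoc_of% hψτ, j_fst]
  have hj : ∀ {T : Scheme.{u}} (a b : T ⟶ Y), a ≫ t' = b ≫ t' → a ≫ s' = b ≫ s' → a = b := fun a b h1 h2 => by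
    rw [← cancel_mono τ]
    apply pullback.hom_ext <;> simp only [Category.assoc] <;> assumption
  have hpU : t' ≫ A.pU = s' ≫ A.pU := by simp [t', s', pullback.condition]
  obtain ⟨e, i, c, he, hi, hc⟩ := exists_imageGrpd A ψ s' t' hs ht hj
  let B := eqvGrpd A s' t' hpU hj e i c he hi hc
  have hB : B.j = τ := by
    apply pullback.hom_ext
    · exact j_fst B
    · exact j_snd B
  have : Flat (ψ ≫ s') := by rw [hs]; infer_instance
  have : Flat B.s := FlatMor66.flat_of_comp_surjective ψ s'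
  have : LocallyOfFinitePresentation (ψ ≫ s') := by rw [hs]; infer_instance
  have : LocallyOfFinitePresentation B.s := Unr55.locallyOfFinitePresentation_of_fppf_comp ψ s'
  have : QuasiCompact B.s := ⟨fun O hO hO' => by
    have hc' : IsCompact (A.s ⁻¹' O) := ‹QuasiCompact A.s›.isCompact_preimage O hO hO'
    rw [← hs] at hc'
    have := hc'.image ψ.continuous
    rwa [show (⇑(ψ ≫ s') ⁻¹' O) = ⇑ψ ⁻¹' (⇑s' ⁻¹' O) from rfl, Set.image_preimage_eq _ ψ.surjective] at this⟩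
  have : LocallyOfFiniteType B.pU := ‹LocallyOfFiniteType A.pU›
  have : QuasiCompact B.pU := ‹QuasiCompact A.pU›
  have : Mono B.j := by rw [hB]; exact ‹Mono τ›
  have : LocallyQuasiFinite B.j := by
    rw [hB]
    have : QuasiCompact s' := ‹QuasiCompact B.s›
    have : LocallyOfFiniteType s' := inferInstanceAs (LocallyOfFiniteType B.s)
    have : IsLocallyNoetherian Y := LocallyOfFiniteType.isLocallyNoetherian s'
    have : CompactSpace Y := QuasiCompact.compactSpace_of_compactSpace s'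
    have : IsNoetherian Y := {}
    have : QuasiCompact τ := inferInstance
    have : LocallyOfFiniteType τ := inferInstance
    have h : LocallyQuasiFinite τ := LocallyQuasiFinite.of_injective τ.injective
    exact h
  obtain ⟨W, hW, hd, V, p, w, q, ⟨col⟩, hq, h4, -, h6, h7, h8, -, -, hm⟩ := exists_dense_quotient B
  obtain ⟨-, hflat⟩ := hm inferInstance
  obtain ⟨hWA, w', hc'⟩ := coequalizer_precomp ψ A.s A.t s' t' hs ht W hW p w col
  exact ⟨W, hWA, hd, V, p, w', q, hc', hq, h4, hflat, h6, inferInstance, h8⟩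

/-- The stabilizer of a restriction. -/
lemma flat_stabilizerToU_restr {W : A.U.Opens} (hI : IsInv A W) (h : Flat (A.stabilizerToU ∣_ W)) :
    Flat (restr hI).stabilizerToU := by
  let ι : (restr hI).R ⟶ A.R := (A.s ⁻¹ᵁ W).ι
  let ιU : (restr hI).U ⟶ A.U := W.ι
  have hιs : ι ≫ A.s = (restr hI).s ≫ ιU := (morphismRestrict_ι A.s W).symm
  have hιt : ι ≫ A.t = (restr hI).t ≫ ιU := (restrT_ι hI).symm
  let φ : (restr hI).stabilizer ⟶ A.stabilizer := stabLift A (stIncl (restr hI) ≫ ι)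
    (by rw [Category.assoc, Category.assoc, hιs, hιt, stIncl_s_assoc, stIncl_t_assoc])
  have hφ : φ ≫ A.stabilizerToU = (restr hI).stabilizerToU ≫ ιU := by
    rw [stabLift_toU, Category.assoc, hιt, stIncl_t_assoc]
  have sq : IsPullback φ (restr hI).stabilizerToU A.stabilizerToU ιU := by
    have hι : Mono ι := inferInstanceAs (Mono (A.s ⁻¹ᵁ W).ι)
    have hιU : Mono ιU := inferInstanceAs (Mono W.ι)
    have hr : ∀ c : PullbackCone A.stabilizerToU ιU,
        Set.range (c.fst ≫ stIncl A) ⊆ Set.range (A.s ⁻¹ᵁ W).ι := by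
      rintro c _ ⟨x, rfl⟩
      rw [Scheme.Opens.range_ι]
      change A.s ((c.fst ≫ stIncl A) x) ∈ W
      rw [← Scheme.Hom.comp_apply, Category.assoc, stIncl_s, c.condition, Scheme.Hom.comp_apply]
      exact (c.snd x).2
    let r : ∀ c : PullbackCone A.stabilizerToU ιU, c.pt ⟶ (restr hI).R := fun c =>
      (IsOpenImmersion.lift (A.s ⁻¹ᵁ W).ι (c.fst ≫ stIncl A) (hr c) : c.pt ⟶ (A.s ⁻¹ᵁ W).toScheme)
    have hrι : ∀ c, r c ≫ ι = c.fst ≫ stIncl A := fun c => IsOpenImmersion.lift_fac (A.s ⁻¹ᵁ W).ι _ (hr c)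
    have hrs : ∀ c, r c ≫ (restr hI).s = c.snd ∧ r c ≫ (restr hI).t = c.snd := fun c =>
      ⟨(cancel_mono ιU).1 (by rw [Category.assoc, ← hιs, reassoc_of% (hrι c), stIncl_s, c.condition]),
        (cancel_mono ιU).1 (by rw [Category.assoc, ← hιt, reassoc_of% (hrι c), stIncl_t, c.condition])⟩
    refine ⟨⟨hφ⟩, ⟨PullbackCone.IsLimit.mk _
      (fun c => stabLift (restr hI) (r c) ((hrs c).1.trans (hrs c).2.symm)) (fun c => ?_) (fun c => ?_)
      (fun c m h1 h2 => ?_)⟩⟩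
    · apply stab_hom_ext
      rw [Category.assoc, stabLift_incl, reassoc_of% (stabLift_incl (restr hI) (r c) _), hrι c]
    · rw [stabLift_toU]; exact (hrs c).2
    · apply stab_hom_ext
      rw [stabLift_incl, ← cancel_mono ι, hrι c, ← h1, Category.assoc, Category.assoc, stabLift_incl]
  have e := (isPullback_morphismRestrict A.stabilizerToU W).flip.isoIsPullback_hom_snd _ _ sq
  change Flat _
  rw [← (isPullback_morphismRestrict A.stabilizerToU W).flip.isoIsPullback_inv_snd _ _ sq]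
  exact (MorphismProperty.cancel_left_of_respectsIso (@Flat : MorphismProperty Scheme.{u}) _ _).2 h

/-- The kernel pair of the graph is flat when the stabilizer is. -/
lemma flat_fst_of_stabilizer (h : Flat A.stabilizerToU) : Flat (pullback.fst A.j A.j) := by
  have h1 : Flat (pullback.snd A.stabilizerToU A.t) :=
    MorphismProperty.pullback_snd (P := @Flat) _ _ h
  have h2 : Flat (pullback.snd A.j A.j) := by
    rw [show pullback.snd A.j A.j = (torsor A).inv ≫ pullback.snd A.stabilizerToU A.t by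
      rw [← torsor_hom_snd, Iso.inv_hom_id_assoc]]
    infer_instance
  rw [← pullbackSymmetry_hom_comp_snd]
  infer_instance

lemma flat_fst_restr_j {W : A.U.Opens} (hI : IsInv A W) (h : Flat (A.stabilizerToU ∣_ W)) :
    Flat (pullback.fst (restr hI).j (restr hI).j) :=
  flat_fst_of_stabilizer (restr hI) (flat_stabilizerToU_restr A hI h)

/-- Coequalizers transfer along an epimorphism of arrows and an isomorphism of objects. -/
lemma isColimit_cofork_congr {C : Type*} [Category C] {R R' W W' V : C} {f g : R ⟶ W} {f' g' : R' ⟶ W'}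
    (eR : R ⟶ R') [Epi eR] (eW : W ≅ W') (hf : f ≫ eW.hom = eR ≫ f') (hg : g ≫ eW.hom = eR ≫ g')
    {p : W' ⟶ V} {w : f' ≫ p = g' ≫ p} (hc : IsColimit (Cofork.ofπ p w)) (w' : f ≫ eW.hom ≫ p = g ≫ eW.hom ≫ p) :
    Nonempty (IsColimit (Cofork.ofπ (eW.hom ≫ p) w')) := by
  have hcond : ∀ (s : Cofork f g), f' ≫ eW.inv ≫ s.π = g' ≫ eW.inv ≫ s.π := fun s => by
    rw [← cancel_epi eR, ← reassoc_of% hf, ← reassoc_of% hg, Iso.hom_inv_id_assoc]
    exact s.condition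
  refine ⟨Cofork.IsColimit.mk _ (fun s => hc.desc (Cofork.ofπ _ (hcond s))) (fun s => ?_) (fun s m hm => ?_)⟩
  · have := Cofork.IsColimit.π_desc hc (t := Cofork.ofπ _ (hcond s))
    dsimp only [Cofork.π_ofπ] at this ⊢
    rw [Category.assoc]
    exact (congrArg (eW.hom ≫ ·) this).trans (eW.hom_inv_id_assoc _)
  · refine Cofork.IsColimit.hom_ext hc (Eq.trans ?_ (Cofork.IsColimit.π_desc hc (t := Cofork.ofπ _ (hcond s))).symm)
    change p ≫ m = eW.inv ≫ s.π
    rw [← hm]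
    change p ≫ m = eW.inv ≫ (eW.hom ≫ p) ≫ m
    rw [Category.assoc, Iso.inv_hom_id_assoc]

/-- A quotient of an open of a dense invariant open is a quotient of an open of the whole. -/
lemma restr_transfer {Wp : A.U.Opens} (hI : IsInv A Wp) (hWp : Dense (Wp : Set A.U))
    (W' : (restr hI).U.Opens) (hW' : (restr hI).t ⁻¹ᵁ W' = (restr hI).s ⁻¹ᵁ W')
    (hd : Dense (W' : Set (restr hI).U)) (V : Scheme.{u}) (p : (W' : Scheme.{u}) ⟶ V)
    (w : (restr hI).t.resLE W' ((restr hI).s ⁻¹ᵁ W') hW'.ge ≫ p = ((restr hI).s ∣_ W') ≫ p) (q : V ⟶ S)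
    (col : IsColimit (Cofork.ofπ p w)) (hq : p ≫ q = W'.ι ≫ (restr hI).pU)
    (h4 : Surjective p) (h5 : Flat p) (h6 : LocallyOfFinitePresentation p) (h7 : LocallyOfFiniteType q)
    (h8 : QuasiCompact q) :
    ∃ (W : A.U.Opens) (hW : A.t ⁻¹ᵁ W = A.s ⁻¹ᵁ W), Dense (W : Set A.U) ∧
      ∃ (V : Scheme.{u}) (p : (W : Scheme.{u}) ⟶ V)
        (w : A.t.resLE W (A.s ⁻¹ᵁ W) hW.ge ≫ p = (A.s ∣_ W) ≫ p) (q : V ⟶ S),
        Nonempty (IsColimit (Cofork.ofπ p w)) ∧ p ≫ q = W.ι ≫ A.pU ∧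
        Surjective p ∧ Flat p ∧ LocallyOfFinitePresentation p ∧ LocallyOfFiniteType q ∧ QuasiCompact q := by
  let ιU : (restr hI).U ⟶ A.U := Wp.ι
  have : IsOpenImmersion ιU := inferInstanceAs (IsOpenImmersion Wp.ι)
  let ι : (restr hI).R ⟶ A.R := (A.s ⁻¹ᵁ Wp).ι
  have : IsOpenImmersion ι := inferInstanceAs (IsOpenImmersion (A.s ⁻¹ᵁ Wp).ι)
  have hιs : ι ≫ A.s = (restr hI).s ≫ ιU := (morphismRestrict_ι A.s Wp).symm
  have hιt : ι ≫ A.t = (restr hI).t ≫ ιU := (restrT_ι hI).symm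
  let W : A.U.Opens := ιU ''ᵁ W'
  have hWle : W ≤ Wp := by rintro _ ⟨z, -, rfl⟩; exact z.2
  have hmem : ∀ z, ιU z ∈ W ↔ z ∈ W' := fun z =>
    ⟨fun ⟨z', hz', e⟩ => ιU.isOpenEmbedding.injective e ▸ hz', fun h => ⟨z, h, rfl⟩⟩
  have hW : A.t ⁻¹ᵁ W = A.s ⁻¹ᵁ W := by
    ext r
    by_cases hr : r ∈ A.s ⁻¹ᵁ Wp
    · let r' : (restr hI).R := ⟨r, hr⟩
      change A.t (ι r') ∈ W ↔ A.s (ι r') ∈ W
      rw [← Scheme.Hom.comp_apply, ← Scheme.Hom.comp_apply, hιt, hιs, Scheme.Hom.comp_apply,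
        Scheme.Hom.comp_apply, hmem, hmem]
      exact SetLike.ext_iff.mp hW' r'
    · exact ⟨fun h => (hr ((hI.mem_iff r).2 (hWle h))).elim, fun h => (hr (hWle h)).elim⟩
  let eW : (W : Scheme.{u}) ≅ (W' : Scheme.{u}) := (ιU.isoImage W').symm
  have heW : eW.hom ≫ W'.ι ≫ ιU = W.ι := ιU.isoImage_inv_ι W'
  let j : ((restr hI).s ⁻¹ᵁ W').toScheme ⟶ A.R := ((restr hI).s ⁻¹ᵁ W').ι ≫ ι
  have hrange : Set.range (A.s ⁻¹ᵁ W).ι = Set.range j := by
    rw [Scheme.Opens.range_ι]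
    ext r
    constructor
    · intro hr
      let r' : (restr hI).R := ⟨r, show A.s r ∈ Wp from hWle hr⟩
      have hr' : A.s (ι r') ∈ W := hr
      rw [← Scheme.Hom.comp_apply, hιs, Scheme.Hom.comp_apply, hmem] at hr'
      exact ⟨⟨r', hr'⟩, rfl⟩
    · rintro ⟨z, rfl⟩
      change A.s (ι z.1) ∈ W
      rw [← Scheme.Hom.comp_apply, hιs, Scheme.Hom.comp_apply, hmem]
      exact z.2
  let eR := IsOpenImmersion.isoOfRangeEq (A.s ⁻¹ᵁ W).ι j hrange
  have heR : eR.hom ≫ ((restr hI).s ⁻¹ᵁ W').ι ≫ ι = (A.s ⁻¹ᵁ W).ι :=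
    IsOpenImmersion.isoOfRangeEq_hom_fac _ _ hrange
  have hf : A.t.resLE W (A.s ⁻¹ᵁ W) hW.ge ≫ eW.hom =
      eR.hom ≫ (restr hI).t.resLE W' ((restr hI).s ⁻¹ᵁ W') hW'.ge := by
    rw [← cancel_mono (W'.ι ≫ ιU), Category.assoc, heW, Scheme.Hom.resLE_comp_ι, Category.assoc,
      Scheme.Hom.resLE_comp_ι_assoc, ← hιt, reassoc_of% heR]
  have hg : (A.s ∣_ W) ≫ eW.hom = eR.hom ≫ ((restr hI).s ∣_ W') := by
    rw [← cancel_mono (W'.ι ≫ ιU), Category.assoc, heW, morphismRestrict_ι, Category.assoc,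
      morphismRestrict_ι_assoc, ← hιs, reassoc_of% heR]
  have w' : A.t.resLE W (A.s ⁻¹ᵁ W) hW.ge ≫ eW.hom ≫ p = (A.s ∣_ W) ≫ eW.hom ≫ p := by
    rw [reassoc_of% hf, w, reassoc_of% hg]
  refine ⟨W, hW, ?_, V, eW.hom ≫ p, w', q, isColimit_cofork_congr eR.hom eW hf hg col w', ?_, inferInstance,
    inferInstance, inferInstance, h7, h8⟩
  · change Dense (ιU '' (W' : Set (restr hI).U))
    exact (show DenseRange ιU from by
      change Dense (Set.range Wp.ι); rwa [Scheme.Opens.range_ι]).dense_image ιU.continuous hd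
  · rw [Category.assoc, hq, show (restr hI).pU = ιU ≫ A.pU from rfl, reassoc_of% heW]

/-- A groupoid on a reduced scheme has a quotient on a dense saturated open. -/
theorem exists_dense_quotient_reduced [IsNoetherian S] [Flat A.s] [LocallyOfFiniteType A.s] [QuasiCompact A.s]
    [LocallyOfFiniteType A.pU] [QuasiCompact A.pU] [IsReduced A.U] :
    ∃ (W : A.U.Opens) (hW : A.t ⁻¹ᵁ W = A.s ⁻¹ᵁ W), Dense (W : Set A.U) ∧
      ∃ (V : Scheme.{u}) (p : (W : Scheme.{u}) ⟶ V)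
        (w : A.t.resLE W (A.s ⁻¹ᵁ W) hW.ge ≫ p = (A.s ∣_ W) ≫ p) (q : V ⟶ S),
        Nonempty (IsColimit (Cofork.ofπ p w)) ∧ p ≫ q = W.ι ≫ A.pU ∧
        Surjective p ∧ Flat p ∧ LocallyOfFinitePresentation p ∧ LocallyOfFiniteType q ∧ QuasiCompact q := by
  have : IsLocallyNoetherian A.U := LocallyOfFiniteType.isLocallyNoetherian A.pU
  have : CompactSpace A.U := QuasiCompact.compactSpace_of_compactSpace A.pU
  have : IsNoetherian A.U := {}
  have : IsLocallyNoetherian A.R := LocallyOfFiniteType.isLocallyNoetherian A.s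
  have : CompactSpace A.R := QuasiCompact.compactSpace_of_compactSpace A.s
  have : IsNoetherian A.R := {}
  have : LocallyOfFinitePresentation A.s := LocallyOfFinitePresentation.iff_locallyOfFiniteType.2 ‹_›
  have : IsLocallyNoetherian (pullback A.pU A.pU) :=
    LocallyOfFiniteType.isLocallyNoetherian (pullback.fst A.pU A.pU ≫ A.pU)
  have : LocallyOfFiniteType (A.j ≫ pullback.snd A.pU A.pU) := by rw [j_snd]; infer_instance
  have : LocallyOfFiniteType A.j := locallyOfFiniteType_of_comp A.j (pullback.snd A.pU A.pU)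
  have : QuasiCompact A.j := inferInstance
  have : LocallyOfFiniteType A.stabilizerToU :=
    MorphismProperty.of_isPullback (P := @LocallyOfFiniteType) (stIncl_isPullback A) ‹_›
  have : QuasiCompact A.stabilizerToU :=
    MorphismProperty.of_isPullback (P := @QuasiCompact) (stIncl_isPullback A) ‹_›
  obtain ⟨U₀, hU₀d, hU₀f, -⟩ := Groth.Agent.FlatCrit65.exists_dense_flat_lfp A.stabilizerToU
  have : MorphismProperty.DescendsAlong (@Flat : MorphismProperty Scheme.{u}) SpPts86.fppfMor := SpPts86.flat_descends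
  have hloc : MorphismProperty.IsLocalAtTarget (@Flat : MorphismProperty Scheme.{u})
      (Scheme.precoverage (@Flat ⊓ @LocallyOfFinitePresentation)) :=
    SpPts86.isLocalAtTarget_fppf _
  let Wp : A.U.Opens := ⨆ W : {W : A.U.Opens // Flat (A.stabilizerToU ∣_ W)}, W.1
  have hWp : Flat (A.stabilizerToU ∣_ Wp) := by
    refine IsZariskiLocalAtTarget.of_iSup_eq_top (P := @Flat)
      (fun W : {W : A.U.Opens // Flat (A.stabilizerToU ∣_ W)} => Wp.ι ⁻¹ᵁ W.1) ?_ fun W => ?_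
    · rw [← Scheme.Hom.preimage_iSup]; exact Wp.ι_preimage_self
    · refine (MorphismProperty.arrow_mk_iso_iff (@Flat : MorphismProperty Scheme.{u})
        (morphismRestrictRestrict A.stabilizerToU Wp (Wp.ι ⁻¹ᵁ W.1) ≪≫
        morphismRestrictEq A.stabilizerToU ?_)).mpr W.2
      rw [Scheme.Hom.image_preimage_eq_opensRange_inf, Scheme.Opens.opensRange_ι, inf_eq_right]
      exact le_iSup (fun W : {W : A.U.Opens // Flat (A.stabilizerToU ∣_ W)} => W.1) W
  obtain ⟨b, hb⟩ := exists_stab_pullback A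
  have hinv : A.s ⁻¹ᵁ Wp = A.t ⁻¹ᵁ Wp :=
    Grpd80.largest_open_invariant A (@Flat ⊓ @LocallyOfFinitePresentation)
      (fun _ h => ⟨inferInstance, inferInstance⟩) @Flat ⟨inferInstance, inferInstance⟩
      ⟨inferInstance, inferInstance⟩ A.t.isOpenMap A.stabilizerToU _ (pullback.fst _ _) b
      (IsPullback.of_hasPullback _ _) hb Wp hWp
      (fun W hW => le_iSup (fun W : {W : A.U.Opens // Flat (A.stabilizerToU ∣_ W)} => W.1) ⟨W, hW⟩)
  have hI : IsInv A Wp := hinv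
  let A' := restr hI
  have : CompactSpace Wp := isCompact_iff_compactSpace.1 (TopologicalSpace.NoetherianSpace.isCompact _)
  have : LocallyOfFiniteType A'.pU := inferInstanceAs (LocallyOfFiniteType (Wp.ι ≫ A.pU))
  have : QuasiCompact A'.pU := inferInstanceAs (QuasiCompact (Wp.ι ≫ A.pU))
  have : LocallyOfFiniteType A'.s := inferInstanceAs (LocallyOfFiniteType (A.s ∣_ Wp))
  have : QuasiCompact A'.s := inferInstanceAs (QuasiCompact (A.s ∣_ Wp))
  have : Flat (pullback.fst A'.j A'.j) := flat_fst_restr_j A hI hWp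
  obtain ⟨W', hW', hd, V, p, w, q, ⟨col⟩, hq, h4, h5, h6, h7, h8⟩ := exists_dense_quotient_flatKer A'
  exact restr_transfer A hI (hU₀d.mono (show (U₀ : Set A.U) ⊆ Wp from
      le_iSup (fun W : {W : A.U.Opens // Flat (A.stabilizerToU ∣_ W)} => W.1) ⟨U₀, hU₀f⟩))
    W' hW' hd V p w q col hq h4 h5 h6 h7 h8

end Groth.Agent.GrpQ80
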