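import Mathlib
import Groth.Agent.Alg80.QuasiSection

/-!
Flat quasi-finite covers suffice for the fppf sheaf condition.
-/

universe w u v₁ u₁

set_option autoImplicit false

namespace Groth.Agent.GrpQ80.QFCovers

open CategoryTheory CategoryTheory.Limits AlgebraicGeometry Opposite

/-- The sheaf condition for a single arrow follows from that for a refinement and separatedness
for the base change of the refinement. -/
theorem isSheafFor_singleton_of_refinement {C : Type u₁} [Category.{v₁} C] (F : Cᵒᵖ ⥤ Type w)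
    {T S Q : C} (f : T ⟶ S) (g : Q ⟶ S) [HasPullback f g] (h : Q ⟶ T) (hg : h ≫ f = g)
    (Hg : Presieve.IsSheafFor F (Presieve.singleton g))
    (Hp : Presieve.IsSeparatedFor F (Presieve.singleton (pullback.fst f g))) :
    Presieve.IsSheafFor F (Presieve.singleton f) := by
  intro x hx
  let x₀ := x f (Presieve.singleton_self f)
  have ex : ∀ {Z : C} (j : Z ⟶ S), Presieve.singleton g j → ∃ h' : Z ⟶ T, h' ≫ f = j := by
    rintro Z j ⟨⟩
    exact ⟨h, hg⟩
  let xg : Presieve.FamilyOfElements F (Presieve.singleton g) :=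
    fun Z j hj => F.map (ex j hj).choose.op x₀
  have hxg : xg.Compatible := by
    intro Y₁ Y₂ W p₁ p₂ j₁ j₂ h₁ h₂ e
    have := hx (p₁ ≫ (ex j₁ h₁).choose) (p₂ ≫ (ex j₂ h₂).choose) (Presieve.singleton_self f)
      (Presieve.singleton_self f) (by
        rw [Category.assoc, Category.assoc, (ex j₁ h₁).choose_spec, (ex j₂ h₂).choose_spec, e])
    simpa [xg, x₀] using this
  obtain ⟨y, hy, huniq⟩ := Hg xg hxg
  have hyg : F.map g.op y = F.map h.op x₀ := by
    refine (hy g (Presieve.singleton_self g)).trans ?_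
    have := hx (ex g (Presieve.singleton_self g)).choose h (Presieve.singleton_self f)
      (Presieve.singleton_self f) (by rw [(ex g (Presieve.singleton_self g)).choose_spec, hg])
    exact this
  refine ⟨y, ?_, ?_⟩
  · rintro Z j ⟨⟩
    refine Hp.ext ?_
    rintro W k ⟨⟩
    have h1 := hx (pullback.fst f g) (pullback.snd f g ≫ h) (Presieve.singleton_self f)
      (Presieve.singleton_self f) (by rw [Category.assoc, hg, pullback.condition])
    calc F.map (pullback.fst f g).op (F.map f.op y)
        = F.map (pullback.fst f g ≫ f).op y := by simp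
      _ = F.map (pullback.snd f g).op (F.map g.op y) := by rw [pullback.condition]; simp
      _ = F.map (pullback.snd f g ≫ h).op x₀ := by rw [hyg]; simp
      _ = F.map (pullback.fst f g).op x₀ := h1.symm
  · intro y' hy'
    refine huniq y' ?_
    rintro Z j hj
    have e1 : F.map f.op y' = x₀ := hy' f (Presieve.singleton_self f)
    show F.map j.op y' = F.map (ex j hj).choose.op x₀
    have h2 := congrArg (fun k => F.map k.op y') (ex j hj).choose_spec
    simpa [← e1] using h2.symm

/-- A flat surjective morphism of finite presentation of affine schemes has a flat quasi-finite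
quasi-section. -/
theorem exists_qf_refinement {R A : CommRingCat.{u}} (φ : R ⟶ A) [Flat (Spec.map φ)]
    [LocallyOfFinitePresentation (Spec.map φ)] [Surjective (Spec.map φ)] :
    ∃ (Q : Scheme.{u}) (g : Q ⟶ Spec R) (h : Q ⟶ Spec A), IsAffine Q ∧ h ≫ Spec.map φ = g ∧
      Flat g ∧ Surjective g ∧ LocallyOfFinitePresentation g ∧ LocallyQuasiFinite g := by
  letI : Algebra R A := φ.hom.toAlgebra
  haveI : Algebra.FinitePresentation R A :=
    (HasRingHomProperty.Spec_iff (P := @LocallyOfFinitePresentation)).mp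
      (inferInstance : LocallyOfFinitePresentation (Spec.map φ))
  haveI : Module.Flat R A := RingHom.flat_algebraMap_iff.mp
    ((HasRingHomProperty.Spec_iff (P := @Flat)).mp (inferInstance : Flat (Spec.map φ)))
  choose B _ _ j hfp hfl hqf hmem using fun p : PrimeSpectrum R =>
    Alg80.QuasiSection.exists_quasiSection (A := A) p ((Spec.map φ).surjective p)
  let U : PrimeSpectrum R → Set (PrimeSpectrum R) :=
    fun p => Set.range (PrimeSpectrum.comap (algebraMap R (B p)))
  have hU : ∀ p, IsOpen (U p) := fun p => by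
    haveI := hfp p
    haveI := hfl p
    exact (PrimeSpectrum.isOpenMap_comap_of_hasGoingDown_of_finitePresentation).isOpen_range
  obtain ⟨s, hs⟩ := isCompact_univ.elim_finite_subcover U hU
    (fun p _ => Set.mem_iUnion.mpr ⟨p, hmem p⟩)
  let X : s → Scheme.{u} := fun i => Spec (CommRingCat.of (B i.1))
  let gi : ∀ i : s, X i ⟶ Spec R := fun i => Spec.map (CommRingCat.ofHom (algebraMap R (B i.1)))
  let hi : ∀ i : s, X i ⟶ Spec A := fun i => Spec.map (CommRingCat.ofHom (j i.1).toRingHom)
  refine ⟨∐ X, Sigma.desc gi, Sigma.desc hi, inferInstance, ?_, ?_, ?_, ?_, ?_⟩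
  · refine Sigma.hom_ext _ _ fun i => ?_
    rw [Sigma.ι_desc_assoc, Sigma.ι_desc]
    show Spec.map _ ≫ Spec.map φ = Spec.map _
    rw [← Spec.map_comp]
    congr 1
    ext r
    exact (j i.1).commutes r
  · have : IsZariskiLocalAtSource (@Flat : MorphismProperty Scheme.{u}) :=
      HasRingHomProperty.instIsZariskiLocalAtSource
    exact IsZariskiLocalAtSource.sigmaDesc fun i =>
      (HasRingHomProperty.Spec_iff (P := @Flat)).mpr (RingHom.flat_algebraMap_iff.mpr (hfl i.1))
  · refine ⟨fun p => ?_⟩
    obtain ⟨q, hq, hpq⟩ := Set.mem_iUnion₂.mp (hs (Set.mem_univ p))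
    obtain ⟨z, hz⟩ := hpq
    exact ⟨Sigma.ι X ⟨q, hq⟩ z, by rw [← Scheme.Hom.comp_apply, Sigma.ι_desc]; exact hz⟩
  · have : IsZariskiLocalAtSource (@LocallyOfFinitePresentation : MorphismProperty Scheme.{u}) :=
      HasRingHomProperty.instIsZariskiLocalAtSource
    exact IsZariskiLocalAtSource.sigmaDesc fun i =>
      (HasRingHomProperty.Spec_iff (P := @LocallyOfFinitePresentation)).mpr
        (RingHom.finitePresentation_algebraMap.mpr (hfp i.1))
  · have : IsZariskiLocalAtSource (@LocallyQuasiFinite : MorphismProperty Scheme.{u}) :=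
      HasRingHomProperty.instIsZariskiLocalAtSource
    exact IsZariskiLocalAtSource.sigmaDesc fun i =>
      (HasRingHomProperty.Spec_iff (P := @LocallyQuasiFinite)).mpr
        (RingHom.quasiFinite_algebraMap.mpr (hqf i.1))

theorem fppfPrecoverage_eq :
    Scheme.fppfPrecoverage.{u} = Scheme.propQCPrecoverage (@Flat ⊓ @LocallyOfFinitePresentation) := by
  refine le_antisymm ?_ inf_le_right
  refine le_inf (Scheme.precoverage_le_qcPrecoverage_of_isOpenMap ?_) le_rfl
  intro X Y f hf
  obtain ⟨_, _⟩ := hf
  exact f.isOpenMap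

theorem isSheaf_fppf_iff (F : Scheme.{u}ᵒᵖ ⥤ Type w) :
    Presheaf.IsSheaf Scheme.fppfTopology F ↔
      Presheaf.IsSheaf Scheme.zariskiTopology F ∧
        ∀ (T S : Scheme.{u}) [IsAffine T] [IsAffine S] (f : T ⟶ S)
          [Flat f] [Surjective f] [LocallyOfFinitePresentation f] [LocallyQuasiFinite f],
          Presieve.IsSheafFor F (Presieve.singleton f) := by
  haveI : IsZariskiLocalAtSource (@Flat : MorphismProperty Scheme.{u}) :=
    HasRingHomProperty.instIsZariskiLocalAtSource
  haveI : IsZariskiLocalAtSource (@LocallyOfFinitePresentation : MorphismProperty Scheme.{u}) :=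
    HasRingHomProperty.instIsZariskiLocalAtSource
  haveI : (@Flat ⊓ @LocallyOfFinitePresentation : MorphismProperty Scheme.{u}).IsMultiplicative :=
    { id_mem := fun X => ⟨(inferInstance : Flat (𝟙 X)),
        (inferInstance : LocallyOfFinitePresentation (𝟙 X))⟩
      comp_mem := fun f g hf hg => ⟨MorphismProperty.comp_mem _ _ _ hf.1 hg.1,
        MorphismProperty.comp_mem _ _ _ hf.2 hg.2⟩ }
  rw [isSheaf_iff_isSheaf_of_type, isSheaf_iff_isSheaf_of_type]
  constructor
  · intro hF
    refine ⟨Presieve.isSheaf_of_le _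
      (Precoverage.toGrothendieck_mono Scheme.zariskiPrecoverage_le_fppfPrecoverage) hF, ?_⟩
    intro T S _ _ f _ _ _ _
    exact hF.isSheafFor _ (Precoverage.generate_mem_toGrothendieck
      (Scheme.Hom.singleton_mem_fppfPrecoverage f))
  · rintro ⟨hzar, hqf⟩
    show Presieve.IsSheaf Scheme.fppfPrecoverage.toGrothendieck F
    rw [fppfPrecoverage_eq]
    refine (isSheaf_type_propQCTopology_iff F).mpr ⟨hzar, fun {R A} φ hφ hsurj => ?_⟩
    obtain ⟨_, _⟩ := hφ
    obtain ⟨Q, g, h, hQ, hg, hfl, hsu, hlfp, hlqf⟩ := exists_qf_refinement φ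
    refine isSheafFor_singleton_of_refinement F (Spec.map φ) g h hg (hqf Q _ g) ?_
    haveI : LocallyQuasiFinite (pullback.fst (Spec.map φ) g) :=
      MorphismProperty.pullback_fst _ _ hlqf
    exact (hqf _ _ (pullback.fst (Spec.map φ) g)).isSeparatedFor

end Groth.Agent.GrpQ80.QFCovers
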