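import Groth.Agent.Grpd80.SliceAt
import Groth.Agent.Amp73.Avoid
import Groth.Agent.Amp73.Local
import Groth.Agent.An92.Ample.Family
import Groth.Agent.MP99.Basic
import Groth.Agent.LimTop61.IdealLfp
import Groth.Agent.E4O.DvrCrit
import Groth.Prelude.Def_RelProj
import Mathlib.RingTheory.Ideal.AssociatedPrime.Localization
import Mathlib.AlgebraicGeometry.Morphisms.FiniteType

/-!
Cutting a closed subscheme by sections of an ample module until the image of a fibre is finite.
-/

set_option autoImplicit false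
set_option backward.isDefEq.respectTransparency.types false
set_option linter.style.haveILetI false
universe u

open CategoryTheory CategoryTheory.Limits AlgebraicGeometry IsLocalRing RingTheory.Sequence TopologicalSpace

namespace Groth.Agent.GrpQ80.QuasiPoint

open Groth.Agent.Grpd80

/-- An affine chart of a closed subscheme. -/
theorem exists_chart {F : Scheme.{u}} (I : F.IdealSheafData) {W : F.Opens} (hW : IsAffineOpen W)
    (J : Ideal Γ(F, W)) (hJ : J = I.ideal ⟨W, hW⟩) :
    ∃ k : Spec (CommRingCat.of (Γ(F, W) ⧸ J)) ⟶ I.subscheme, IsOpenImmersion k ∧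
      k ≫ I.subschemeι = Spec.map (CommRingCat.ofHom (Ideal.Quotient.mk J)) ≫ hW.fromSpec := by
  subst hJ
  exact ⟨I.subschemeCover.f ⟨W, hW⟩, I.subschemeCover.map_prop _,
    (I.subschemeCover_map_subschemeι _).trans (I.glueDataObjι_ι _)⟩

/-- A closed subscheme cut out near `q r` by a sequence regular on the fibre is flat at `r`. -/
theorem flat_cut {P F Z : Scheme.{u}} (v : P ⟶ Z) (q : P ⟶ F) [LocallyOfFinitePresentation v] (r : P)
    (hflat : (v.stalkMap r).hom.Flat) {W : F.Opens} (hW : IsAffineOpen W) (hr : q r ∈ W)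
    (os : List Γ(F, W)) (hm : ∀ o ∈ os, o ∈ (hW.primeIdealOf ⟨q r, hr⟩).asIdeal)
    (hreg : IsWeaklyRegular (FibQuot v r) (os.map (fibMap v q r hr)))
    (I : F.IdealSheafData) (hI : I.ideal ⟨W, hW⟩ = Ideal.ofList os)
    (p : ↥(pullback I.subschemeι q)) (hp : pullback.snd I.subschemeι q p = r) :
    ((pullback.snd I.subschemeι q ≫ v).stalkMap p).hom.Flat := by
  obtain ⟨p₀, hp₀, hfl, -⟩ := slice_at v q r hflat hW hr os hm hreg
  obtain ⟨k, hk, hkι⟩ := exists_chart I hW (Ideal.ofList os) hI.symm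
  let j := Spec.map (CommRingCat.ofHom (Ideal.Quotient.mk (Ideal.ofList os))) ≫ hW.fromSpec
  let K : pullback j q ⟶ pullback I.subschemeι q :=
    pullback.map _ _ _ _ k (𝟙 _) (𝟙 _) (by rw [Category.comp_id]; exact hkι.symm) (by simp)
  have hK : K ≫ pullback.snd _ _ = pullback.snd j q := by
    exact (pullback.lift_snd _ _ _).trans (Category.comp_id _)
  have : IsOpenImmersion k := hk
  have hKi : IsOpenImmersion K := by
    dsimp only [K]; infer_instance
  have hpp : K p₀ = p := (pullback.snd I.subschemeι q).injective (by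
    rw [← Scheme.Hom.comp_apply, hK, hp₀, hp])
  subst hpp
  exact (Unr55.stalkMap_iff_of_square RingHom.Flat.respectsIso (pullback.snd I.subschemeι q ≫ v)
    (pullback.snd j q ≫ v) K (𝟙 Z) (by rw [Category.comp_id, ← Category.assoc, hK]) p₀).2 hfl

/-- A closed subscheme cut out locally by finitely many equations is locally of finite presentation. -/
theorem lfp_of_locally_fg {X : Scheme.{u}} (I : X.IdealSheafData)
    (h : ∀ x : X, ∃ U : X.affineOpens, x ∈ U.1 ∧ (I.ideal U).FG) : LocallyOfFinitePresentation I.subschemeι := by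
  rw [HasRingHomProperty.iff_exists_appLE (P := @LocallyOfFinitePresentation)
    (RingHom.finitePresentation_stableUnderComposition.stableUnderCompositionWithLocalizationAway
      RingHom.finitePresentation_holdsForLocalizationAway).left]
  intro x
  obtain ⟨U, hxU, hfg⟩ := h (I.subschemeι x)
  refine ⟨U, ⟨_, U.2.preimage I.subschemeι⟩, hxU, le_rfl, ?_⟩
  rw [← Scheme.Hom.app_eq_appLE]
  refine RingHom.FinitePresentation.of_surjective _ (I.subschemeι.app_surjective U U.2) ?_
  rw [← Scheme.Hom.ker_apply _ U, I.ker_subschemeι]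
  exact hfg

/-- The zero scheme of a section of an invertible module is cut out locally by one equation. -/
theorem lfp_zeroScheme {X : Scheme.{u}} {M : X.Modules} (hM : PicF.IsInvertible M) (s : Coh.structureModule X ⟶ M) :
    LocallyOfFinitePresentation (PicF2.zeroScheme M s).subschemeι := by
  refine lfp_of_locally_fg _ fun x => ?_
  obtain ⟨V, hxV, -, E, hE⟩ := Mero90.exists_affine_frame hM x ⊤ trivial
  obtain ⟨c, hc⟩ := Amp73.exists_coord s hE
  refine ⟨V, hxV, ?_⟩
  rw [Var76.ZeroScheme.ideal_zeroScheme (Mero90.isFinLocFreeOfRank_of_isInvertible hM) V hE hc]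
  exact Submodule.fg_span_singleton c

variable {T X Y Z : Scheme.{u}}

/-- Cutting down to finite nonempty image, by induction on the closed subscheme. -/
theorem exists_cut_fibre (pX : X ⟶ T) (pY : Y ⟶ T) (pZ : Z ⟶ T)
    [LocallyOfFiniteType pX] [QuasiCompact pX] [LocallyOfFiniteType pZ]
    (L : X.Modules) (hL : CohB1.IsAmple L)
    (u : Y ⟶ X) (v : Y ⟶ Z) (hu : u ≫ pX = pY) (hv : v ≫ pZ = pY) [QuasiCompact v] (z : Z)
    (hzc : closure ({z} : Set Z) ∩ pZ ⁻¹' {pZ z} = {z}) :
    ∀ (C : Closeds ↥(pX.fiber (pZ z))) (F : Scheme.{u}) (i : F ⟶ X) [IsClosedImmersion i]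
      [LocallyOfFinitePresentation i] [LocallyOfFinitePresentation (pullback.snd i u ≫ v)],
      (pX.fiberι (pZ z)) ⁻¹' Set.range i = (C : Set _) →
      (∃ y : ↥(pullback i u), (pullback.snd i u ≫ v) y = z) →
      (∀ y : ↥(pullback i u), (pullback.snd i u ≫ v) y = z → ((pullback.snd i u ≫ v).stalkMap y).hom.Flat) →
      ∃ (F' : Scheme.{u}) (i' : F' ⟶ X), IsClosedImmersion i' ∧ LocallyOfFinitePresentation i' ∧
        ((fun y : ↥(pullback i' u) => i' (pullback.fst i' u y)) '' {y | (pullback.snd i' u ≫ v) y = z}).Finite ∧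
        (∃ y : ↥(pullback i' u), (pullback.snd i' u ≫ v) y = z) ∧
        (∀ y : ↥(pullback i' u), (pullback.snd i' u ≫ v) y = z → ((pullback.snd i' u ≫ v).stalkMap y).hom.Flat) := by
  have : LocallyOfFiniteType (pX.fiberToSpecResidueField (pZ z)) :=
    MorphismProperty.pullback_snd (P := @LocallyOfFiniteType) pX _ inferInstance
  have : QuasiCompact (pX.fiberToSpecResidueField (pZ z)) :=
    MorphismProperty.pullback_snd (P := @QuasiCompact) pX _ inferInstance
  have : IsLocallyNoetherian (pX.fiber (pZ z)) :=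
    LocallyOfFiniteType.isLocallyNoetherian (pX.fiberToSpecResidueField (pZ z))
  have : CompactSpace ↥(pX.fiber (pZ z)) :=
    QuasiCompact.compactSpace_of_compactSpace (pX.fiberToSpecResidueField (pZ z))
  have : AlgebraicGeometry.IsNoetherian (pX.fiber (pZ z)) := {}
  intro C
  induction C using WellFoundedLT.induction with
  | ind C ih =>
  intro F i _ _ _ hC hne hflat
  classical
  let q := pullback.fst i u
  let v' := pullback.snd i u ≫ v
  have hfp : LocallyOfFinitePresentation v' := ‹LocallyOfFinitePresentation (pullback.snd i u ≫ _)›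
  have : QuasiCompact v' := inferInstance
  -- charts of the fibre
  let Fb := v'.fiber z
  let ι₀ := v'.fiberι z
  let π := v'.fiberToSpecResidueField z
  have : LocallyOfFiniteType π := MorphismProperty.pullback_snd (P := @LocallyOfFiniteType) v' _ inferInstance
  have : JacobsonSpace Fb := LocallyOfFiniteType.jacobsonSpace π
  have : QuasiCompact π := MorphismProperty.pullback_snd (P := @QuasiCompact) v' _ inferInstance
  have : CompactSpace Fb := QuasiCompact.compactSpace_of_compactSpace π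
  let 𝒰 := Fb.affineCover.finiteSubcover
  have hfaff : ∀ k, IsAffine (𝒰.X k) := fun k => by dsimp [𝒰]; infer_instance
  have hring : ∀ k, IsNoetherianRing Γ(𝒰.X k, ⊤) := fun k => by
    have : IsLocallyNoetherian (𝒰.X k) := LocallyOfFiniteType.isLocallyNoetherian (𝒰.f k ≫ π)
    exact IsLocallyNoetherian.component_noetherian ⟨⊤, isAffineOpen_top _⟩
  let τ : Fb ⟶ X := ι₀ ≫ q ≫ i
  -- the images of the associated points
  let A : ∀ k, Set (𝒰.X k) := fun k =>
    {η | ((isAffineOpen_top (𝒰.X k)).primeIdealOf ⟨η, trivial⟩).asIdeal ∈ associatedPrimes Γ(𝒰.X k, ⊤) Γ(𝒰.X k, ⊤)}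
  have hA : ∀ k, (A k).Finite := fun k => by
    refine Set.Finite.of_finite_image
      (f := fun η => ((isAffineOpen_top (𝒰.X k)).primeIdealOf ⟨η, trivial⟩).asIdeal)
      ((associatedPrimes.finite Γ(𝒰.X k, ⊤) Γ(𝒰.X k, ⊤)).subset (Set.image_subset_iff.2 fun η hη => hη)) ?_
    intro a _ b _ hab
    have h := congrArg (isAffineOpen_top (𝒰.X k)).fromSpec (PrimeSpectrum.ext hab :
      (isAffineOpen_top (𝒰.X k)).primeIdealOf ⟨a, trivial⟩ = (isAffineOpen_top (𝒰.X k)).primeIdealOf ⟨b, trivial⟩)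
    rwa [(isAffineOpen_top (𝒰.X k)).fromSpec_primeIdealOf, (isAffineOpen_top (𝒰.X k)).fromSpec_primeIdealOf] at h
  let S : Set X := ⋃ k, (fun η => τ (𝒰.f k η)) '' A k
  have hS : S.Finite := Set.finite_iUnion fun k => (hA k).image _
  -- the fibre of `X` over the image of `z`
  let F₀ := pX.fiber (pZ z)
  let G₀ := pZ.fiber (pZ z)
  let ξ : Spec (Z.residueField z) ⟶ G₀ := pullback.lift (Z.fromSpecResidueField z)
    (Spec.map (pZ.residueFieldMap z)) (by rw [Scheme.Hom.SpecMap_residueFieldMap_fromSpecResidueField])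
  have hξ : ξ ≫ pZ.fiberι (pZ z) = Z.fromSpecResidueField z := pullback.lift_fst _ _ _
  have : IsPreimmersion (ξ ≫ pZ.fiberι (pZ z)) := by rw [hξ]; infer_instance
  have : IsPreimmersion ξ := IsPreimmersion.of_comp ξ (pZ.fiberι (pZ z))
  have hξr : Set.range ξ = {pZ.asFiber z} := by
    refine Set.eq_singleton_iff_nonempty_unique_mem.2 ⟨Set.range_nonempty _, ?_⟩
    rintro _ ⟨w, rfl⟩
    apply (pZ.fiberι (pZ z)).isEmbedding.injective
    rw [pZ.fiberι_asFiber, ← Scheme.Hom.comp_apply, hξ, Scheme.fromSpecResidueField_apply]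
  have : IsClosedImmersion ξ := .of_isPreimmersion ξ (hξr ▸ (isClosed_asFiber_iff pZ z).2 hzc)
  have : LocallyOfFiniteType (pZ.fiberToSpecResidueField (pZ z)) :=
    MorphismProperty.pullback_snd (P := @LocallyOfFiniteType) pZ _ inferInstance
  have : LocallyOfFiniteType (Spec.map (pZ.residueFieldMap z)) := by
    rw [show Spec.map (pZ.residueFieldMap z) = ξ ≫ pZ.fiberToSpecResidueField (pZ z) from
      (pullback.lift_snd _ _ _).symm]
    infer_instance
  let g : Fb ⟶ F₀ := pullback.lift τ (π ≫ Spec.map (pZ.residueFieldMap z)) (by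
    rw [Category.assoc π, Scheme.Hom.SpecMap_residueFieldMap_fromSpecResidueField, ← reassoc_of% (v'.fiber_fac z)]
    simp only [τ, q, v', Category.assoc, hv]
    rw [reassoc_of% (pullback.condition (f := i) (g := u)), hu])
  have : LocallyOfFiniteType g := by
    have : LocallyOfFiniteType (g ≫ pX.fiberToSpecResidueField (pZ z)) := by
      rw [show g ≫ pX.fiberToSpecResidueField (pZ z) = _ from pullback.lift_snd _ _ _]
      infer_instance
    exact locallyOfFiniteType_of_comp g (pX.fiberToSpecResidueField (pZ z))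
  have hτg : ∀ η, pX.fiberι (pZ z) (g η) = τ η := fun η => by
    rw [← Scheme.Hom.comp_apply, show g ≫ pX.fiberι (pZ z) = τ from pullback.lift_fst _ _ _]
  have hgcl : ∀ m ∈ closedPoints Fb, IsClosed ({g m} : Set F₀) := fun m hm =>
    g.closePoints_subset_preimage_closedPoints hm
  by_cases hall : ∀ m ∈ closedPoints Fb, τ m ∈ S
  · refine ⟨F, i, inferInstance, inferInstance, hS.subset ?_, hne, hflat⟩
    let K : Set F₀ := {σ | IsClosed ({σ} : Set F₀) ∧ pX.fiberι (pZ z) σ ∈ S}
    have hK : K.Finite := (hS.preimage ((pX.fiberι (pZ z)).isEmbedding.injective.injOn)).subset fun σ hσ => hσ.2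
    have hKc : IsClosed (g ⁻¹' K) := by
      refine IsClosed.preimage g.continuous ?_
      rw [← Set.biUnion_of_singleton K]
      exact hK.isClosed_biUnion fun σ hσ => hσ.1
    have hall' : g ⁻¹' K = Set.univ := by
      refine Set.univ_subset_iff.1 ?_
      rw [← closure_closedPoints (X := Fb)]
      exact hKc.closure_subset_iff.2 fun m hm => ⟨hgcl m hm, (hτg m).symm ▸ hall m hm⟩
    rintro _ ⟨y, hy, rfl⟩
    obtain ⟨m, rfl⟩ : y ∈ Set.range ι₀ := by rw [Scheme.Hom.range_fiberι]; exact hy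
    have h : g m ∈ K := hall'.ge (Set.mem_univ m)
    have := h.2
    rwa [hτg] at this
  push Not at hall
  obtain ⟨m₀, hm₀, hm₀S⟩ := hall
  -- the associated points avoid the closure of the chosen point
  let U : X.Opens := ⟨(closure {τ m₀})ᶜ, isClosed_closure.isOpen_compl⟩
  have hSU : S ⊆ U := by
    intro σ hσ hcl
    obtain ⟨k, η, -, rfl⟩ := Set.mem_iUnion.1 hσ
    have hsp : g m₀ ⤳ g (𝒰.f k η) := (pX.fiberι (pZ z)).isEmbedding.toIsInducing.specializes_iff.1
      (by rw [hτg, hτg]; exact specializes_iff_mem_closure.2 hcl)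
    have h := hsp.mem_closure
    rw [(hgcl m₀ hm₀).closure_eq] at h
    refine hm₀S ?_
    rw [← hτg, ← Set.mem_singleton_iff.1 h, hτg]
    exact hσ
  obtain ⟨G, ⟨n, s, rfl⟩, hSG, hGU, -⟩ := Amp73.exists_affine_genSet_of_finite hL hS hSU
  let M := CohB1.tensorPow L (n + 1)
  have hM : PicF.IsInvertible M := EGA73.isInvertible_tensorPow hL.1 _
  let D := PicF2.zeroScheme M s
  let I := D.comap i
  let i' : I.subscheme ⟶ X := I.subschemeι ≫ i
  have : IsClosedImmersion i' := inferInstance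
  let C' : Closeds F₀ := ⟨pX.fiberι (pZ z) ⁻¹' Set.range i',
    i'.isClosedEmbedding.isClosed_range.preimage (pX.fiberι (pZ z)).continuous⟩
  have hm₀D : τ m₀ ∈ D.support := by
    by_contra h
    exact hGU ((An92.AmpleFam.mem_genLocus_iff_notMem_support hM s _).2 h) (subset_closure rfl)
  have hrange : ∀ x, x ∈ Set.range i' ↔ x ∈ Set.range i ∧ x ∈ D.support := by
    intro x
    constructor
    · rintro ⟨a, rfl⟩
      have h : I.subschemeι a ∈ I.support := I.range_subschemeι.le ⟨a, rfl⟩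
      rw [Scheme.IdealSheafData.support_comap] at h
      exact ⟨⟨_, rfl⟩, h⟩
    · rintro ⟨⟨a, rfl⟩, ha⟩
      obtain ⟨b, hb⟩ : a ∈ Set.range I.subschemeι := by
        rw [I.range_subschemeι, SetLike.mem_coe, Scheme.IdealSheafData.support_comap]
        exact ha
      exact ⟨b, by rw [Scheme.Hom.comp_apply, hb]⟩
  have hlt : C' < C := by
    refine lt_of_le_of_ne (fun x hx => hC.le ((hrange _).1 hx).1) fun h => ?_
    obtain ⟨k, η, hη⟩ : ∃ k, (A k).Nonempty := by
      obtain ⟨k, a, -⟩ := 𝒰.exists_eq m₀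
      have : Nontrivial Γ(𝒰.X k, ⊤) :=
        ((isAffineOpen_top (𝒰.X k)).primeIdealOf ⟨a, trivial⟩).nontrivial
      obtain ⟨P, hP⟩ := associatedPrimes.nonempty Γ(𝒰.X k, ⊤) Γ(𝒰.X k, ⊤)
      refine ⟨k, (isAffineOpen_top (𝒰.X k)).fromSpec ⟨P, hP.isPrime⟩, ?_⟩
      show _ ∈ associatedPrimes _ _
      convert hP using 2
      exact (isAffineOpen_top (𝒰.X k)).fromSpec.isOpenEmbedding.injective
        ((isAffineOpen_top (𝒰.X k)).fromSpec_primeIdealOf _) |> congrArg PrimeSpectrum.asIdeal
    have hσ : τ (𝒰.f k η) ∈ S := Set.mem_iUnion.2 ⟨k, η, hη, rfl⟩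
    have hσC : g (𝒰.f k η) ∈ C := hC.le ⟨q (ι₀ (𝒰.f k η)), (hτg _).symm⟩
    rw [← h] at hσC
    have h2 := ((hrange _).1 hσC).2
    rw [hτg] at h2
    exact (An92.AmpleFam.mem_genLocus_iff_notMem_support hM s _).1 (hSG hσ) h2
  -- the new pullback maps to the old one
  let e : pullback i' u ≅ pullback I.subschemeι q :=
    (pullbackRightPullbackFstIso i u I.subschemeι).symm
  have he : e.hom ≫ pullback.snd I.subschemeι q ≫ v' = pullback.snd i' u ≫ v := by
    simp [e, v', q, i', pullbackRightPullbackFstIso_inv_snd_snd_assoc]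
  have hex : ∀ r : ↥(pullback i u), i (q r) ∈ D.support →
      ∃ p, pullback.snd I.subschemeι q p = r := by
    intro r hr
    obtain ⟨a, ha⟩ : q r ∈ Set.range I.subschemeι := by
      rw [I.range_subschemeι, SetLike.mem_coe, Scheme.IdealSheafData.support_comap]
      exact hr
    obtain ⟨p, -, hp⟩ := Scheme.Pullback.exists_preimage_pullback (f := I.subschemeι) (g := q) a r ha
    exact ⟨p, hp⟩
  have : LocallyOfFinitePresentation D.subschemeι := lfp_zeroScheme hM s
  have : LocallyOfFinitePresentation I.subschemeι := LimTop61.lfp_comap D i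
  have : LocallyOfFinitePresentation i' := inferInstance
  have : LocallyOfFinitePresentation (pullback.snd i' u ≫ v) := by rw [← he]; infer_instance
  refine ih C' hlt I.subscheme i' rfl ?_ ?_
  · obtain ⟨p, hp⟩ := hex (ι₀ m₀) hm₀D
    refine ⟨e.inv p, ?_⟩
    rw [← he, ← Scheme.Hom.comp_apply e.inv, Iso.inv_hom_id_assoc, Scheme.Hom.comp_apply, hp,
      ← Scheme.Hom.comp_apply, v'.fiber_fac, Scheme.Hom.comp_apply, Scheme.fromSpecResidueField_apply]
  intro y hy
  suffices h : ((pullback.snd I.subschemeι q ≫ v').stalkMap (e.hom y)).hom.Flat from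
    (Unr55.stalkMap_iff_of_square RingHom.Flat.respectsIso (pullback.snd I.subschemeι q ≫ v')
      (pullback.snd i' u ≫ v) e.hom (𝟙 Z) (by rw [Category.comp_id, he]) y).1 h
  have hr : v' (pullback.snd I.subschemeι q (e.hom y)) = z := by
    rw [← Scheme.Hom.comp_apply, ← Scheme.Hom.comp_apply, he]; exact hy
  obtain ⟨m', hm'⟩ : pullback.snd I.subschemeι q (e.hom y) ∈ Set.range ι₀ := by
    rw [Scheme.Hom.range_fiberι]; exact hr
  obtain ⟨k, m, rfl⟩ := 𝒰.exists_eq m'
  -- the equation of the divisor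
  obtain ⟨V, hxV, -, E, hE⟩ := Mero90.exists_affine_frame hM (τ (𝒰.f k m)) ⊤ trivial
  obtain ⟨c, hc⟩ := Amp73.exists_coord s hE
  have hD : D.ideal V = Ideal.span {c} :=
    Var76.ZeroScheme.ideal_zeroScheme (Mero90.isFinLocFreeOfRank_of_isInvertible hM) V hE hc
  let W : F.Opens := i ⁻¹ᵁ V.1
  have hW : IsAffineOpen W := V.2.preimage i
  let c' : Γ(F, W) := (i.app V.1).hom c
  have hI : I.ideal ⟨W, hW⟩ = Ideal.ofList [c'] := by
    rw [MP99.ideal_comap D i V ⟨W, hW⟩ le_rfl, hD, Ideal.map_span, Set.image_singleton]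
    simp [Ideal.ofList, c', W, Scheme.Hom.app_eq_appLE]
  have hqW : q (ι₀ (𝒰.f k m)) ∈ W := hxV
  let τF := 𝒰.f k ≫ ι₀ ≫ q
  have hbase : ∀ η, η ⤳ m → η ∈ A k → η ∈ (𝒰.X k).basicOpen ((τF.app W).hom c') := by
    intro η hηm hη
    have h1 : τ (𝒰.f k η) ∈ CohB1.genLocus M s ⊓ V.1 :=
      ⟨hSG (Set.mem_iUnion.2 ⟨k, η, hη, rfl⟩), (hηm.map (𝒰.f k ≫ τ).continuous).mem_open V.1.2 hxV⟩
    rw [Amp73.genLocus_inf_eq_basicOpen s hE hc] at h1
    rw [← Scheme.preimage_basicOpen, show c' = (i.app V.1).hom c from rfl]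
    show τF η ∈ F.basicOpen _
    rw [← Scheme.preimage_basicOpen]
    exact h1
  have hsuppI : q (ι₀ (𝒰.f k m)) ∈ I.support := by
    have h := I.range_subschemeι.le ⟨pullback.fst I.subschemeι q (e.hom y), rfl⟩
    rwa [← Scheme.Hom.comp_apply, pullback.condition, Scheme.Hom.comp_apply, ← hm'] at h
  suffices hregr : IsWeaklyRegular (FibQuot v' (ι₀ (𝒰.f k m))) ([c'].map (fibMap v' q _ hqW)) from
    flat_cut v' q _ (hflat _ (hm' ▸ hr)) hW hqW [c'] ?_ hregr I hI (e.hom y) hm'.symm
  · intro o ho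
    rw [List.mem_singleton.1 ho]
    by_contra hno
    refine (An92.AmpleFam.notMem_support_iff ⟨W, hW⟩ (f := c') ?_ hqW).2 ?_ hsuppI
    · rw [hI]; simp [Ideal.ofList]
    · letI := TopCat.Presheaf.algebra_section_stalk F.presheaf ⟨q (ι₀ (𝒰.f k m)), hqW⟩
      haveI := hW.isLocalization_stalk ⟨q (ι₀ (𝒰.f k m)), hqW⟩
      exact (IsLocalization.AtPrime.isUnit_to_map_iff _ _ c').2 hno
  · let Θ : FibQuot v' (ι₀ (𝒰.f k m)) ≃+* (𝒰.X k).presheaf.stalk m :=
      (FlatMor68.FibreStalk.fibreStalkEquiv v' z (𝒰.f k m)).trans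
        (asIso ((𝒰.f k).stalkMap m)).commRingCatIsoToRingEquiv
    letI := TopCat.Presheaf.algebra_section_stalk (𝒰.X k).presheaf (U := (⊤ : (𝒰.X k).Opens)) ⟨m, trivial⟩
    haveI := (isAffineOpen_top (𝒰.X k)).isLocalization_stalk ⟨m, trivial⟩
    let B := Γ(𝒰.X k, ⊤)
    let L₁ := (𝒰.X k).presheaf.stalk m
    haveI : IsNoetherianRing L₁ := IsLocalization.isNoetherianRing
      ((isAffineOpen_top (𝒰.X k)).primeIdealOf ⟨m, trivial⟩).asIdeal.primeCompl L₁ inferInstance
    let b := (τF.app W).hom c'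
    let a : L₁ := (𝒰.X k).presheaf.germ (τF ⁻¹ᵁ W) m hqW b
    have ha : Θ (fibMap v' q _ hqW c') = a := by
      show ((𝒰.f k).stalkMap m).hom (FlatMor68.FibreStalk.fibreStalkEquiv v' z (𝒰.f k m) (Ideal.Quotient.mk _ _)) = _
      rw [FlatMor68.FibreStalk.fibreStalkEquiv_mk]
      refine Eq.trans ?_ (Scheme.Hom.germ_stalkMap_apply τF W m hqW c')
      simp only [Scheme.Hom.stalkMap_comp, τF]
      rfl
    have hreg : a ∈ nonZeroDivisors L₁ := by
      by_contra hno
      have hmem : a ∈ ⋃ p ∈ associatedPrimes L₁ L₁, (p : Set L₁) := by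
        rw [biUnion_associatedPrimes_eq_compl_nonZeroDivisors]
        exact hno
      obtain ⟨p, hp, hap⟩ := Set.mem_iUnion₂.1 hmem
      have hpc := Module.associatedPrimes.comap_mem_associatedPrimes_of_mem_associatedPrimes_of_isLocalizedModule_of_fg
        ((isAffineOpen_top (𝒰.X k)).primeIdealOf ⟨m, trivial⟩).asIdeal.primeCompl (Algebra.linearMap B L₁) p hp
        (IsNoetherian.noetherian _)
      let η := (𝒰.X k).fromSpecStalk m ⟨p, hp.isPrime⟩
      have hη : η ∈ A k := by
        have h1 : (isAffineOpen_top (𝒰.X k)).primeIdealOf ⟨η, trivial⟩ =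
            Spec.map ((𝒰.X k).presheaf.germ ⊤ m trivial) ⟨p, hp.isPrime⟩ := by
          refine (isAffineOpen_top (𝒰.X k)).fromSpec.isOpenEmbedding.injective
            (((isAffineOpen_top (𝒰.X k)).fromSpec_primeIdealOf _).trans ?_)
          show η = _
          rw [← Scheme.Hom.comp_apply]
          exact congrArg (fun φ : Spec L₁ ⟶ 𝒰.X k => φ ⟨p, hp.isPrime⟩) ((isAffineOpen_top (𝒰.X k)).fromSpecStalk_eq_fromSpecStalk (x := m) trivial).symm
        show _ ∈ associatedPrimes _ _
        rw [h1]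
        exact hpc
      have hηm : η ⤳ m := (Scheme.range_fromSpecStalk (x := m)).le ⟨_, rfl⟩
      have h2 : (⟨p, hp.isPrime⟩ : Spec _) ∈ ((𝒰.X k).fromSpecStalk m) ⁻¹ᵁ (𝒰.X k).basicOpen b :=
        hbase η hηm hη
      rw [Scheme.preimage_basicOpen, Scheme.fromSpecStalk_app (X := 𝒰.X k) (U := τF ⁻¹ᵁ W) (x := m) hqW] at h2
      simp only [CommRingCat.comp_apply, Scheme.basicOpen_res] at h2
      have h3 := h2.2
      rw [basicOpen_eq_of_affine] at h3
      exact h3 hap
    simp only [List.map_cons, List.map_nil]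
    refine (AddEquiv.isWeaklyRegular_congr (as := [fibMap v' q _ hqW c']) (bs := [a]) (e := Θ.toAddEquiv) ?_).2 ?_
    · refine List.Forall₂.cons (fun x => ?_) List.Forall₂.nil
      show Θ (fibMap v' q _ hqW c' * x) = a * Θ x
      rw [map_mul, ha]
    · rw [isWeaklyRegular_cons_iff]
      refine ⟨?_, IsWeaklyRegular.nil _ _⟩
      intro x y hxy
      exact (mul_cancel_left_mem_nonZeroDivisors hreg).1 hxy

end Groth.Agent.GrpQ80.QuasiPoint
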