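import Groth.Agent.GrpQ80.QuasiPoint
import Groth.Agent.GrpQ80.GenericSlice
import Groth.Agent.Grpd80.Restr
import Groth.Agent.S0386

/-!
Quasi-sections near a point closed in its fibre, for a quasi-projective space of objects.
-/

set_option autoImplicit false
set_option linter.unusedSectionVars false
set_option backward.isDefEq.respectTransparency.types false
set_option linter.style.haveILetI false

universe u

open CategoryTheory CategoryTheory.Limits AlgebraicGeometry TopologicalSpace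

namespace Groth.Agent.GrpQ80

open Groth.Agent.Grpd80

variable {S : Scheme.{u}} (G : Grpd.GroupoidScheme S)

/-- The residue extension of a point closed in its fibre is of finite type. -/
lemma lft_residueFieldMap {X Y : Scheme.{u}} (f : X ⟶ Y) [LocallyOfFiniteType f] (z : X)
    (hz : closure ({z} : Set X) ∩ f ⁻¹' {f z} = {z}) : LocallyOfFiniteType (Spec.map (f.residueFieldMap z)) := by
  let ξ : Spec (X.residueField z) ⟶ f.fiber (f z) := pullback.lift (X.fromSpecResidueField z)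
    (Spec.map (f.residueFieldMap z)) (by rw [Scheme.Hom.SpecMap_residueFieldMap_fromSpecResidueField])
  have hξ : ξ ≫ f.fiberι (f z) = X.fromSpecResidueField z := pullback.lift_fst _ _ _
  have : IsPreimmersion (ξ ≫ f.fiberι (f z)) := by rw [hξ]; infer_instance
  have : IsPreimmersion ξ := IsPreimmersion.of_comp ξ (f.fiberι (f z))
  have hξr : Set.range ξ = {f.asFiber z} := by
    refine Set.eq_singleton_iff_nonempty_unique_mem.2 ⟨Set.range_nonempty _, ?_⟩
    rintro _ ⟨w, rfl⟩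
    apply (f.fiberι (f z)).isEmbedding.injective
    rw [f.fiberι_asFiber, ← Scheme.Hom.comp_apply, hξ, Scheme.fromSpecResidueField_apply]
  have : IsClosedImmersion ξ := .of_isPreimmersion ξ (hξr ▸ (isClosed_asFiber_iff f z).2 hz)
  have : LocallyOfFiniteType (f.fiberToSpecResidueField (f z)) :=
    MorphismProperty.pullback_snd (P := @LocallyOfFiniteType) f _ inferInstance
  rw [show Spec.map (f.residueFieldMap z) = ξ ≫ f.fiberToSpecResidueField (f z) from
    (pullback.lift_snd _ _ _).symm]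
  infer_instance

/-- Only finitely many arrows start at a point closed in its fibre and end in a given finite set. -/
theorem finite_arrows [LocallyOfFiniteType G.pU] [LocallyOfFiniteType G.s] [QuasiCompact G.s]
    [LocallyQuasiFinite G.j] (z : G.U) (hz : closure ({z} : Set ↥G.U) ∩ G.pU ⁻¹' {G.pU z} = {z})
    {A : Set G.U} (hA : A.Finite) : {r : G.R | G.s r = z ∧ G.t r ∈ A}.Finite := by
  let fz := G.U.fromSpecResidueField z
  have : LocallyOfFiniteType (Spec.map (G.pU.residueFieldMap z)) := lft_residueFieldMap G.pU z hz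
  have : LocallyQuasiFinite (Spec.map (G.pU.residueFieldMap z)) :=
    LocallyQuasiFinite.of_injective (Function.injective_of_subsingleton _)
  have : LocallyQuasiFinite (fz ≫ G.pU) := by
    rw [← Scheme.Hom.SpecMap_residueFieldMap_fromSpecResidueField]; infer_instance
  let K : pullback G.pU (fz ≫ G.pU) ⟶ pullback G.pU G.pU :=
    pullback.map _ _ _ _ (𝟙 _) fz (𝟙 _) (by simp) (by simp)
  have hK₁ : K ≫ pullback.fst _ _ = pullback.fst G.pU (fz ≫ G.pU) :=
    (pullback.lift_fst _ _ _).trans (Category.comp_id _)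
  have hK₂ : K ≫ pullback.snd _ _ = pullback.snd G.pU (fz ≫ G.pU) ≫ fz := pullback.lift_snd _ _ _
  have right : IsPullback K (pullback.snd G.pU (fz ≫ G.pU)) (pullback.snd G.pU G.pU) fz :=
    IsPullback.of_right (by rw [hK₁]; exact IsPullback.of_hasPullback _ _) hK₂
      (IsPullback.of_hasPullback G.pU G.pU)
  let ι₀ := G.s.fiberι z
  let m : G.s.fiber z ⟶ pullback G.pU (fz ≫ G.pU) := pullback.lift (ι₀ ≫ G.t) (G.s.fiberToSpecResidueField z) (by
    rw [Category.assoc, G.t_over, ← G.s_over]; exact (G.s.fiber_fac_assoc z G.pU))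
  have hm : ι₀ ≫ G.j = m ≫ K := by
    apply pullback.hom_ext
    · rw [Category.assoc, Category.assoc, hK₁, j_fst, pullback.lift_fst]
    · rw [Category.assoc, Category.assoc, hK₂, j_snd, pullback.lift_snd_assoc]
      exact G.s.fiber_fac z
  have sq : IsPullback ι₀ m G.j K :=
    IsPullback.of_bot (by
      rw [show m ≫ pullback.snd _ _ = G.s.fiberToSpecResidueField z from pullback.lift_snd _ _ _, j_snd]
      exact IsPullback.of_hasPullback G.s fz) hm right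
  have : LocallyQuasiFinite m := MorphismProperty.of_isPullback sq ‹LocallyQuasiFinite G.j›
  have : LocallyQuasiFinite (pullback.fst G.pU (fz ≫ G.pU)) := inferInstance
  let g := m ≫ pullback.fst G.pU (fz ≫ G.pU)
  have hg : g = ι₀ ≫ G.t := pullback.lift_fst _ _ _
  have : LocallyOfFiniteType (G.s.fiberToSpecResidueField z) :=
    MorphismProperty.pullback_snd (P := @LocallyOfFiniteType) G.s _ inferInstance
  have : QuasiCompact (G.s.fiberToSpecResidueField z) :=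
    MorphismProperty.pullback_snd (P := @QuasiCompact) G.s _ inferInstance
  have : IsLocallyNoetherian (G.s.fiber z) := LocallyOfFiniteType.isLocallyNoetherian (G.s.fiberToSpecResidueField z)
  have : CompactSpace (G.s.fiber z) := QuasiCompact.compactSpace_of_compactSpace (G.s.fiberToSpecResidueField z)
  have : AlgebraicGeometry.IsNoetherian (G.s.fiber z) := {}
  have hfin : (g ⁻¹' A).Finite := by
    rw [← Set.biUnion_of_singleton A, Set.preimage_iUnion₂]
    refine hA.biUnion fun a _ => ?_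
    exact (TopologicalSpace.NoetherianSpace.isCompact _).finite
      (g.isDiscrete_preimage_singleton a)
  refine (hfin.image ι₀).subset ?_
  rintro r ⟨hr, hrA⟩
  obtain ⟨a, rfl⟩ : r ∈ Set.range ι₀ := by rw [Scheme.Hom.range_fiberι]; exact hr
  exact ⟨a, show g a ∈ A by rw [hg]; exact hrA, rfl⟩

/-- An open with finitely many prescribed points inside an affine open, from a quasi-section. -/
lemma hasQS_of_finLF' {U₀ : Scheme.{u}} (u₀ : U₀ ⟶ G.U) [IsImmersion u₀]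
    (W : G.U.Opens) (hWW : G.t ⁻¹ᵁ W = G.s ⁻¹ᵁ W) (hP : finLF ((pullback.fst G.t u₀ ≫ G.s) ∣_ W))
    (hsurj : ∀ y ∈ W, ∃ x, (pullback.fst G.t u₀ ≫ G.s) x = y)
    (haff : ∀ E : Set U₀, E.Finite → E ⊆ u₀ ⁻¹ᵁ W → ∃ Ω : U₀.Opens, IsAffineOpen Ω ∧ E ⊆ (Ω : Set U₀) ∧ Ω ≤ u₀ ⁻¹ᵁ W) :
    HasQS G W := by
  let σ₀ := pullback.fst G.t u₀ ≫ G.s
  have hsat : ∀ r : G.R, G.t r ∈ W ↔ G.s r ∈ W := fun r => SetLike.ext_iff.mp hWW r
  let Ω := u₀ ⁻¹ᵁ W
  let l := pullback.map G.t (Ω.ι ≫ u₀) G.t u₀ (𝟙 _) Ω.ι (𝟙 _) (by simp) (by simp)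
  have hlift : l ≫ σ₀ = pullback.fst G.t (Ω.ι ≫ u₀) ≫ G.s := by
    simp [σ₀, l, pullback.map, pullback.lift_fst_assoc]
  have hl : (σ₀ ⁻¹ᵁ W : Set _) ⊆ Set.range l := by
    intro x hx
    rw [Scheme.Pullback.range_map, Set.mem_inter_iff]
    refine ⟨⟨_, rfl⟩, ⟨pullback.snd G.t u₀ x, ?_⟩, rfl⟩
    change u₀ (pullback.snd G.t u₀ x) ∈ W
    rw [← Scheme.Hom.comp_apply, ← pullback.condition, Scheme.Hom.comp_apply]
    exact (hsat _).2 hx
  refine ⟨hWW, Ω, Ω.ι ≫ u₀, inferInstance, ?_, ?_, ?_, ?_⟩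
  · rintro _ ⟨x, rfl⟩; exact x.2
  · rw [← hlift]
    exact (morphismRestrict_congr (P := finLF) l σ₀ W hl).1 hP
  · intro y hy
    obtain ⟨x, hx⟩ := hsurj y hy
    obtain ⟨z, hz⟩ := hl (show σ₀ x ∈ W by rw [hx]; exact hy)
    exact ⟨z, by rw [← hlift, Scheme.Hom.comp_apply, hz]; exact hx⟩
  · intro E hE
    rcases E.eq_empty_or_nonempty with rfl | ⟨y, hy⟩
    · exact ⟨⊥, isAffineOpen_bot _, Set.empty_subset _⟩
    have : IsFinite (σ₀ ∣_ W) := hP.1
    have hyW : u₀ y.1 ∈ W := y.2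
    have hFin : (σ₀ ⁻¹' {u₀ y.1}).Finite := by
      have := ((σ₀ ∣_ W).finite_preimage_singleton ⟨u₀ y.1, hyW⟩).image Subtype.val
      refine this.subset fun x hx => ⟨⟨x, show σ₀ x ∈ W from hx ▸ hyW⟩, Subtype.ext ?_, rfl⟩
      rw [morphismRestrict_base_coe]; exact hx
    obtain ⟨Ω', hΩ', hEΩ', hΩ'le⟩ := haff (Subtype.val '' E) (by
        refine (hFin.image (pullback.snd G.t u₀)).subset ?_
        rintro _ ⟨x, hx, rfl⟩
        obtain ⟨r, hr1, hr2⟩ := hE x hx y hy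
        obtain ⟨z, hz1, hz2⟩ := Scheme.Pullback.exists_preimage_pullback (f := G.t) (g := u₀) r x.1 hr1
        refine ⟨z, ?_, hz2⟩
        change σ₀ z = u₀ y.1
        rw [Scheme.Hom.comp_apply, hz1]
        exact hr2)
      (by rintro _ ⟨x, -, rfl⟩; exact x.2)
    exact ⟨Ω.ι ⁻¹ᵁ Ω', hΩ'.preimage_of_isOpenImmersion Ω.ι (by rw [Scheme.Opens.opensRange_ι]; exact hΩ'le),
      fun x hx => hEΩ' ⟨x, hx, rfl⟩⟩

/-- A saturated open with a quasi-section around a point closed in its fibre. -/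
theorem exists_hasQS_at [IsProper G.s] [Flat G.s] [LocallyOfFinitePresentation G.s]
    (hU : RelProj.IsQuasiProjective G.pU) [LocallyQuasiFinite G.j]
    (z : G.U) (hz : closure ({z} : Set ↥G.U) ∩ G.pU ⁻¹' {G.pU z} = {z}) :
    ∃ W : G.U.Opens, z ∈ W ∧ HasQS G W := by
  obtain ⟨hft, hqc, L, hL⟩ := hU
  have : LocallyOfFiniteType G.pU := hft
  have : QuasiCompact G.pU := hqc
  obtain ⟨S₀, hS₀, hzS₀, -⟩ := exists_isAffineOpen_mem_and_subset (U := (⊤ : S.Opens)) (x := G.pU z) trivial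
  have : IsAffine S₀.toScheme := hS₀
  let O := G.pU ⁻¹ᵁ S₀
  have hO : IsInv G O := by
    simp only [IsInv, O, ← Scheme.Hom.comp_preimage, G.s_over, G.t_over]
  let pX := G.pU ∣_ S₀
  let u₁ := restrT hO
  let v₁ := G.s ∣_ O
  have hpY : u₁ ≫ pX = v₁ ≫ pX := by
    rw [← cancel_mono S₀.ι, Category.assoc, Category.assoc, morphismRestrict_ι, restrT_ι_assoc,
      morphismRestrict_ι_assoc, G.t_over, G.s_over]
  let zO : O.toScheme := ⟨z, hzS₀⟩
  have hzc : closure ({zO} : Set O.toScheme) ∩ pX ⁻¹' {pX zO} = {zO} := by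
    refine Set.eq_singleton_iff_unique_mem.2 ⟨⟨subset_closure rfl, rfl⟩, fun y hy => Subtype.ext ?_⟩
    refine hz.le ⟨?_, ?_⟩
    · have h := hy.1
      rw [O.ι.isEmbedding.closure_eq_preimage_closure_image, Set.image_singleton] at h
      exact h
    · exact (morphismRestrict_base_coe _ _ y).symm.trans
        ((congrArg Subtype.val hy.2).trans (morphismRestrict_base_coe _ _ zO))
  let e := pullback.snd (𝟙 O.toScheme) u₁
  obtain ⟨F, i, hi, hifp, hfin, ⟨p₀, hp₀⟩, hfl⟩ := QuasiPoint.exists_cut_fibre pX (v₁ ≫ pX) pX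
    (L.restrict O.ι) (hL.2 ⟨S₀, hS₀⟩) u₁ v₁ hpY rfl zO hzc
    ⟨Set.univ, isClosed_univ⟩ O.toScheme (𝟙 _) (by simp) (by
      obtain ⟨r, hr₁, hr₂⟩ := exists_unit G z
      refine ⟨inv e ⟨r, show G.s r ∈ O by rw [hr₁]; exact hzS₀⟩, ?_⟩
      rw [← Scheme.Hom.comp_apply, IsIso.inv_hom_id_assoc]
      exact Subtype.ext ((morphismRestrict_base_coe _ _ _).trans hr₁))
    (fun y _ => Flat.stalkMap (e ≫ v₁) y)
  have : IsClosedImmersion i := hi
  let u₀ : F ⟶ G.U := i ≫ O.ι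
  let σ₀ := pullback.fst G.t u₀ ≫ G.s
  let P := pullback i u₁
  let σ' := pullback.snd i u₁ ≫ v₁
  -- the fibre over `z` is finite
  have hσfin : (σ' ⁻¹' {zO}).Finite := by
    let A : Set G.U := O.ι '' ((fun y : ↥P => i (pullback.fst i u₁ y)) '' {y | σ' y = zO})
    have hA : A.Finite := hfin.image _
    refine ((finite_arrows G z hz hA).preimage
      ((pullback.snd i u₁ ≫ (G.s ⁻¹ᵁ O).ι).isEmbedding.injective.injOn)).subset fun y hy => ⟨?_, _, ⟨y, hy, rfl⟩, ?_⟩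
    · rw [← Scheme.Hom.comp_apply, Category.assoc, ← morphismRestrict_ι, ← Category.assoc]
      exact congrArg O.ι hy
    · rw [← Scheme.Hom.comp_apply, ← Scheme.Hom.comp_apply, ← Scheme.Hom.comp_apply, pullback.condition_assoc,
        restrT_ι, Category.assoc]
  have : IsProper σ' := inferInstance
  obtain ⟨Vf, hzVf, _⟩ := exists_isFinite_morphismRestrict_of_finite_preimage_singleton σ' zO hσfin
  have : LocallyOfFinitePresentation i := hifp
  have : LocallyOfFinitePresentation σ' := inferInstance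
  obtain ⟨V', hzV', hV'⟩ := exists_finLF_nhd_fp σ' zO Vf hzVf fun x hx =>
    ⟨⟨_, Groth.Agent.S0386.result σ'⟩, hfl x hx, (Flat.iff_flat_stalkMap _).2 fun y => by
      exact (Unr55.stalkMap_iff_of_square RingHom.Flat.respectsIso σ' _ (Scheme.Opens.ι ⟨_, Groth.Agent.S0386.result σ'⟩) (𝟙 _)
        (Category.comp_id _).symm y).1 y.2⟩
  -- compare with arrows ending on the closed subscheme
  have sq : IsPullback (pullback.fst i u₁) (pullback.snd i u₁ ≫ (G.s ⁻¹ᵁ O).ι) u₀ G.t :=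
    (IsPullback.of_hasPullback i u₁).paste_vert
      (IsOpenImmersion.isPullback u₁ (G.s ⁻¹ᵁ O).ι O.ι G.t (restrT_ι hO).symm (by
        rw [Scheme.Opens.opensRange_ι, Scheme.Opens.opensRange_ι]; exact hO.symm))
  let l := sq.flip.isoPullback
  have hl : l.hom ≫ σ₀ = σ' ≫ O.ι := by
    simp only [σ₀, l, σ', IsPullback.isoPullback_hom_fst_assoc, Category.assoc, v₁, morphismRestrict_ι]
  let V := O.ι ''ᵁ V'
  have hVO : V ≤ O := by rintro _ ⟨y, -, rfl⟩; exact y.2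
  have hVeq : O.ι ⁻¹ᵁ V = V' := O.ι.preimage_image_eq V'
  have hV : finLF (σ₀ ∣_ V) := by
    refine (morphismRestrict_congr (P := finLF) l.hom σ₀ V (fun x _ => l.hom.surjective x)).2 ?_
    rw [hl, morphismRestrict_comp]
    have : Surjective (O.ι ∣_ V) :=
      ⟨fun y => ⟨⟨⟨y.1, hVO y.2⟩, y.2⟩, Subtype.ext (morphismRestrict_base_coe _ _ _)⟩⟩
    have : IsIso (O.ι ∣_ V) :=
      (isIso_iff_isOpenImmersion_and_epi_base _).2 ⟨inferInstance, (TopCat.epi_iff_surjective _).2 (O.ι ∣_ V).surjective⟩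
    refine (MorphismProperty.cancel_right_of_respectsIso finLF _ (O.ι ∣_ V)).2 ?_
    exact (finLF.arrow_mk_iso_iff (morphismRestrictEq σ' hVeq)).2 hV'
  obtain ⟨Wp, hWp, hmax, hinvWp⟩ := exists_largest_finLF G u₀
  let Wim : G.U.Opens := ⟨Subtype.val '' Set.range (σ₀ ∣_ Wp),
    Wp.2.isOpenMap_subtype_val _ (by
      have : Flat (σ₀ ∣_ Wp) := hWp.2.1
      have : LocallyOfFinitePresentation (σ₀ ∣_ Wp) := hWp.2.2
      exact (σ₀ ∣_ Wp).isOpenMap.isOpen_range)⟩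
  have hWim : ∀ y, y ∈ Wim ↔ y ∈ Wp ∧ ∃ x, σ₀ x = y := by
    intro y
    constructor
    · rintro ⟨v, ⟨z, rfl⟩, rfl⟩
      exact ⟨((σ₀ ∣_ Wp) z).2, z.1, (morphismRestrict_base_coe _ _ _).symm⟩
    · rintro ⟨hy, x, rfl⟩
      exact ⟨⟨σ₀ x, hy⟩, ⟨⟨x, hy⟩, Subtype.ext (morphismRestrict_base_coe _ _ _)⟩, rfl⟩
  let W := O ⊓ Wim
  have hsat : ∀ r : G.R, G.s r ∈ W ↔ G.t r ∈ W := by
    intro r
    have e0 : G.s r ∈ O ↔ G.t r ∈ O := hO.mem_iff r
    have ep : G.s r ∈ Wp ↔ G.t r ∈ Wp := SetLike.ext_iff.mp hinvWp r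
    have himg : ∀ r : G.R, (∃ x, σ₀ x = G.t r) → ∃ x, σ₀ x = G.s r := by
      rintro r ⟨x, hx⟩
      obtain ⟨c, hc1, hc2⟩ := exists_comp G (show G.s (pullback.fst G.t u₀ x) = G.t r from hx)
      obtain ⟨w, hw, -⟩ := Scheme.Pullback.exists_preimage_pullback (f := G.t) (g := u₀) c
        (pullback.snd G.t u₀ x) (by
          rw [hc2, ← Scheme.Hom.comp_apply, pullback.condition, Scheme.Hom.comp_apply])
      exact ⟨w, by rw [← hc1]; exact congrArg G.s hw⟩
    obtain ⟨c, hc1, hc2⟩ := exists_inv G r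
    have himg' : (∃ x, σ₀ x = G.s r) → ∃ x, σ₀ x = G.t r := fun h => by
      rw [← hc1]; exact himg c (by rw [hc2]; exact h)
    change (_ ∧ _) ↔ (_ ∧ _)
    rw [SetLike.mem_coe, SetLike.mem_coe, SetLike.mem_coe, SetLike.mem_coe, e0, hWim, hWim, ep]
    exact ⟨fun h => ⟨h.1, h.2.1, himg' h.2.2⟩, fun h => ⟨h.1, h.2.1, himg r h.2.2⟩⟩
  have hzWim : z ∈ Wim := by
    rw [hWim]
    refine ⟨hmax V hV ⟨zO, hzV', rfl⟩, l.hom p₀, ?_⟩
    rw [← Scheme.Hom.comp_apply, hl, Scheme.Hom.comp_apply]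
    exact congrArg O.ι hp₀
  have hWW : G.t ⁻¹ᵁ W = G.s ⁻¹ᵁ W := Opens.ext (Set.ext fun r => (hsat r).symm)
  refine ⟨W, ⟨hzS₀, hzWim⟩, hasQS_of_finLF' G u₀ W hWW (finLF_mono σ₀ hWp fun x hx => ((hWim x).1 hx.2).1)
    (fun y hy => ((hWim y).1 hy.2).2) fun E hE hEW => ?_⟩
  obtain ⟨G', -, hEG, hGW, hG⟩ := Amp73.exists_affine_genSet_of_finite (hL.2 ⟨S₀, hS₀⟩) (hE.image i)
    (U := O.ι ⁻¹ᵁ W) (by rintro _ ⟨x, hx, rfl⟩; exact hEW hx)
  exact ⟨i ⁻¹ᵁ G', hG.preimage i, fun x hx => hEG ⟨x, hx, rfl⟩, fun x hx => hGW hx⟩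

/-- A quasi-section over a saturated open, seen inside that open. -/
theorem HasQS.exists_restr {W : G.U.Opens} (h : HasQS G W) :
    ∃ hW : G.t ⁻¹ᵁ W = G.s ⁻¹ᵁ W, ∃ (U' : Scheme.{u}) (uW : U' ⟶ (W : Scheme.{u})), IsImmersion uW ∧
      Mor2.IsFinLocFree (pullback.fst (G.t.resLE W (G.s ⁻¹ᵁ W) hW.ge) uW ≫ (G.s ∣_ W)) ∧
      Surjective (pullback.fst (G.t.resLE W (G.s ⁻¹ᵁ W) hW.ge) uW ≫ (G.s ∣_ W)) ∧
      ∀ E : Set U', (∀ x ∈ E, ∀ y ∈ E, ∃ r : G.R,
          G.t.base r = (uW ≫ W.ι).base x ∧ G.s.base r = (uW ≫ W.ι).base y) →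
        ∃ V : U'.Opens, IsAffineOpen V ∧ E ⊆ (V : Set U') := by
  obtain ⟨hW, U', u, _, hur, hfin, hsur, haff⟩ := h
  let uW : U' ⟶ W.toScheme := IsOpenImmersion.lift W.ι u (by rwa [Scheme.Opens.range_ι])
  have huW : uW ≫ W.ι = u := IsOpenImmersion.lift_fac _ _ _
  have : IsImmersion (uW ≫ W.ι) := by rw [huW]; infer_instance
  have : IsImmersion uW := IsImmersion.of_comp uW W.ι
  let tW := G.t.resLE W (G.s ⁻¹ᵁ W) hW.ge
  let σ := pullback.fst G.t u ≫ G.s
  let σ' := pullback.fst tW uW ≫ (G.s ∣_ W)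
  let l : pullback tW uW ⟶ pullback G.t u :=
    pullback.map _ _ _ _ (G.s ⁻¹ᵁ W).ι (𝟙 _) W.ι (Scheme.Hom.resLE_comp_ι _ _)
      ((Category.id_comp u).trans huW.symm).symm
  have hσ' : σ' ≫ W.ι = l ≫ σ := by
    simp [σ', σ, l, pullback.map, pullback.lift_fst_assoc, morphismRestrict_ι]
  have hl : (σ ⁻¹ᵁ W : Set _) ⊆ Set.range l := by
    intro x hx
    rw [Scheme.Pullback.range_map, Set.mem_inter_iff]
    refine ⟨⟨⟨pullback.fst G.t u x, hx⟩, rfl⟩, ⟨_, rfl⟩⟩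
  refine ⟨hW, U', uW, ‹_›, ?_, ⟨fun y => ?_⟩, fun E hE => haff E fun x hx y hy => ?_⟩
  · have h1 : finLF ((σ' ≫ W.ι) ∣_ W) := by
      rw [hσ']; exact (morphismRestrict_congr (P := finLF) l σ W hl).1 hfin
    rw [morphismRestrict_comp] at h1
    have : Surjective (W.ι ∣_ W) := ⟨fun y => ⟨⟨y, y.2⟩, Subtype.ext (morphismRestrict_base_coe _ _ _)⟩⟩
    have : IsIso (W.ι ∣_ W) :=
      (isIso_iff_isOpenImmersion_and_epi_base _).2 ⟨inferInstance, (TopCat.epi_iff_surjective _).2 (W.ι ∣_ W).surjective⟩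
    replace h1 := (MorphismProperty.cancel_right_of_respectsIso finLF (σ' ∣_ W.ι ⁻¹ᵁ W) (W.ι ∣_ W)).1 h1
    exact IsZariskiLocalAtTarget.of_iSup_eq_top (P := finLF) (fun _ : Unit => W.ι ⁻¹ᵁ W)
      (by rw [iSup_const]; exact W.ι_preimage_self) fun _ => h1
  · obtain ⟨x, hx⟩ := hsur y.2
    obtain ⟨z, hz⟩ := hl (show σ x ∈ W from hx ▸ y.2)
    refine ⟨z, W.ι.isOpenEmbedding.injective ?_⟩
    rw [← Scheme.Hom.comp_apply, hσ', Scheme.Hom.comp_apply, hz]
    exact hx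
  · obtain ⟨r, h1, h2⟩ := hE x hx y hy
    exact ⟨r, by rw [← huW]; exact h1, by rw [← huW]; exact h2⟩

end Groth.Agent.GrpQ80
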