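import Groth.Agent.S13132
import Mathlib.RingTheory.QuasiFinite.Basic
import Mathlib.RingTheory.Spectrum.Prime.Chevalley
import Mathlib.RingTheory.Flat.TorsionFree
import Mathlib.RingTheory.Ideal.GoingDown
import Mathlib.RingTheory.Regular.IsSMulRegular
import Mathlib.RingTheory.Ideal.AssociatedPrime.Finiteness
import Mathlib.RingTheory.Localization.BaseChange
import Mathlib.RingTheory.Flat.Localization
import Mathlib.RingTheory.Ideal.MinimalPrime.Localization
import Mathlib.RingTheory.TensorProduct.Quotient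
import Mathlib.RingTheory.RingHom.QuasiFinite
import Groth.Agent.LCI19.FlatOpen
import Mathlib.RingTheory.RingHom.Flat

/-!
The algebra of a generic slice: cutting flat algebras over an Artinian local ring by elements of
another ring until the closed fibre is finite.
-/

set_option autoImplicit false

universe u

open Polynomial IsLocalRing

namespace Groth.Agent.GrpQ80

/-- A sequence of pairwise coprime monic integral polynomials. -/
noncomputable def coprimeSeq : ℕ → ℤ[X]
  | 0 => X
  | n + 1 => coprimeSeq n * (coprimeSeq n - 1) + 1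

lemma coprimeSeq_monic (n : ℕ) : (coprimeSeq n).Monic ∧ 0 < (coprimeSeq n).degree := by
  induction n with
  | zero => exact ⟨monic_X, by simp [coprimeSeq]⟩
  | succ n ih =>
    have h1 : (1 : ℤ[X]).degree < (coprimeSeq n).degree := lt_of_le_of_lt degree_one_le ih.2
    have h2 : (coprimeSeq n - 1).Monic := ih.1.sub_of_left h1
    have h3 : 0 < (coprimeSeq n * (coprimeSeq n - 1)).degree := by
      rw [← natDegree_pos_iff_degree_pos, Monic.natDegree_mul ih.1 h2]
      exact Nat.add_pos_left (natDegree_pos_iff_degree_pos.2 ih.2) _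
    exact ⟨(ih.1.mul h2).add_of_left (lt_of_le_of_lt degree_one_le h3),
      by rw [coprimeSeq, degree_add_eq_left_of_degree_lt (lt_of_le_of_lt degree_one_le h3)]; exact h3⟩

lemma coprimeSeq_dvd {n m : ℕ} (h : n < m) : coprimeSeq n ∣ coprimeSeq m - 1 := by
  induction m with
  | zero => exact absurd h (Nat.not_lt_zero n)
  | succ m ih =>
    rw [coprimeSeq, add_sub_cancel_right]
    rcases Nat.lt_succ_iff_lt_or_eq.1 h with h | rfl
    · exact (ih h).mul_left _
    · exact dvd_mul_right _ _

lemma coprimeSeq_inj {R : Type*} [CommRing R] (θ : ℤ[X] →+* R) {P : Ideal R} (hP : P ≠ ⊤) {n m : ℕ}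
    (hn : θ (coprimeSeq n) ∈ P) (hm : θ (coprimeSeq m) ∈ P) : n = m := by
  by_contra hne
  wlog h : n < m generalizing n m
  · exact this hm hn (Ne.symm hne) ((Ne.lt_or_gt hne).resolve_left h)
  obtain ⟨z, hz⟩ := coprimeSeq_dvd h
  apply hP
  rw [Ideal.eq_top_iff_one]
  have hz' : θ (coprimeSeq m) - 1 = θ (coprimeSeq n) * θ z := by rw [← map_one θ, ← map_sub, hz, map_mul]
  have : (1 : R) = θ (coprimeSeq m) - θ (coprimeSeq n) * θ z := by rw [← hz']; ring
  rw [this]
  exact P.sub_mem hm (P.mul_mem_right _ hn)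

/-- In a finitely generated algebra over a field, containing a polynomial ring, almost every member
of a coprime sequence is a non-unit. -/
lemma finite_isUnit_coprimeSeq {κ D : Type u} [Field κ] [CommRing D] [IsDomain D] [Algebra κ D]
    [Algebra.FiniteType κ D] (x : D) (hx : Transcendental κ x) :
    {n : ℕ | IsUnit (aeval x (coprimeSeq n))}.Finite := by
  classical
  let θ : κ[X] →ₐ[κ] D := aeval x
  have hθ : Function.Injective θ := transcendental_iff_injective.1 hx
  let : Algebra κ[X] D := θ.toRingHom.toAlgebra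
  have : IsScalarTower κ κ[X] D := IsScalarTower.of_algebraMap_eq fun r => (θ.commutes r).symm
  have : Algebra.FiniteType κ[X] D := Algebra.FiniteType.of_restrictScalars_finiteType κ κ[X] D
  have : Algebra.FinitePresentation κ[X] D := Algebra.FinitePresentation.of_finiteType.1 inferInstance
  have : FaithfulSMul κ[X] D := (faithfulSMul_iff_algebraMap_injective _ _).2 hθ
  have : Module.IsTorsionFree κ[X] D := inferInstance
  have : Module.Flat κ[X] D := inferInstance
  have hop := PrimeSpectrum.isOpenMap_comap_of_hasGoingDown_of_finitePresentation (R := κ[X]) (S := D)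
  obtain ⟨P₀⟩ := (inferInstance : Nonempty (PrimeSpectrum D))
  obtain ⟨_, ⟨g, rfl⟩, hgmem, hgsub⟩ := PrimeSpectrum.isTopologicalBasis_basic_opens.exists_subset_of_mem_open
    (Set.mem_image_of_mem _ (Set.mem_univ P₀)) (hop _ isOpen_univ)
  have hg : g ≠ 0 := by
    rintro rfl
    exact hgmem (zero_mem _)
  have hmon : ∀ n, ((coprimeSeq n).map (Int.castRingHom κ)).Monic ∧
      0 < ((coprimeSeq n).map (Int.castRingHom κ)).degree := fun n =>
    ⟨(coprimeSeq_monic n).1.map _, by rw [(coprimeSeq_monic n).1.degree_map]; exact (coprimeSeq_monic n).2⟩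
  have hM : ∀ n, ∃ M : Ideal κ[X], M.IsMaximal ∧ (coprimeSeq n).map (Int.castRingHom κ) ∈ M := by
    intro n
    obtain ⟨M, hM, hle⟩ := Ideal.exists_le_maximal (Ideal.span {(coprimeSeq n).map (Int.castRingHom κ)})
      (by rw [Ne, Ideal.span_singleton_eq_top]; exact fun h => (hmon n).2.ne' (degree_eq_zero_of_isUnit h))
    exact ⟨M, hM, (Ideal.span_singleton_le_iff_mem _).1 hle⟩
  choose M hMmax hMmem using hM
  have heq : ∀ n, algebraMap κ[X] D ((coprimeSeq n).map (Int.castRingHom κ)) = aeval x (coprimeSeq n) :=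
    fun n => by
      change aeval x ((coprimeSeq n).map (Int.castRingHom κ)) = _
      rw [aeval_def, eval₂_map, aeval_def]
      congr 1
      exact RingHom.ext_int _ _
  have hsub : {n : ℕ | IsUnit (aeval x (coprimeSeq n))} ⊆ M ⁻¹' (Ideal.span {g}).minimalPrimes := by
    intro n hn
    have hgM : g ∈ M n := by
      by_contra hgn
      obtain ⟨P, -, hP⟩ := hgsub (a := ⟨M n, (hMmax n).isPrime⟩) hgn
      have hmem : algebraMap κ[X] D ((coprimeSeq n).map (Int.castRingHom κ)) ∈ P.asIdeal := by
        have := hMmem n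
        rw [show M n = P.asIdeal.comap (algebraMap κ[X] D) from (congrArg PrimeSpectrum.asIdeal hP).symm] at this
        exact this
      rw [heq] at hmem
      exact P.isPrime.ne_top (Ideal.eq_top_of_isUnit_mem _ hmem hn)
    refine ⟨⟨(hMmax n).isPrime, (Ideal.span_singleton_le_iff_mem _).2 hgM⟩, fun q hq hqM => ?_⟩
    have hq0 : q ≠ ⊥ := fun h => hg (by simpa [h] using hq.2 (Ideal.mem_span_singleton_self g))
    exact ((hq.1.isMaximal hq0).eq_of_le (hMmax n).ne_top hqM).ge
  refine ((Ideal.finite_minimalPrimes_of_isNoetherianRing _ _).preimage fun n _ m _ h => ?_).subset hsub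
  exact coprimeSeq_inj (mapRingHom (Int.castRingHom κ)) (hMmax n).ne_top
    (by simpa using hMmem n) (by simpa [h] using hMmem m)

/-- The closed fibre ideal cut out by `I`. -/
abbrev sliceIdeal {A O C : Type u} [CommRing A] [CommRing O] [IsLocalRing O] [CommRing C] [Algebra O C]
    (φ : A →+* C) (I : Ideal A) : Ideal C :=
  I.map φ ⊔ (maximalIdeal O).map (algebraMap O C)

/-- Cutting flat algebras over an Artinian local ring down to finite closed fibres, keeping
flatness. -/
theorem exists_slice {A : Type u} [CommRing A] [IsNoetherianRing A] {O : Type u} [CommRing O]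
    [IsArtinianRing O] [IsLocalRing O] {ι : Type*} [Finite ι] (C : ι → Type u) [∀ k, CommRing (C k)]
    [∀ k, Algebra O (C k)] [∀ k, Module.Flat O (C k)] [∀ k, Algebra.FiniteType O (C k)]
    (φ : ∀ k, A →+* C k)
    (hqf : ∀ (k : ι) (P : Ideal (C k)) [P.IsPrime], (maximalIdeal O).map (algebraMap O (C k)) ≤ P →
      (∀ a : A, IsIntegral O (Ideal.Quotient.mk P (φ k a))) → P.IsMaximal)
    (hne : ∃ k, (maximalIdeal O).map (algebraMap O (C k)) ≠ ⊤) :
    ∃ I : Ideal A, (∀ k, Module.Flat O (C k ⧸ I.map (φ k))) ∧ (∃ k, sliceIdeal (O := O) (φ k) I ≠ ⊤) ∧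
      ∀ (k : ι) (P : Ideal (C k)) [P.IsPrime], sliceIdeal (O := O) (φ k) I ≤ P → P.IsMaximal := by
  classical
  have : ∀ k, IsNoetherianRing (C k) := fun k => Algebra.FiniteType.isNoetherianRing O (C k)
  suffices H : ∀ I : Ideal A, (∀ k, Module.Flat O (C k ⧸ I.map (φ k))) →
      (∃ k, sliceIdeal (O := O) (φ k) I ≠ ⊤) → ∃ I : Ideal A, (∀ k, Module.Flat O (C k ⧸ I.map (φ k))) ∧
      (∃ k, sliceIdeal (O := O) (φ k) I ≠ ⊤) ∧
      ∀ (k : ι) (P : Ideal (C k)) [P.IsPrime], sliceIdeal (O := O) (φ k) I ≤ P → P.IsMaximal by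
    refine H ⊥ (fun k => ?_) (hne.imp fun k hk => by simpa [sliceIdeal, Ideal.map_bot] using hk)
    have e : C k ≃ₐ[O] C k ⧸ (⊥ : Ideal A).map (φ k) :=
      (AlgEquiv.quotientBot O (C k)).symm.trans (Ideal.quotientEquivAlgOfEq O Ideal.map_bot.symm)
    exact Module.Flat.of_linearEquiv e.symm.toLinearEquiv
  intro I
  induction I using IsWellFounded.induction (α := Ideal A) (· > ·) with
  | ind I ih =>
  intro hflat hI
  by_cases hall : ∀ (k : ι) (P : Ideal (C k)) [P.IsPrime], sliceIdeal (O := O) (φ k) I ≤ P → P.IsMaximal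
  · exact ⟨I, hflat, hI, hall⟩
  push Not at hall
  obtain ⟨k₀, P, hP, hle, hnm⟩ := hall
  have hmP : (maximalIdeal O).map (algebraMap O (C k₀)) ≤ P := le_sup_right.trans hle
  obtain ⟨a, ha⟩ : ∃ a, ¬ IsIntegral O (Ideal.Quotient.mk P (φ k₀ a)) := by
    by_contra h
    push Not at h
    exact hnm (hqf k₀ P hmP h)
  let D := C k₀ ⧸ P
  let : Algebra (ResidueField O) D :=
    (Ideal.Quotient.lift (maximalIdeal O) (algebraMap O D) fun x hx => by
      change Ideal.Quotient.mk P (algebraMap O (C k₀) x) = 0
      exact Ideal.Quotient.eq_zero_iff_mem.2 (hmP (Ideal.mem_map_of_mem _ hx))).toAlgebra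
  have : IsScalarTower O (ResidueField O) D := IsScalarTower.of_algebraMap_eq fun _ => rfl
  have : Algebra.FiniteType (ResidueField O) D :=
    Algebra.FiniteType.of_restrictScalars_finiteType O (ResidueField O) D
  have hx : Transcendental (ResidueField O) (Ideal.Quotient.mk P (φ k₀ a) : D) := fun h => by
    have : Algebra.IsIntegral O (ResidueField O) := Algebra.IsIntegral.of_finite O (ResidueField O)
    exact ha (isIntegral_trans (A := ResidueField O) _ h.isIntegral)
  let θ : ℤ[X] →+* A := (aeval a).toRingHom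
  let Q : ι → Set (Ideal A) := fun k =>
    Ideal.comap (φ k) '' associatedPrimes (C k) (C k ⧸ sliceIdeal (O := O) (φ k) I)
  have hbad : ∀ k, {n : ℕ | ∃ q ∈ Q k, θ (coprimeSeq n) ∈ q}.Finite := by
    intro k
    have hQ : (Q k).Finite := (associatedPrimes.finite _ _).image _
    refine (hQ.biUnion (t := fun q => {n | θ (coprimeSeq n) ∈ q}) fun q hq => ?_).subset
      fun n ⟨q, hq, hn⟩ => Set.mem_biUnion hq hn
    obtain ⟨p, hp, rfl⟩ := hq
    have := hp.isPrime
    exact Set.Subsingleton.finite fun n hn m hm => coprimeSeq_inj θ (Ideal.comap_ne_top _ hp.isPrime.ne_top) hn hm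
  obtain ⟨n, hn⟩ := ((finite_isUnit_coprimeSeq _ hx).union (Set.finite_iUnion hbad)).exists_notMem
  simp only [Set.mem_union, Set.mem_iUnion, Set.mem_ofPred_eq, not_or, not_exists] at hn
  let f := θ (coprimeSeq n)
  have hf : ∀ [Algebra ℤ D], Ideal.Quotient.mk P (φ k₀ f) =
      aeval (Ideal.Quotient.mk P (φ k₀ a) : D) (coprimeSeq n) := by
    intro _
    change ((Ideal.Quotient.mk P).comp (φ k₀)) (aeval a (coprimeSeq n)) = _
    rw [aeval_def, aeval_def, hom_eval₂]
    exact congrFun (congrArg (fun g => eval₂ g _) (RingHom.ext_int _ _)) _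
  have hreg : ∀ k, IsSMulRegular (C k ⧸ sliceIdeal (O := O) (φ k) I) (φ k f) := fun k => by
    by_contra h
    have : φ k f ∈ {r : C k | IsSMulRegular (C k ⧸ sliceIdeal (O := O) (φ k) I) r}ᶜ := h
    rw [← biUnion_associatedPrimes_eq_compl_regular (C k) (C k ⧸ sliceIdeal (O := O) (φ k) I)] at this
    obtain ⟨p, hp, hmem⟩ := Set.mem_iUnion₂.1 this
    exact hn.2 k (Ideal.comap (φ k) p) ⟨⟨p, hp, rfl⟩, hmem⟩
  have hfI : f ∉ I := fun h => by
    have hz : φ k₀ f ∈ sliceIdeal (O := O) (φ k₀) I := Ideal.mem_sup_left (Ideal.mem_map_of_mem _ h)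
    have : (1 : C k₀ ⧸ sliceIdeal (O := O) (φ k₀) I) = 0 := hreg k₀ <| by
      change φ k₀ f • (1 : C k₀ ⧸ sliceIdeal (O := O) (φ k₀) I) = φ k₀ f • 0
      rw [smul_zero, Algebra.smul_def, mul_one]
      exact Ideal.Quotient.eq_zero_iff_mem.2 hz
    exact hP.ne_top (Ideal.eq_top_iff_one _ |>.2 (hle (Ideal.Quotient.eq_zero_iff_mem.1 this)))
  have hmap : ∀ k, (I ⊔ Ideal.span {f}).map (φ k) = I.map (φ k) ⊔ Ideal.span {φ k f} := fun k => by
    rw [Ideal.map_sup, Ideal.map_span, Set.image_singleton]
  refine ih (I ⊔ Ideal.span {f}) ?_ (fun k => ?_) ⟨k₀, ?_⟩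
  · exact left_lt_sup.2 fun h => hfI (h (Ideal.mem_span_singleton_self f))
  · let S' := C k ⧸ I.map (φ k)
    let mk' : C k →+* S' := Ideal.Quotient.mk _
    have := hflat k
    have key := Groth.Agent.S13132.result (A' := O) (S' := S') (maximalIdeal O)
      (maximalIdeal.isMaximal O).ne_top (mk' (φ k f))
    have hnzd : Ideal.Quotient.mk ((maximalIdeal O).map (algebraMap O S')) (mk' (φ k f)) ∈
        nonZeroDivisors (S' ⧸ (maximalIdeal O).map (algebraMap O S')) := by
      have hJ : (maximalIdeal O).map (algebraMap O S') =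
          ((maximalIdeal O).map (algebraMap O (C k))).map mk' := by rw [Ideal.map_map]; rfl
      have hcm : ((maximalIdeal O).map (algebraMap O S')).comap mk' = sliceIdeal (O := O) (φ k) I := by
        rw [hJ, Ideal.comap_map_of_surjective _ Ideal.Quotient.mk_surjective, sup_comm, sliceIdeal]
        congr 1
        exact Ideal.mk_ker
      rw [mem_nonZeroDivisors_iff_right]
      intro y hy
      obtain ⟨y, rfl⟩ := Ideal.Quotient.mk_surjective y
      obtain ⟨y, rfl⟩ := Ideal.Quotient.mk_surjective y
      rw [← map_mul, Ideal.Quotient.eq_zero_iff_mem] at hy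
      rw [Ideal.Quotient.eq_zero_iff_mem]
      change y ∈ ((maximalIdeal O).map (algebraMap O S')).comap mk'
      have hy' : φ k f * y ∈ sliceIdeal (O := O) (φ k) I := by
        rw [← hcm, Ideal.mem_comap, map_mul, mul_comm]; exact hy
      rw [hcm, ← Ideal.Quotient.eq_zero_iff_mem]
      apply hreg k
      change φ k f • Ideal.Quotient.mk (sliceIdeal (O := O) (φ k) I) y = φ k f • 0
      rw [smul_zero, Algebra.smul_def]
      exact (map_mul _ _ _).symm.trans (Ideal.Quotient.eq_zero_iff_mem.2 hy')
    have := key.2 (key.1.2 hnzd)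
    let e : (S' ⧸ Ideal.span {mk' (φ k f)}) ≃ₐ[O] C k ⧸ (I ⊔ Ideal.span {f}).map (φ k) :=
      (Ideal.quotientEquivAlgOfEq O (by rw [Ideal.map_span, Set.image_singleton]; rfl)).trans
        ((DoubleQuot.quotQuotEquivQuotSupₐ O (I.map (φ k)) (Ideal.span {φ k f})).trans
          (Ideal.quotientEquivAlgOfEq O (hmap k).symm))
    exact Module.Flat.of_linearEquiv e.symm.toLinearEquiv
  · intro htop
    apply hn.1
    suffices h : IsUnit (Ideal.Quotient.mk P (φ k₀ f)) from (hf ▸ h :)
    rw [sliceIdeal, hmap, sup_right_comm] at htop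
    have h2 : P ⊔ Ideal.span {φ k₀ f} = ⊤ := top_le_iff.1 (htop.ge.trans (sup_le_sup_right hle _))
    rw [Ideal.eq_top_iff_one, Submodule.mem_sup] at h2
    obtain ⟨y, hy, z, hz, hyz⟩ := h2
    obtain ⟨r, rfl⟩ := Ideal.mem_span_singleton'.1 hz
    refine IsUnit.of_mul_eq_one (Ideal.Quotient.mk P r) ?_
    rw [← map_mul, ← map_one (Ideal.Quotient.mk P), Ideal.Quotient.eq,
      show φ k₀ f * r - 1 = -y by rw [← hyz]; ring]
    exact P.neg_mem hy

/-- Criterion for maximality: a prime of a quasi-finite algebra at which the generators are integral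
over the Artinian local base. -/
lemma isMaximal_of_quasiFinite {T O C : Type u} [CommRing T] [CommRing O] [IsArtinianRing O]
    [IsLocalRing O] [CommRing C] [Algebra O C] [Algebra T C] [Algebra.QuasiFinite T C]
    (P : Ideal C) [P.IsPrime] (hmP : (maximalIdeal O).map (algebraMap O C) ≤ P)
    (hT : ∀ t : T, IsIntegral O (Ideal.Quotient.mk P (algebraMap T C t))) : P.IsMaximal := by
  let D := C ⧸ P
  let : Algebra (ResidueField O) D :=
    (Ideal.Quotient.lift (maximalIdeal O) (algebraMap O D) fun x hx => by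
      change Ideal.Quotient.mk P (algebraMap O C x) = 0
      exact Ideal.Quotient.eq_zero_iff_mem.2 (hmP (Ideal.mem_map_of_mem _ hx))).toAlgebra
  have : IsScalarTower O (ResidueField O) D := IsScalarTower.of_algebraMap_eq fun _ => rfl
  let L := integralClosure (ResidueField O) D
  have hL : IsField L := isField_of_isIntegral_of_isField' (R := ResidueField O) (Field.toIsField _)
  let : Field L := hL.toField
  let χ : T →+* L := ((algebraMap T D).codRestrict L.toSubring fun t => (hT t).tower_top)
  let : Algebra T L := χ.toAlgebra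
  have : IsScalarTower T L D := IsScalarTower.of_algebraMap_eq fun _ => rfl
  have : Algebra.QuasiFinite T D := Algebra.QuasiFinite.of_surjective_algHom
    (Ideal.Quotient.mkₐ T P) Ideal.Quotient.mk_surjective
  have : Algebra.QuasiFinite L D := Algebra.QuasiFinite.of_restrictScalars T L D
  have : Module.Finite L D := Module.Finite.of_quasiFinite
  have : Algebra.IsIntegral L D := inferInstance
  exact Ideal.Quotient.maximal_of_isField _ (isField_of_isIntegral_of_isField' (R := L) hL)

lemma isArtinianRing_atPrime_of_minimal {A : Type u} [CommRing A] [IsNoetherianRing A] (p : Ideal A)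
    [p.IsPrime] (hp : p ∈ minimalPrimes A) : IsArtinianRing (Localization.AtPrime p) := by
  have := IsLocalization.isNoetherianRing p.primeCompl (Localization.AtPrime p) ‹_›
  rw [isArtinianRing_iff_isNilpotent_maximalIdeal, ← Localization.AtPrime.map_eq_maximalIdeal]
  have e := IsLocalization.AtPrime.radical_map_of_mem_minimalPrimes (Localization.AtPrime p) p ⊥
    hp
  rw [Ideal.map_bot] at e
  rw [← e]
  exact IsNoetherianRing.isNilpotent_nilradical _

attribute [local instance] Algebra.TensorProduct.rightAlgebra in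
open TensorProduct in
/-- A generic slice for finitely many flat algebras with a second structure map. -/
theorem exists_slice_minimalPrime {A : Type u} [CommRing A] [IsNoetherianRing A] (p : Ideal A)
    [p.IsPrime] (hp : p ∈ minimalPrimes A) {ι : Type*} [Finite ι] (N : ι → Type u)
    [∀ k, CommRing (N k)] (s t : ∀ k, A →+* N k) (hsf : ∀ k, (s k).Flat) (hst : ∀ k, (s k).FiniteType)
    (hqf : ∀ k, ∃ (T : Type u) (_ : CommRing T) (ψ : T →+* N k),
      ψ.QuasiFinite ∧ ψ.range ≤ (t k).range ⊔ (s k).range)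
    (hne : ∃ (k : ι) (q : Ideal (N k)), q.IsPrime ∧ q.comap (s k) = p) :
    ∃ I : Ideal A, (∃ (k : ι) (q : Ideal (N k)), q.IsPrime ∧ q.comap (s k) = p ∧ I.map (t k) ≤ q) ∧
      (∀ k, {q : PrimeSpectrum (N k) | q.asIdeal.comap (s k) = p ∧ I.map (t k) ≤ q.asIdeal}.Finite) ∧
      ∀ (k : ι) (q : Ideal (N k ⧸ I.map (t k))) [q.IsPrime],
        q.comap ((Ideal.Quotient.mk (I.map (t k))).comp (s k)) = p →
        ∃ g, g ∉ q ∧ ((algebraMap (N k ⧸ I.map (t k)) (Localization.Away g)).comp
          ((Ideal.Quotient.mk (I.map (t k))).comp (s k))).Flat := by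
  let : ∀ k, Algebra A (N k) := fun k => (s k).toAlgebra
  have : ∀ k, Algebra.FiniteType A (N k) := hst
  have : ∀ k, Module.Flat A (N k) := hsf
  let O := Localization.AtPrime p
  have : IsArtinianRing O := isArtinianRing_atPrime_of_minimal p hp
  have hmO : maximalIdeal O = p.map (algebraMap A O) := (Localization.AtPrime.map_eq_maximalIdeal).symm
  let C : ι → Type u := fun k => O ⊗[A] N k
  let j : ∀ k, N k →+* C k := fun k => algebraMap (N k) (O ⊗[A] N k)
  have hjs : ∀ k, (j k).comp (s k) = (algebraMap O (C k)).comp (algebraMap A O) := fun k => by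
    ext a
    exact (IsScalarTower.algebraMap_apply A (N k) (O ⊗[A] N k) a).symm.trans
      (IsScalarTower.algebraMap_apply A O (O ⊗[A] N k) a)
  have hmC : ∀ k, (maximalIdeal O).map (algebraMap O (C k)) = (p.map (s k)).map (j k) := fun k => by
    rw [hmO, Ideal.map_map, Ideal.map_map, hjs]
  have hcomap : ∀ k (P : Ideal (C k)) [P.IsPrime],
      (maximalIdeal O).map (algebraMap O (C k)) ≤ P → (P.comap (j k)).comap (s k) = p := by
    intro k P _ hle
    rw [Ideal.comap_comap, hjs, ← Ideal.comap_comap,
      ← ((maximalIdeal.isMaximal O).eq_of_le (Ideal.comap_ne_top _ (Ideal.IsPrime.ne_top ‹_›))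
        (Ideal.map_le_iff_le_comap.1 hle))]
    exact IsLocalization.AtPrime.under_maximalIdeal O p
  have hdisj : ∀ k (q : Ideal (N k)), q.comap (s k) = p →
      Disjoint (Algebra.algebraMapSubmonoid (N k) p.primeCompl : Set (N k)) q := by
    intro k q hq
    rw [Set.disjoint_left]
    rintro _ ⟨a, ha, rfl⟩ hmem
    exact ha (hq ▸ hmem)
  have hlift : ∀ k (q : Ideal (N k)), q.IsPrime → q.comap (s k) = p →
      (q.map (j k)).IsPrime ∧ (q.map (j k)).comap (j k) = q ∧
        (maximalIdeal O).map (algebraMap O (C k)) ≤ q.map (j k) := fun k q hq hqp =>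
    ⟨IsLocalization.isPrime_of_isPrime_disjoint (Algebra.algebraMapSubmonoid (N k) p.primeCompl) _ q hq
        (hdisj k q hqp),
      IsLocalization.under_map_of_isPrime_disjoint (Algebra.algebraMapSubmonoid (N k) p.primeCompl) _ hq
        (hdisj k q hqp),
      by rw [hmC]; exact Ideal.map_mono (Ideal.map_le_iff_le_comap.2 hqp.ge)⟩
  obtain ⟨I, hflat, hI, hmax⟩ := exists_slice (O := O) C (fun k => (j k).comp (t k))
    (fun k P _ hmP ha => by
      obtain ⟨T, _, ψ, hψ, hr⟩ := hqf k
      let : Algebra T (N k) := ψ.toAlgebra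
      have : Algebra.QuasiFinite T (N k) := hψ
      let : Algebra T (C k) := ((j k).comp ψ).toAlgebra
      have : IsScalarTower T (N k) (C k) := IsScalarTower.of_algebraMap_eq fun _ => rfl
      have : Algebra.QuasiFinite (N k) (C k) :=
        Algebra.QuasiFinite.of_isLocalization (Algebra.algebraMapSubmonoid (N k) p.primeCompl)
      have : Algebra.QuasiFinite T (C k) := Algebra.QuasiFinite.trans T (N k) (C k)
      refine isMaximal_of_quasiFinite (T := T) P hmP fun x => ?_
      suffices h : (t k).range ⊔ (s k).range ≤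
          ((integralClosure O (C k ⧸ P)).toSubring).comap ((Ideal.Quotient.mk P).comp (j k)) from
        h (hr ⟨x, rfl⟩)
      refine sup_le ?_ ?_ <;> rintro _ ⟨a, rfl⟩
      · exact ha a
      · change IsIntegral O (Ideal.Quotient.mk P ((j k).comp (s k) a))
        rw [hjs]
        exact (isIntegral_algebraMap (x := algebraMap A O a) (R := O) (A := C k ⧸ P)))
    (by
      obtain ⟨k, q, hq, hqp⟩ := hne
      obtain ⟨hp', -, hle⟩ := hlift k q hq hqp
      exact ⟨k, fun h => hp'.ne_top (top_le_iff.1 (h ▸ hle))⟩)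
  refine ⟨I, ?_, fun k => ?_, fun k q _ hq => ?_⟩
  · obtain ⟨k, hk⟩ := hI
    obtain ⟨P, hP, hle⟩ := Ideal.exists_le_maximal _ hk
    refine ⟨k, P.comap (j k), inferInstance, hcomap k P (le_sup_right.trans hle), ?_⟩
    rw [← Ideal.map_le_iff_le_comap, Ideal.map_map]
    exact le_sup_left.trans hle
  · have : IsNoetherianRing (C k) := Algebra.FiniteType.isNoetherianRing O (O ⊗[A] N k)
    refine Set.Finite.of_injOn (f := fun q : PrimeSpectrum (N k) => q.asIdeal.map (j k))
      (t := (sliceIdeal (O := O) ((j k).comp (t k)) I).minimalPrimes) ?_ ?_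
      (Ideal.finite_minimalPrimes_of_isNoetherianRing _ _)
    · rintro q ⟨hqp, hqI⟩
      obtain ⟨hp', -, hle⟩ := hlift k q.asIdeal q.2 hqp
      have hle' : sliceIdeal (O := O) ((j k).comp (t k)) I ≤ q.asIdeal.map (j k) :=
        sup_le (by rw [← Ideal.map_map]; exact Ideal.map_mono hqI) hle
      exact ⟨⟨hp', hle'⟩, fun Q hQ hQle =>
        (((have := hQ.1; hmax k Q hQ.2) : Q.IsMaximal).eq_of_le hp'.ne_top hQle).ge⟩
    · intro q hq q' hq' h
      apply PrimeSpectrum.ext
      change q.asIdeal.map (j k) = q'.asIdeal.map (j k) at h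
      rw [← (hlift k q.asIdeal q.2 hq.1).2.1, h, (hlift k q'.asIdeal q'.2 hq'.1).2.1]
  · let N' := N k ⧸ I.map (t k)
    let C' := C k ⧸ (I.map (t k)).map (algebraMap (N k) (O ⊗[A] N k))
    have e : (I.map (t k)).map (algebraMap (N k) (O ⊗[A] N k)) = I.map ((j k).comp (t k)) := Ideal.map_map _ _
    have := hflat k
    have : Module.Flat O C' :=
      Module.Flat.of_linearEquiv (Ideal.quotientEquivAlgOfEq O e).toLinearEquiv
    have : Module.Flat A O := IsLocalization.flat O p.primeCompl
    have : Module.Flat A C' := Module.Flat.trans A O C'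
    let M := Algebra.algebraMapSubmonoid N' (Algebra.algebraMapSubmonoid (N k) p.primeCompl)
    have : IsLocalization M C' := inferInstance
    have hM : M ≤ q.primeCompl := by
      rintro _ ⟨_, ⟨a, ha, rfl⟩, rfl⟩ hmem
      exact ha (hq ▸ hmem)
    let : Algebra C' (Localization.AtPrime q) := (IsLocalization.lift (M := M)
      (g := algebraMap N' (Localization.AtPrime q))
      fun y => IsLocalization.map_units (Localization.AtPrime q) ⟨y.1, hM y.2⟩).toAlgebra
    have : IsScalarTower N' C' (Localization.AtPrime q) :=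
      ⟨fun x y z => by
        rw [Algebra.smul_def x y, Algebra.smul_def, Algebra.smul_def y z, Algebra.smul_def x, map_mul,
          mul_assoc]
        congr 1
        exact IsLocalization.lift_eq _ x⟩
    have : IsScalarTower A N' C' := IsScalarTower.of_algebraMap_eq fun a => by
      change algebraMap A C' a = Ideal.Quotient.mk _ (algebraMap (N k) (C k) (algebraMap A (N k) a))
      rw [← IsScalarTower.algebraMap_apply A (N k) (O ⊗[A] N k)]; rfl
    have : IsScalarTower A C' (Localization.AtPrime q) := IsScalarTower.to₁₃₄ A N' C' _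
    have := IsLocalization.isLocalization_of_submonoid_le C' (Localization.AtPrime q) M q.primeCompl hM
    have : Module.Flat C' (Localization.AtPrime q) :=
      IsLocalization.flat (R := C') (Localization.AtPrime q)
        (Submonoid.map (algebraMap N' C' : N' →+* C') q.primeCompl)
    have : Module.Flat A (Localization.AtPrime q) := Module.Flat.trans A C' _
    obtain ⟨g, hg, hflatg⟩ := LCI19.exists_flat_nhd (R := A) q
    refine ⟨g, hg, ?_⟩
    have hsq : ((algebraMap N' (Localization.Away g)).comp ((Ideal.Quotient.mk _).comp (s k))) =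
        algebraMap A (Localization.Away g) :=
      (IsScalarTower.algebraMap_eq A N' (Localization.Away g)).symm
    rw [hsq, RingHom.flat_algebraMap_iff]
    refine Module.flat_of_isLocalized_maximal (R := A) (Localization.Away g) (Localization.Away g)
      (fun P => Localization.AtPrime P) (fun P => Algebra.linearMap (Localization.Away g) _) fun P _ => ?_
    let P' : Ideal N' := P.comap (algebraMap N' (Localization.Away g))
    have hgP : g ∉ P' := fun h => (Ideal.IsMaximal.ne_top (I := P) inferInstance)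
      (P.eq_top_of_isUnit_mem h (IsLocalization.Away.algebraMap_isUnit g))
    have := hflatg P' hgP
    exact Module.Flat.of_linearEquiv
      ((IsLocalization.localizationLocalizationAtPrimeIsoLocalization (Submonoid.powers g) P).symm.toLinearEquiv.restrictScalars A)

end Groth.Agent.GrpQ80
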